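import Cfsg.Agent.Lib.DegreeThreeP.Moments
import Cfsg.Agent.Lib.Characters.PermTwo

/-!
# Permutation characters of actions of degree a multiple of `p`
-/

set_option autoImplicit false
set_option linter.style.haveILetI false
set_option linter.unusedSectionVars false

noncomputable section

namespace CfsgLib.DegreeThreeP

open Cfsg CfsgLib.Characters MulAction
open scoped ComplexConjugate Classical

universe u v

variable {p : ℕ} [hp : Fact p.Prime] {G : Type u} [Group G] [Fintype G]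
  {Ω : Type v} [Fintype Ω] [MulAction G Ω]

/-- The number of fixed points. -/
def fx (Ω : Type v) [MulAction G Ω] (g : G) : ℤ := (Nat.card (fixedBy Ω g) : ℤ)

theorem fx_nonneg (g : G) : 0 ≤ fx Ω g := Int.natCast_nonneg _

theorem fx_one : fx Ω (1 : G) = (Fintype.card Ω : ℤ) := by
  rw [fx, fixedBy_one_eq_univ, Nat.card_congr (Equiv.Set.univ Ω), Nat.card_eq_fintype_card]

theorem fx_eq_card (g : G) :
    fx Ω g = ((Finset.univ.filter fun δ : Ω => g • δ = δ).card : ℤ) := by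
  rw [fx, Nat.card_eq_fintype_card, ← Fintype.card_subtype]
  rfl

theorem isCharacter_fx : IsCharacter G (fun g : G => (fx Ω g : ℂ)) := by
  haveI : Fintype (Quotient (orbitRel G Ω)) := Fintype.ofFinite _
  have : (fun g : G => (fx Ω g : ℂ)) = fun g => (PermChar.fixCount Ω g : ℂ) := by
    funext g
    rw [fx, Int.cast_natCast]
    rfl
  rw [this, PermChar.fixCount_eq_sum_orbits Ω]
  exact isCharacter_sum _ fun ω _ => Induction.isCharacter_indFun _ Induction.isCharacter_const_one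

theorem sum_fx [Nonempty Ω] [IsPretransitive G Ω] : ∑ g : G, fx Ω g = (Nat.card G : ℤ) := by
  haveI : Subsingleton (Quotient (orbitRel G Ω)) :=
    (pretransitive_iff_subsingleton_quotient G Ω).mp inferInstance
  have h1 : Nat.card (Quotient (orbitRel G Ω)) = 1 :=
    Nat.card_eq_one_iff_unique.mpr ⟨inferInstance, ⟨Quotient.mk _ (Classical.arbitrary Ω)⟩⟩
  have h := PermTwo.sum_fixedBy (G := G) Ω
  rw [h1, Nat.cast_one, one_mul] at h
  refine Int.cast_injective (α := ℂ) ?_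
  push_cast [fx]
  exact h

theorem card_stabilizer_mul [IsPretransitive G Ω] (δ : Ω) :
    Nat.card (stabilizer G δ) * Fintype.card Ω = Nat.card G := by
  rw [← Subgroup.card_mul_index (stabilizer G δ), index_stabilizer_of_transitive G δ,
    Nat.card_eq_fintype_card (α := Ω)]

theorem fx_sing (D : Dat p G) [IsPretransitive G Ω] {n : ℕ} (hn : Fintype.card Ω = n * p)
    {g : G} (hg : p ∣ orderOf g) : fx Ω g = 0 := by
  rw [fx_eq_card, Nat.cast_eq_zero, Finset.card_eq_zero, Finset.filter_eq_empty_iff]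
  intro δ _ hδ
  obtain ⟨N, hN, hpN⟩ := D.card_eq
  obtain ⟨j, hj⟩ := hg.trans (Subgroup.orderOf_dvd_natCard _ (show g ∈ stabilizer G δ from hδ))
  have h := card_stabilizer_mul (G := G) δ
  rw [hn, hj, hN] at h
  have h2 : 2 * N = j * n * p := by
    refine Nat.eq_of_mul_eq_mul_left hp.out.pos ?_
    linarith
  have h3 : p ∣ 2 * N := h2 ▸ dvd_mul_left p _
  rcases hp.out.dvd_mul.1 h3 with h4 | h4
  · have := Nat.le_of_dvd (by norm_num) h4
    have := D.p5
    omega
  · exact hpN h4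

/-- The complement of the principal block. -/
def Dat.out (D : Dat p G) : Finset (IrrCharacter G) :=
  Finset.univ \ insert (principalIrr G) (insert D.χ D.Y)

/-- The decomposition of the permutation character. -/
theorem exists_decomp (D : Dat p G) [Nonempty Ω] [IsPretransitive G Ω] {n : ℕ}
    (hn : Fintype.card Ω = n * p) :
    ∃ (m b r : ℕ) (c d : IrrCharacter G → ℕ),
      (∀ g : G, (fx Ω g : ℂ) = 1 + (m : ℂ) * (D.χ : G → ℂ) g +
        (b : ℂ) * ∑ ψ ∈ D.Y, (ψ : G → ℂ) g + ∑ ψ ∈ D.out, (c ψ : ℂ) * (ψ : G → ℂ) g) ∧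
      (∀ ψ ∈ D.out, (ψ : G → ℂ) 1 = ((p * d ψ : ℕ) : ℂ) ∧ 0 < d ψ) ∧
      r = ∑ ψ ∈ D.out, c ψ * d ψ ∧
      1 + (m : ℤ) * D.s - (b : ℤ) * D.s = 0 ∧
      (n : ℤ) * p = 1 + (m : ℤ) * D.X + (b : ℤ) * D.Y.card * D.Th + (p : ℤ) * r := by
  have hπ := isCharacter_fx (G := G) (Ω := Ω)
  choose c hc using fun ψ : IrrCharacter G => classInner_char_nat hπ (irr_isCharacter ψ)
  have hsum : ∀ g : G, (fx Ω g : ℂ) = ∑ ψ : IrrCharacter G, (c ψ : ℂ) * (ψ : G → ℂ) g := by
    intro g
    have h := congrFun (classFunction_eq_sum (isClassFunction_of_isCharacter hπ)) g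
    simp only [Finset.sum_apply, Pi.smul_apply, smul_eq_mul, hc] at h
    exact h
  have hone : c (principalIrr G) = 1 := by
    have h := hc (principalIrr G)
    simp only [classInner, principalIrr_apply, map_one, mul_one, ← Int.cast_sum, sum_fx,
      Int.cast_natCast] at h
    rw [inv_mul_cancel₀ (Nat.cast_ne_zero.2 Nat.card_pos.ne')] at h
    exact_mod_cast h.symm
  have hY : ∀ ψ ∈ D.Y, ∀ ψ' ∈ D.Y, c ψ = c ψ' := by
    intro ψ hψ ψ' hψ'
    have h : classInner (fun g : G => (fx Ω g : ℂ)) (ψ : G → ℂ) =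
        classInner (fun g : G => (fx Ω g : ℂ)) (ψ' : G → ℂ) := by
      simp only [classInner]
      refine congrArg _ (Finset.sum_congr rfl fun g _ => ?_)
      by_cases hg : p ∣ orderOf g
      · rw [fx_sing D hn hg, Int.cast_zero, zero_mul, zero_mul]
      · rw [D.Y_reg ψ hψ g hg, D.Y_reg ψ' hψ' g hg]
    rw [hc, hc] at h
    exact_mod_cast h
  obtain ⟨ψ₀, hψ₀⟩ := D.Y_nonempty
  have hd : ∀ ψ : IrrCharacter G, ∃ d : ℕ, ψ ∈ D.out →
      (ψ : G → ℂ) 1 = ((p * d : ℕ) : ℂ) ∧ 0 < d := by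
    intro ψ
    by_cases hψ : ψ ∈ D.out
    · rw [Dat.out, Finset.mem_sdiff, Finset.mem_insert, Finset.mem_insert, not_or, not_or] at hψ
      obtain ⟨d, hd⟩ := (D.outside ψ hψ.2.1 hψ.2.2.1 hψ.2.2.2).2
      obtain ⟨h1, -, h3⟩ := ClassCount.degree_eq ψ
      refine ⟨d, fun _ => ⟨by rw [h1, hd], ?_⟩⟩
      exact Nat.pos_of_ne_zero fun e => by rw [hd, e, mul_zero] at h3; omega
    · exact ⟨0, fun h => absurd h hψ⟩
  choose d hd using hd
  have heq : ∀ g : G, (fx Ω g : ℂ) = 1 + (c D.χ : ℂ) * (D.χ : G → ℂ) g +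
      (c ψ₀ : ℂ) * ∑ ψ ∈ D.Y, (ψ : G → ℂ) g + ∑ ψ ∈ D.out, (c ψ : ℂ) * (ψ : G → ℂ) g := by
    intro g
    rw [hsum g, D.sum_irr, hone, principalIrr_apply, Finset.mul_sum,
      Finset.sum_congr rfl fun ψ hψ => by rw [hY ψ hψ ψ₀ hψ₀]]
    simp [Dat.out]
  refine ⟨c D.χ, c ψ₀, _, c, d, heq, fun ψ => hd ψ, rfl, ?_, ?_⟩
  · have h := heq D.x
    rw [fx_sing D hn D.x_sing, D.val, D.a_sing _ D.x_sing, D.Y_sing _ D.x_sing,
      Finset.sum_eq_zero (s := D.out) (fun ψ hψ => by rw [D.outside_zero hψ D.x_sing, mul_zero])] at h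
    refine Int.cast_injective (α := ℂ) ?_
    push_cast at h ⊢
    linear_combination -h
  · have h := heq 1
    rw [fx_one, hn, D.val_one, Finset.sum_congr rfl fun ψ hψ => D.Y_one hψ, Finset.sum_const,
      nsmul_eq_mul, Finset.sum_congr (s₁ := D.out) rfl fun ψ hψ => by rw [(hd ψ hψ).1]] at h
    refine Int.cast_injective (α := ℂ) ?_
    push_cast at h ⊢
    rw [h, Finset.mul_sum]
    simp only [mul_assoc, mul_left_comm (p : ℂ)]

end CfsgLib.DegreeThreeP
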