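import Cfsg.Agent.Lib.DegreeThreeP.Action

/-!
# The possible degrees for actions on `p` or `3p` points
-/

set_option autoImplicit false
set_option linter.unusedSectionVars false

noncomputable section

namespace CfsgLib.DegreeThreeP

universe u

variable {p : ℕ} [hp : Fact p.Prime] {G : Type u} [Group G] [Fintype G]

theorem degree_one (D : Dat p G) {m b r : ℕ} (h1 : 1 + (m : ℤ) * D.s - (b : ℤ) * D.s = 0)
    (h2 : ((1 : ℕ) : ℤ) * p = 1 + (m : ℤ) * D.X + (b : ℤ) * D.Y.card * D.Th + (p : ℤ) * r) :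
    D.s = -1 ∧ D.k = 1 := by
  have hp5 : (5 : ℤ) ≤ p := by exact_mod_cast D.p5
  have hk : (1 : ℤ) ≤ D.k := by exact_mod_cast D.k_pos
  have hq : (2 : ℤ) ≤ D.Y.card := by
    have := D.Y_card
    have := D.p5
    omega
  have hr : (0 : ℤ) ≤ (p : ℤ) * r := by positivity
  have hkp : (p : ℤ) ≤ (D.k : ℤ) * p := le_mul_of_one_le_left (by linarith) hk
  simp only [Dat.Th, Dat.X] at h2
  push_cast at h2
  rcases D.s_sign with e | e <;> rw [e] at h1 h2
  · exfalso
    have hb : (b : ℤ) = m + 1 := by linarith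
    have h3 : 0 ≤ (m : ℤ) * ((D.k : ℤ) * p + 1) := by positivity
    have h4 : (2 : ℤ) * ((D.k : ℤ) * p + 1 + 1) ≤ (b : ℤ) * D.Y.card * ((D.k : ℤ) * p + 1 + 1) :=
      mul_le_mul_of_nonneg_right (by nlinarith) (by positivity)
    linarith
  · refine ⟨e, ?_⟩
    have hm : (m : ℤ) = b + 1 := by linarith
    have h3 : 0 ≤ (b : ℤ) * ((D.k : ℤ) * p + -1) := mul_nonneg (by positivity) (by linarith)
    have h4 : 0 ≤ (b : ℤ) * D.Y.card * ((D.k : ℤ) * p + -1 + -1) :=
      mul_nonneg (by positivity) (by linarith)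
    rw [hm] at h2
    have h5 : (D.k : ℤ) * p ≤ 1 * p := by linarith
    have := le_of_mul_le_mul_right h5 (by linarith)
    omega

theorem degree_three (D : Dat p G) {m b r : ℕ} (h1 : 1 + (m : ℤ) * D.s - (b : ℤ) * D.s = 0)
    (h2 : ((3 : ℕ) : ℤ) * p = 1 + (m : ℤ) * D.X + (b : ℤ) * D.Y.card * D.Th + (p : ℤ) * r) :
    (D.s = -1 ∧ D.k = 1) ∨ (D.s = -1 ∧ D.k = 2 ∧ m = 1 ∧ b = 0 ∧ r = 1) ∨
      (D.s = -1 ∧ D.k = 3 ∧ m = 1 ∧ b = 0 ∧ r = 0) ∨
      (D.s = 1 ∧ p = 5 ∧ D.k = 1 ∧ m = 0 ∧ b = 1 ∧ r = 0) := by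
  have hp5 : (5 : ℤ) ≤ p := by exact_mod_cast D.p5
  have hk : (1 : ℤ) ≤ D.k := by exact_mod_cast D.k_pos
  have hY := D.Y_card
  have hq : (2 : ℤ) ≤ D.Y.card := by
    have := D.p5
    omega
  have hr : (0 : ℤ) ≤ (p : ℤ) * r := by positivity
  simp only [Dat.Th, Dat.X] at h2
  push_cast at h2
  rcases D.s_sign with e | e <;> rw [e] at h1 h2
  · right; right; right
    have hb : (b : ℤ) = m + 1 := by linarith
    have hkp : (p : ℤ) ≤ (D.k : ℤ) * p := le_mul_of_one_le_left (by linarith) hk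
    rw [hb] at h2
    have hm : m = 0 := by
      by_contra hm
      have hm1 : (1 : ℤ) ≤ m := by exact_mod_cast Nat.pos_of_ne_zero hm
      have h3 : 1 * ((p : ℤ) + 1) ≤ (m : ℤ) * ((D.k : ℤ) * p + 1) :=
        mul_le_mul hm1 (by linarith) (by positivity) (by positivity)
      have h4 : 2 * 2 * ((p : ℤ) + 2) ≤ ((m : ℤ) + 1) * D.Y.card * ((D.k : ℤ) * p + 1 + 1) :=
        mul_le_mul (mul_le_mul (by linarith) hq (by norm_num) (by positivity)) (by linarith)
          (by positivity) (by positivity)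
      linarith
    subst hm
    simp only [Nat.cast_zero, zero_mul, zero_add, one_mul, add_zero] at h2
    have hq2 : D.Y.card = 2 := by
      by_contra hne
      have h3 : (3 : ℤ) ≤ D.Y.card := by omega
      have h4 : 3 * ((p : ℤ) + 2) ≤ (D.Y.card : ℤ) * ((D.k : ℤ) * p + 1 + 1) :=
        mul_le_mul h3 (by linarith) (by positivity) (by positivity)
      linarith
    have hp : p = 5 := by omega
    rw [hq2] at h2
    have hp' : (p : ℤ) = 5 := by exact_mod_cast hp
    simp only [hp'] at h2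
    push_cast at h2
    refine ⟨e, hp, by omega, rfl, by omega, by omega⟩
  · have hm : (m : ℤ) = b + 1 := by linarith
    by_cases hk1 : D.k = 1
    · exact Or.inl ⟨e, hk1⟩
    · have hk2 : (2 : ℤ) ≤ D.k := by
        have := D.k_pos
        omega
      have hkp : 2 * (p : ℤ) ≤ (D.k : ℤ) * p := mul_le_mul_of_nonneg_right hk2 (by linarith)
      rw [hm] at h2
      have hb : b = 0 := by
        by_contra hb
        have hb1 : (1 : ℤ) ≤ b := by exact_mod_cast Nat.pos_of_ne_zero hb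
        have h3 : 2 * (2 * (p : ℤ) - 1) ≤ ((b : ℤ) + 1) * ((D.k : ℤ) * p + -1) :=
          mul_le_mul (by linarith) (by linarith) (by linarith) (by positivity)
        have h4 : 0 ≤ (b : ℤ) * D.Y.card * ((D.k : ℤ) * p + -1 + -1) :=
          mul_nonneg (by positivity) (by linarith)
        linarith
      subst hb
      simp only [Nat.cast_zero, zero_mul, zero_add, one_mul, add_zero] at h2 hm
      have h3 : ((3 : ℤ) - D.k - r) * p = 0 := by linarith
      have h4 : (3 : ℤ) - D.k - r = 0 := (mul_eq_zero.1 h3).resolve_right (by linarith)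
      rcases (show D.k = 2 ∨ D.k = 3 by omega) with hk' | hk'
      · exact Or.inr (Or.inl ⟨e, hk', by omega, rfl, by omega⟩)
      · exact Or.inr (Or.inr (Or.inl ⟨e, hk', by omega, rfl, by omega⟩))

end CfsgLib.DegreeThreeP
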