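import Cfsg.Agent.Lib.DegreeThreeP.Action

/-!
# Fixed vectors of point stabilisers
-/

set_option autoImplicit false
set_option linter.style.haveILetI false
set_option linter.unusedSectionVars false

noncomputable section

namespace CfsgLib.DegreeThreeP

open Cfsg CfsgLib.Characters MulAction
open scoped Classical

universe u v

variable {G : Type u} [Group G] [Fintype G] {Ω : Type v} [Fintype Ω] [MulAction G Ω]

/-- Sums of a character over a subgroup count fixed vectors. -/
theorem sum_subgroup {n : ℕ} (ρ : Representation ℂ G (Fin n → ℂ)) (K : Subgroup G) :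
    ∑ g ∈ Finset.univ.filter (fun g => g ∈ K), ρ.character g =
      (Nat.card K : ℂ) *
        (Module.finrank ℂ (Representation.invariants (ρ.comp K.subtype)) : ℂ) := by
  let σ : Representation ℂ K (Fin n → ℂ) := ρ.comp K.subtype
  have : Invertible (Nat.card K : ℂ) := invertibleOfNonzero (Nat.cast_ne_zero.2 Nat.card_pos.ne')
  show _ = (Nat.card K : ℂ) * (Module.finrank ℂ (Representation.invariants σ) : ℂ)
  rw [← Representation.card_inv_mul_sum_char_eq_finrank σ, ← mul_assoc,
    mul_inv_cancel₀ (Nat.cast_ne_zero.2 Nat.card_pos.ne'), one_mul]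
  rw [Finset.sum_subtype (Finset.univ.filter fun g => g ∈ K) (p := fun g => g ∈ K) (fun g => by simp)]
  rfl

/-- For a primitive action and a nontrivial irreducible character meeting the permutation
character, two-point stabilisers fix a space of dimension at least two. -/
theorem two_le_fixed [IsPretransitive G Ω] {n : ℕ} (ρ : Representation ℂ G (Fin n → ℂ))
    (a : G → ℤ) (hρ : ∀ g, ρ.character g = (a g : ℂ)) (ha : ∑ g, a g = 0)
    (hπ : 0 < ∑ g, fx Ω g * a g) (hco : ∀ α : Ω, IsCoatom (stabilizer G α))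
    (hne : ∀ α β : Ω, α ≠ β → stabilizer G α ≠ stabilizer G β) (α β : Ω) :
    (if α = β then (1 : ℤ) else 2) *
        ((Finset.univ.filter fun g : G => g • α = α ∧ g • β = β).card : ℤ) ≤
      ∑ g ∈ Finset.univ.filter (fun g : G => g • α = α ∧ g • β = β), a g := by
  -- fixed vectors of the stabilisers
  have hinv : ∀ γ : Ω, ∃ v : Fin n → ℂ, v ≠ 0 ∧ ∀ g ∈ stabilizer G γ, ρ g v = v := by
    obtain ⟨γ₀, hγ₀⟩ : ∃ γ₀ : Ω,
        0 < ∑ g ∈ Finset.univ.filter (fun g : G => g • γ₀ = γ₀), a g := by
      by_contra hc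
      refine hπ.not_ge ?_
      simp only [fx_eq_card, Finset.card_filter, Nat.cast_sum, Finset.sum_mul]
      rw [Finset.sum_comm]
      refine Finset.sum_nonpos fun γ _ => ?_
      have h := not_lt.1 (not_exists.1 hc γ)
      rw [Finset.sum_filter] at h
      refine le_of_eq_of_le (Finset.sum_congr rfl fun g _ => ?_) h
      by_cases hg : g • γ = γ <;> simp [hg]
    set σ₀ : Representation ℂ (stabilizer G γ₀) (Fin n → ℂ) := ρ.comp (stabilizer G γ₀).subtype
    have hne0 : Representation.invariants σ₀ ≠ ⊥ := by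
      intro h
      have h1 := sum_subgroup ρ (stabilizer G γ₀)
      rw [show Representation.invariants (ρ.comp (stabilizer G γ₀).subtype) = ⊥ from h, finrank_bot,
        Nat.cast_zero, mul_zero, Finset.sum_congr rfl fun g _ => hρ g, ← Int.cast_sum,
        Int.cast_eq_zero] at h1
      refine hγ₀.ne' (Eq.trans ?_ h1)
      exact Finset.sum_congr (by ext g; simp) fun _ _ => rfl
    obtain ⟨v, hv, hv0⟩ := Submodule.exists_mem_ne_zero_of_ne_bot hne0
    intro γ
    obtain ⟨c, rfl⟩ := exists_smul_eq G γ₀ γ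
    refine ⟨ρ c v, fun e => hv0 ?_, fun g hg => ?_⟩
    · have := congrArg (ρ c⁻¹) e
      rwa [map_zero, ← Module.End.mul_apply, ← map_mul, inv_mul_cancel, map_one,
        Module.End.one_apply] at this
    · have hm : c⁻¹ * g * c ∈ stabilizer G γ₀ := by
        rw [mem_stabilizer_iff, mul_smul, mul_smul, mem_stabilizer_iff.1 hg, inv_smul_smul]
      have h1 : ρ (c⁻¹ * g * c) v = v := hv ⟨_, hm⟩
      calc ρ g (ρ c v) = ρ c (ρ (c⁻¹ * g * c) v) := by
            rw [← Module.End.mul_apply, ← Module.End.mul_apply, ← map_mul, ← map_mul]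
            simp [mul_assoc]
        _ = ρ c v := by rw [h1]
  have hglob : ∀ v : Fin n → ℂ, (∀ g : G, ρ g v = v) → v = 0 := by
    intro v hv
    have h1 := sum_subgroup ρ ⊤
    simp only [Subgroup.mem_top, Finset.filter_true, hρ, ← Int.cast_sum, ha, Int.cast_zero] at h1
    rcases mul_eq_zero.1 h1.symm with h | h
    · exact absurd (Nat.cast_eq_zero.1 h) (Nat.card_pos (α := (⊤ : Subgroup G))).ne'
    · have h2 := Submodule.finrank_eq_zero.1 (Nat.cast_eq_zero.1 h)
      have h3 : v ∈ Representation.invariants (ρ.comp (⊤ : Subgroup G).subtype) := fun g => hv g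
      rw [h2] at h3
      exact (Submodule.mem_bot ℂ).1 h3
  set K := stabilizer G α ⊓ stabilizer G β
  have hset : (Finset.univ.filter fun g : G => g • α = α ∧ g • β = β) =
      Finset.univ.filter (fun g : G => g ∈ K) := by
    ext g; simp [K]
  set σ : Representation ℂ K (Fin n → ℂ) := ρ.comp K.subtype
  have hsum : ∑ g ∈ Finset.univ.filter (fun g : G => g ∈ K), a g =
      (Nat.card K : ℤ) * (Module.finrank ℂ (Representation.invariants σ) : ℤ) := by
    refine Int.cast_injective (α := ℂ) ?_
    push_cast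
    rw [← Finset.sum_congr rfl fun g _ => hρ g]
    exact sum_subgroup ρ K
  rw [hset, hsum, ← Fintype.card_subtype, ← Nat.card_eq_fintype_card,
    show Nat.card {g : G // g ∈ K} = Nat.card K from rfl, mul_comm]
  refine mul_le_mul_of_nonneg_left ?_ (Int.natCast_nonneg _)
  obtain ⟨v, hv0, hv⟩ := hinv α
  obtain ⟨w, hw0, hw⟩ := hinv β
  have hvm : v ∈ Representation.invariants σ := fun g => hv g g.2.1
  have hwm : w ∈ Representation.invariants σ := fun g => hw g g.2.2
  split_ifs with hab
  · have h1 : Module.finrank ℂ (Representation.invariants σ) ≠ 0 := fun h => hv0 (by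
      rw [Submodule.finrank_eq_zero.1 h] at hvm
      exact (Submodule.mem_bot ℂ).1 hvm)
    omega
  · by_contra hlt
    have h1 : Module.finrank ℂ (Representation.invariants σ) ≤ 1 := by omega
    obtain ⟨u, hu⟩ := finrank_le_one_iff.1 h1
    obtain ⟨c, hc⟩ := hu ⟨v, hvm⟩
    obtain ⟨d, hd⟩ := hu ⟨w, hwm⟩
    have hc' : c • (u : Fin n → ℂ) = v := congrArg Subtype.val hc
    have hd' : d • (u : Fin n → ℂ) = w := congrArg Subtype.val hd
    have hc0 : c ≠ 0 := fun e => hv0 (by rw [← hc', e, zero_smul])
    have hd0 : d ≠ 0 := fun e => hw0 (by rw [← hd', e, zero_smul])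
    have hvw : w = (d * c⁻¹) • v := by
      rw [← hc', smul_smul, mul_assoc, inv_mul_cancel₀ hc0, mul_one, hd']
    let S : Subgroup G :=
      { carrier := {g | ρ g v = v}
        one_mem' := by simp
        mul_mem' := fun {g g'} (hg : ρ g v = v) (hg' : ρ g' v = v) => by
          show ρ (g * g') v = v
          rw [map_mul, Module.End.mul_apply, hg', hg]
        inv_mem' := fun {g} (hg : ρ g v = v) => by
          show ρ g⁻¹ v = v
          conv_lhs => rw [← hg]
          rw [← Module.End.mul_apply, ← map_mul, inv_mul_cancel, map_one, Module.End.one_apply] }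
    have hSα : stabilizer G α ≤ S := fun g hg => hv g hg
    have hSβ : stabilizer G β ≤ S := fun g hg => by
      show ρ g v = v
      have := hw g hg
      rw [hvw, map_smul] at this
      exact smul_right_injective (Fin n → ℂ) (mul_ne_zero hd0 (inv_ne_zero hc0)) this
    have hStop : S = ⊤ := by
      rcases (hco α).le_iff.1 hSα with h | h
      · exact h
      · exfalso
        rw [h] at hSβ
        rcases (hco β).le_iff.1 hSβ with h2 | h2
        · exact (hco α).1 h2
        · exact hne α β hab h2
    exact hv0 (hglob v fun g => (hStop ▸ Subgroup.mem_top g : g ∈ S))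

/-- The bound for the mean of `f² χ`. -/
theorem five_le_sq_mul [IsPretransitive G Ω] {n : ℕ} (ρ : Representation ℂ G (Fin n → ℂ))
    (a : G → ℤ) (hρ : ∀ g, ρ.character g = (a g : ℂ)) (ha : ∑ g, a g = 0)
    (hπ : 0 < ∑ g, fx Ω g * a g) (hco : ∀ α : Ω, IsCoatom (stabilizer G α))
    (hne : ∀ α β : Ω, α ≠ β → stabilizer G α ≠ stabilizer G β) :
    2 * ∑ g : G, fx Ω g ^ 2 - ∑ g : G, fx Ω g ≤ ∑ g : G, fx Ω g ^ 2 * a g := by
  have hf : ∀ g : G, fx Ω g = ∑ δ : Ω, if g • δ = δ then (1 : ℤ) else 0 := fun g => by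
    rw [fx_eq_card, Finset.card_filter, Nat.cast_sum]
    exact Finset.sum_congr rfl fun δ _ => by split_ifs <;> simp
  have hR : ∀ F : G → ℤ, ∑ g : G, fx Ω g ^ 2 * F g = ∑ α : Ω, ∑ β : Ω,
      ∑ g ∈ Finset.univ.filter (fun g : G => g • α = α ∧ g • β = β), F g := by
    intro F
    simp only [Finset.sum_filter, pow_two, hf, Finset.sum_mul, Finset.mul_sum]
    rw [Finset.sum_comm]
    refine Finset.sum_congr rfl fun α _ => ?_
    rw [Finset.sum_comm]
    refine Finset.sum_congr rfl fun β _ => Finset.sum_congr rfl fun g _ => ?_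
    split_ifs <;> simp_all
  have hL : 2 * ∑ g : G, fx Ω g ^ 2 - ∑ g : G, fx Ω g = ∑ α : Ω, ∑ β : Ω,
      (if α = β then (1 : ℤ) else 2) *
        ((Finset.univ.filter fun g : G => g • α = α ∧ g • β = β).card : ℤ) := by
    have h1 := hR (fun _ => 1)
    simp only [mul_one, Finset.sum_const, nsmul_eq_mul] at h1
    have h2 : ∑ g : G, fx Ω g = ∑ α : Ω, ∑ β : Ω, if α = β then
        ((Finset.univ.filter fun g : G => g • α = α ∧ g • β = β).card : ℤ) else 0 := by
      simp only [Finset.sum_ite_eq, Finset.mem_univ, if_true, and_self, Finset.card_filter,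
        Nat.cast_sum, hf]
      rw [Finset.sum_comm]
      exact Finset.sum_congr rfl fun δ _ => Finset.sum_congr rfl fun g _ => by split_ifs <;> simp
    rw [h1, h2, Finset.mul_sum, ← Finset.sum_sub_distrib]
    refine Finset.sum_congr rfl fun α _ => ?_
    rw [Finset.mul_sum, ← Finset.sum_sub_distrib]
    exact Finset.sum_congr rfl fun β _ => by split_ifs <;> ring
  rw [hL, hR]
  exact Finset.sum_le_sum fun α _ => Finset.sum_le_sum fun β _ =>
    two_le_fixed ρ a hρ ha hπ hco hne α β

end CfsgLib.DegreeThreeP
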