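import Cfsg.Agent.Lib.DegreeThreeP.Moments
import Cfsg.Agent.Lib.BrauerReynolds.Main
import Cfsg.Agent.Lib.ClassicalGroups.SmallIso
import Cfsg.Agent.Lib.PSL2.Borel
import Cfsg.Agent.Lib.PSL2.Line
import Cfsg.Agent.Lib.PSL2.Basic
import Mathlib.FieldTheory.Finite.GaloisField

/-!
# The smallest degree: recognition of `PSL(2, p - 1)`
-/

set_option autoImplicit false
set_option linter.style.haveILetI false
set_option linter.unusedSectionVars false

noncomputable section

namespace CfsgLib.DegreeThreeP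

open Cfsg MulAction
open scoped Classical

universe u v

variable {p : ℕ} [hp : Fact p.Prime] {G : Type u} [Group G] [Fintype G]

theorem card_sylow_eq (D : Dat p G) (Q : Sylow p G) : Nat.card Q = p := by
  obtain ⟨n, hn, hpn⟩ := D.card_eq
  obtain ⟨j, hj⟩ := IsPGroup.iff_card.1 Q.2
  have h1 : p ∣ Nat.card (Q : Subgroup G) := Q.dvd_card_of_dvd_card ⟨2 * n, by rw [hn]; ring⟩
  have h2 := Subgroup.card_subgroup_dvd_card (Q : Subgroup G)
  rw [hj] at h1 h2 ⊢
  rcases j with _ | _ | j
  · rw [pow_zero, Nat.dvd_one] at h1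
    exact absurd h1 hp.out.one_lt.ne'
  · rw [pow_one]
  · exfalso
    have h3 : p * p ∣ p * (2 * n) := by
      rw [show p * (2 * n) = Nat.card G by rw [hn]; ring]
      exact dvd_trans ⟨p ^ j, by rw [pow_succ, pow_succ]; ring⟩ h2
    rcases hp.out.dvd_mul.1 (Nat.dvd_of_mul_dvd_mul_left hp.out.pos h3) with h | h
    · have := Nat.le_of_dvd (by norm_num) h
      have := D.p5
      omega
    · exact hpn h

theorem card_k_one (D : Dat p G) (hs : D.s = -1) (hk : D.k = 1) :
    (Nat.card G : ℤ) = (p : ℤ) * ((p : ℤ) - 1) * ((p : ℤ) - 2) := by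
  have hX : D.X = (p : ℤ) - 1 := by simp [Dat.X, hs, hk, sub_eq_add_neg]
  have hT : D.Th = (p : ℤ) - 2 := by simp [Dat.Th, hX, hs]; ring
  have hp5 : (5 : ℤ) ≤ p := by exact_mod_cast D.p5
  have ha : ∀ g ∈ reg p G, 0 ≤ D.a g := by
    intro g hg
    have h := D.pairs_x_nonneg (mem_reg.1 hg)
    rw [hX, hT, hs] at h
    have h1 : 0 ≤ ((p : ℤ) - 2) * ((p : ℤ) * D.a g) := by linarith
    have h2 := nonneg_of_mul_nonneg_right h1 (by linarith)
    exact nonneg_of_mul_nonneg_right h2 (by linarith)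
  obtain ⟨A, hA⟩ := D.exists_cube
  have hle := D.A_le hA
  have hsum := D.sum_e'
  have hsum2 := D.sum_Xe' hA
  rw [hk] at hle hsum2
  rw [hX, hT] at hsum
  rw [hX] at hsum2
  have hG : (0 : ℤ) < Nat.card G := by exact_mod_cast Nat.card_pos
  rcases (show A = 1 ∨ A = 0 by omega) with e | e <;> subst e
  · simp only [Nat.cast_one, sub_self, zero_mul] at hsum2
    have hpos : ∀ g ∈ (reg p G).erase 1, (0 : ℤ) < (p : ℤ) - 1 - D.a g := fun g hg => by
      have := D.a_lt' (Finset.ne_of_mem_erase hg)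
      rw [hX] at this
      linarith
    have hz := (Finset.sum_eq_zero_iff_of_nonneg fun g hg =>
      mul_nonneg (hpos g hg).le (D.e_nonneg g)).1 hsum2
    rw [Finset.sum_eq_zero fun g hg => (mul_eq_zero.1 (hz g hg)).resolve_left (hpos g hg).ne',
      mul_zero] at hsum
    linarith
  · simp only [Nat.cast_zero, Nat.cast_one, sub_zero, one_mul] at hsum2
    exfalso
    have hb : ∑ g ∈ (reg p G).erase 1, ((p : ℤ) - 1 - D.a g) * (D.a g ^ 2 + D.s * D.a g) ≤
        ∑ g ∈ (reg p G).erase 1, ((p : ℤ) - 3) * (D.a g ^ 2 + D.s * D.a g) := by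
      refine Finset.sum_le_sum fun g hg => ?_
      rcases le_or_gt 2 (D.a g) with h1 | h1
      · exact mul_le_mul_of_nonneg_right (by linarith) (D.e_nonneg g)
      · have := ha g (Finset.mem_of_mem_erase hg)
        rcases (show D.a g = 0 ∨ D.a g = 1 by omega) with e | e <;> rw [e, hs] <;> norm_num
    rw [← Finset.mul_sum, hsum2] at hb
    have h2 := mul_le_mul_of_nonneg_left hb (by linarith : (0 : ℤ) ≤ p)
    rw [show (p : ℤ) * (((p : ℤ) - 3) * ∑ g ∈ (reg p G).erase 1, (D.a g ^ 2 + D.s * D.a g)) =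
      ((p : ℤ) - 3) * ((p : ℤ) * ∑ g ∈ (reg p G).erase 1, (D.a g ^ 2 + D.s * D.a g)) by ring,
      hsum] at h2
    have h3 : 0 ≤ ((p : ℤ) - 3) * ((p : ℤ) * (((p : ℤ) - 1) * ((p : ℤ) - 2))) := by
      have : (0 : ℤ) ≤ (p : ℤ) - 1 := by linarith
      have : (0 : ℤ) ≤ (p : ℤ) - 2 := by linarith
      have : (0 : ℤ) ≤ (p : ℤ) - 3 := by linarith
      positivity
    linarith

/-- The group is `PSL(2, p - 1)` with `p - 1` a power of two. -/
theorem k_one [IsSimpleGroup G] (hG : ¬ IsMulCommutative G) (D : Dat p G) (hs : D.s = -1)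
    (hk : D.k = 1) : ∃ (F : Type) (_ : Field F) (_ : Fintype F) (m : ℕ),
      Fintype.card F = 2 ^ m ∧ p = 2 ^ m + 1 ∧
        Nonempty (G ≃* Matrix.ProjectiveSpecialLinearGroup (Fin 2) F) := by
  have hcard := card_k_one D hs hk
  have hp5 := D.p5
  have hperf : commutator G = ⊤ := by
    refine (Small.eq_bot_or_top (commutator G)).resolve_left fun h => hG ?_
    exact ⟨⟨fun a b => commutatorElement_eq_one_iff_mul_comm.1 (Subgroup.mem_bot.1
      (h ▸ (Subgroup.commutator_mem_commutator (Subgroup.mem_top a) (Subgroup.mem_top b))))⟩⟩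
  have hcent : Subgroup.centralizer ({D.x} : Set G) = Subgroup.zpowers D.x := by
    refine (Subgroup.eq_of_le_of_card_ge (Subgroup.zpowers_le.2
      (Subgroup.mem_centralizer_singleton_iff.2 rfl)) ?_).symm
    rw [D.x_cent, Nat.card_zpowers, D.x_order]
  have hn : 2 * Nat.card (Sylow p G) < (p + 1) * (p + 2) := by
    have h1 := D.syl
    have h2 : ((Nat.card G : ℕ) : ℤ) = 2 * (p : ℤ) * Nat.card (Sylow p G) := by
      rw [h1]; push_cast; ring
    rw [hcard] at h2
    have h3 : ((p : ℤ) - 1) * ((p : ℤ) - 2) = 2 * Nat.card (Sylow p G) :=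
      mul_left_cancel₀ (Nat.cast_ne_zero.2 hp.out.ne_zero : (p : ℤ) ≠ 0) (by linarith)
    have h4 : ((2 * Nat.card (Sylow p G) : ℕ) : ℤ) < (((p + 1) * (p + 2) : ℕ) : ℤ) := by
      push_cast
      have : (5 : ℤ) ≤ p := by exact_mod_cast hp5
      linarith
    exact_mod_cast h4
  rcases BrauerReynolds.main hperf p D.x D.x_order hcent hn with
    ⟨F, _, _, hF, -, ⟨φ⟩⟩ | ⟨m, F, _, _, hF, hpm, -, ⟨φ⟩⟩
  · have hp5' : p = 5 := by
      have h1 := PSL2.card_psl (F := F)
      have hodd : Odd (Fintype.card F) := hF ▸ hp.out.odd_of_ne_two (by omega)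
      rw [PSL2.gcd_eq_two hodd, ← Nat.card_congr φ.toEquiv, hF] at h1
      have h2 : ((2 * Nat.card G : ℕ) : ℤ) = (((p + 1) * (p * (p - 1)) : ℕ) : ℤ) := by rw [h1]
      push_cast [Nat.cast_sub hp.out.one_le] at h2
      rw [hcard] at h2
      have h3 : (2 : ℤ) * ((p : ℤ) - 2) = (p : ℤ) + 1 := by
        refine mul_left_cancel₀ (b := 2 * ((p : ℤ) - 2))
          (?_ : (p : ℤ) * ((p : ℤ) - 1) ≠ 0) (by linarith)
        have : (5 : ℤ) ≤ p := by exact_mod_cast hp5
        exact mul_ne_zero (by linarith) (by linarith)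
      omega
    obtain ⟨e1⟩ := ClassicalGroups.psl_two_five_alternating (K := F) (hF.trans hp5')
    haveI : Fintype (GaloisField 2 2) := Fintype.ofFinite _
    have h4 : Fintype.card (GaloisField 2 2) = 4 := by
      rw [← Nat.card_eq_fintype_card, GaloisField.card 2 2 two_ne_zero]
      norm_num
    obtain ⟨e2⟩ := ClassicalGroups.psl_two_four_alternating (K := GaloisField 2 2) h4
    exact ⟨GaloisField 2 2, inferInstance, inferInstance, 2, by rw [h4]; norm_num,
      by rw [hp5']; norm_num, ⟨(φ.trans e1).trans e2.symm⟩⟩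
  · exact ⟨F, inferInstance, inferInstance, m, hF, hpm, ⟨φ⟩⟩

open CfsgLib.PSL2 Matrix in
/-- `PSL(2, q)` has no maximal subgroup of index `3 (q + 1)` for even `q = p - 1`. -/
theorem not_coatom {F : Type} [Field F] [Fintype F] {m : ℕ} (hF : Fintype.card F = 2 ^ m)
    (hpm : p = 2 ^ m + 1) (hp5 : 5 ≤ p)
    (H : Subgroup (Matrix.ProjectiveSpecialLinearGroup (Fin 2) F)) (hH : H.index = 3 * p) :
    ¬ IsCoatom H := by
  intro hco
  have hm : m ≠ 0 := fun e => by subst e; simp at hpm; omega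
  have hev : Even (Fintype.card F) := by rw [hF, Nat.even_pow]; exact ⟨even_two, hm⟩
  have hcard := card_psl (F := F)
  rw [gcd_eq_one hev, one_mul, hF] at hcard
  have hHc : 3 * Nat.card H = 2 ^ m * (2 ^ m - 1) := by
    have h := H.card_mul_index
    rw [hH, hcard, ← hpm] at h
    refine Nat.eq_of_mul_eq_mul_left hp.out.pos ?_
    rw [← h]
    ring
  have hdvd : 2 ^ m ∣ Nat.card H := by
    refine (Nat.Coprime.pow_left m (by norm_num : Nat.Coprime 2 3)).dvd_of_dvd_mul_left ?_
    rw [hHc]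
    exact dvd_mul_right _ _
  obtain ⟨R, hR⟩ := Sylow.exists_subgroup_card_pow_prime (G := H) 2 hdvd
  letI : MulAction H (OnePoint F) := MulAction.compHom _ ((pslPerm F).comp H.subtype)
  have hpts : Nat.card (OnePoint F) = p := by rw [card_onePoint, hF, hpm]
  have hodd : ¬ 2 ∣ Nat.card (OnePoint F) := by
    rw [hpts]
    intro h
    have := (Nat.prime_dvd_prime_iff_eq Nat.prime_two hp.out).1 h
    omega
  haveI : Fact (Nat.Prime 2) := ⟨Nat.prime_two⟩
  obtain ⟨α, hα⟩ := (IsPGroup.of_card hR).nonempty_fixed_point_of_prime_not_dvd_card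
    (OnePoint F) hodd
  have hline : ∀ (g : ProjGenLinGroup (Fin 2) F) (z : OnePoint F),
      lineHom (RingHom.id F) g (z.map (RingHom.id F)) =
        (pglPerm F g z).map (RingHom.id F) := by
    intro g z
    induction g using ProjGenLinGroup.induction_on with | mk A =>
    rw [lineHom_mk_map]
    exact congrArg _ (pglPerm_mk A z).symm
  have hfree : ∀ g : R, ∀ β : OnePoint F, β ≠ α → g • β = β → g = 1 := by
    intro g β hβ hg
    have hgα : g • α = α := hα g
    set u : Matrix.ProjectiveSpecialLinearGroup (Fin 2) F := H.subtype (R.subtype g) with hu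
    have h1 : (Matrix.ProjectiveSpecialLinearGroup.toPGL u) ^ (Fintype.card F - 1) = 1 :=
      pow_card_sub_one_eq_one (RingHom.id F) (x := β) (y := α) hβ
        ((hline _ β).trans (congrArg _ hg)) ((hline _ α).trans (congrArg _ hgα))
    rw [← map_pow, map_eq_one_iff _ Matrix.ProjectiveSpecialLinearGroup.toPGL_injective, hF] at h1
    have h2 : u ^ 2 ^ m = 1 := by
      rw [hu, ← map_pow, ← map_pow, ← hR, pow_card_eq_one', map_one, map_one]
    have h3 : u ^ Nat.gcd (2 ^ m) (2 ^ m - 1) = 1 := pow_gcd_eq_one.2 ⟨h2, h1⟩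
    rw [Nat.Coprime.gcd_eq_one, pow_one] at h3
    · exact Subtype.ext (Subtype.ext h3)
    · rw [Nat.coprime_self_sub_right Nat.one_le_two_pow]
      exact Nat.coprime_one_right _
  haveI : Finite (OnePoint F) := inferInstanceAs (Finite (Option F))
  by_cases hfix : ∀ h : H, h • α = α
  · have hle : H ≤ pslPointStab α := fun h hh => hfix ⟨h, hh⟩
    have hidx := index_pslPointStab α
    rw [hF, ← hpm] at hidx
    rcases hco.le_iff.1 hle with h | h
    · rw [h, Subgroup.index_top] at hidx; omega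
    · rw [h, hH] at hidx; omega
  · obtain ⟨h₀, hh₀⟩ := not_forall.1 hfix
    haveI := Fintype.ofFinite R
    haveI : Fintype {z : OnePoint F // z ≠ α} := Fintype.ofFinite _
    let f : R → {z : OnePoint F // z ≠ α} := fun g => ⟨g • (h₀ • α), fun e =>
      hh₀ (MulAction.injective g (e.trans (hα g).symm))⟩
    have hf : Function.Bijective f := by
      refine (Nat.bijective_iff_injective_and_card f).2 ⟨fun g g' e => ?_, ?_⟩
      · have e' : g • (h₀ • α) = g' • (h₀ • α) := congrArg Subtype.val e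
        refine inv_mul_eq_one.1 (hfree (g⁻¹ * g') (h₀ • α) hh₀ ?_)
        rw [mul_smul, ← e', inv_smul_smul]
      · rw [hR]
        haveI : Fintype (OnePoint F) := Fintype.ofFinite _
        rw [Nat.card_eq_fintype_card, Fintype.card_subtype_compl, Fintype.card_subtype_eq,
          ← Nat.card_eq_fintype_card, hpts, hpm, Nat.add_sub_cancel]
    haveI : MulAction.IsPretransitive H (OnePoint F) := by
      have key : ∀ γ : OnePoint F, ∃ h : H, h • α = γ := fun γ => by
        by_cases hγ : γ = α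
        · exact ⟨1, by rw [one_smul, hγ]⟩
        · obtain ⟨g, hg⟩ := hf.2 ⟨γ, hγ⟩
          refine ⟨(g : H) * h₀, ?_⟩
          rw [mul_smul]
          exact congrArg Subtype.val hg
      refine ⟨fun β γ => ?_⟩
      obtain ⟨h1, rfl⟩ := key β
      obtain ⟨h2, rfl⟩ := key γ
      exact ⟨h2 * h1⁻¹, by rw [smul_smul, inv_mul_cancel_right]⟩
    have h1 := Subgroup.index_dvd_card (stabilizer H α)
    rw [index_stabilizer_of_transitive, hpts] at h1
    have h2 : p ∣ 2 ^ m * (2 ^ m - 1) := hHc ▸ h1.mul_left 3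
    rcases hp.out.dvd_mul.1 h2 with h | h
    · have := Nat.le_of_dvd (by positivity) h; omega
    · have h4 : 2 ≤ 2 ^ m := Nat.le_self_pow hm 2
      have := Nat.le_of_dvd (by omega) h
      omega

end CfsgLib.DegreeThreeP
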