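import Cfsg.Agent.Lib.DegreeThreeP.Tuples

/-!
# Generalities for the case `k = 3`
-/

set_option autoImplicit false
set_option linter.style.haveILetI false
set_option linter.unusedSectionVars false

noncomputable section

namespace CfsgLib.DegreeThreeP

open Cfsg CfsgLib.Characters MulAction
open scoped Classical

universe u v

variable {p : ℕ} [hp : Fact p.Prime] {G : Type u} [Group G] [Fintype G]
  {Ω : Type v} [Fintype Ω] [MulAction G Ω]

/-- The points moved by `g`. -/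
def mset (Ω : Type v) [Fintype Ω] [MulAction G Ω] (g : G) : Finset Ω :=
  Finset.univ.filter fun δ : Ω => g • δ ≠ δ

/-- The number of points moved by `g`. -/
def mv (Ω : Type v) [Fintype Ω] [MulAction G Ω] (g : G) : ℤ := ((mset Ω g).card : ℤ)

theorem mv_eq (g : G) : mv Ω g = (Fintype.card Ω : ℤ) - fx Ω g := by
  rw [mv, fx_eq_card, mset, eq_sub_iff_add_eq, ← Nat.cast_add, Nat.cast_inj, ← Finset.card_univ,
    add_comm]
  exact Finset.card_filter_add_card_filter_not _

theorem mset_pow_subset (g : G) (n : ℕ) : mset Ω (g ^ n) ⊆ mset Ω g := by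
  intro δ hδ
  simp only [mset, Finset.mem_filter, Finset.mem_univ, true_and] at hδ ⊢
  intro h
  refine hδ ?_
  induction n with
  | zero => rw [pow_zero, one_smul]
  | succ n ih => rw [pow_succ, mul_smul, h, ih (fun e => hδ (by rw [pow_succ, mul_smul, h, e]))]

theorem mv_pow_le (g : G) (n : ℕ) : mv Ω (g ^ n) ≤ mv Ω g := by
  unfold mv
  exact_mod_cast Finset.card_le_card (mset_pow_subset g n)

theorem mset_subset_union (g : G) {n m : ℕ} (h : Nat.Coprime n m) :
    mset Ω g ⊆ mset Ω (g ^ n) ∪ mset Ω (g ^ m) := by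
  intro δ hδ
  simp only [mset, Finset.mem_union, Finset.mem_filter, Finset.mem_univ, true_and] at hδ ⊢
  by_contra hc
  rw [not_or, not_not, not_not] at hc
  refine hδ ?_
  have hn : g ^ n ∈ stabilizer G δ := hc.1
  have hm : g ^ m ∈ stabilizer G δ := hc.2
  have hb := Nat.gcd_eq_gcd_ab n m
  rw [h.gcd_eq_one, Nat.cast_one] at hb
  have : g ∈ stabilizer G δ := by
    rw [← zpow_one g, hb, zpow_add, zpow_mul, zpow_mul, zpow_natCast, zpow_natCast]
    exact mul_mem (zpow_mem hn _) (zpow_mem hm _)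
  exact this

/-- The hypotheses of the case `k = 3`. -/
structure Three (D : Dat p G) (Ω : Type v) [Fintype Ω] [MulAction G Ω] : Prop where
  card : Fintype.card Ω = 3 * p
  hs : D.s = -1
  hk : D.k = 3
  hf : ∀ g : G, fx Ω g = 1 + D.a g

variable {D : Dat p G}

namespace Three

variable (T : Three D Ω)
include T

theorem X_eq : D.X = 3 * (p : ℤ) - 1 := by simp [Dat.X, T.hs, T.hk, sub_eq_add_neg]

theorem Th_eq : D.Th = 3 * (p : ℤ) - 2 := by simp [Dat.Th, T.X_eq, T.hs]; ring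

theorem e_eq (g : G) : D.a g ^ 2 + D.s * D.a g = (fx Ω g - 1) * (fx Ω g - 2) := by
  rw [T.hs, T.hf g]; ring

theorem mv_eq' (g : G) : mv Ω g = D.X - D.a g := by
  rw [mv_eq, T.card, T.hf, T.X_eq]
  push_cast
  ring

theorem mv_pos {g : G} (hg : g ≠ 1) : 0 < mv Ω g := by
  rw [T.mv_eq']
  exact sub_pos.2 (D.a_lt' hg)

theorem mv_one : mv Ω (1 : G) = 0 := by rw [T.mv_eq', D.a_one', sub_self]

theorem eq_one_of_mv {g : G} (h : mv Ω g = 0) : g = 1 := by
  by_contra hne
  exact (T.mv_pos hne).ne' h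

theorem fx_inv (g : G) : fx Ω g⁻¹ = fx Ω g := by rw [T.hf, T.hf, D.a_inv]

theorem fx_conj {g h : G} (hgh : IsConj g h) : fx Ω g = fx Ω h := by
  rw [T.hf, T.hf, D.a_conj hgh]

theorem nonempty : Nonempty Ω := by
  have := T.card
  have := D.p5
  exact Fintype.card_pos_iff.1 (by omega)

theorem card_pairs : (Fintype.card (Fin 2 ↪ Ω) : ℤ) = 3 * (p : ℤ) * D.X := by
  rw [Fintype.card_embedding_eq, T.card, Fintype.card_fin, T.X_eq]
  rw [show ((3 * p).descFactorial 2) = 3 * p * (3 * p - 1) by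
    simp [Nat.descFactorial]; ring]
  push_cast [Nat.cast_sub (show 1 ≤ 3 * p by have := D.p5; omega)]
  ring

theorem pretransitive_pairs : IsPretransitive G (Fin 2 ↪ Ω) := by
  have h := PermTwo.sum_fixedBy (G := G) (Fin 2 ↪ Ω)
  have e : ∀ g : G, (Nat.card (fixedBy (Fin 2 ↪ Ω) g) : ℤ) = D.a g + D.a g ^ 2 := by
    intro g
    have h1 := fx_emb (Ω := Ω) 2 g
    rw [fx, desc_two (fx_nonneg g), T.hf] at h1
    rw [h1]
    ring
  have h2 : ∑ g : G, (Nat.card (fixedBy (Fin 2 ↪ Ω) g) : ℤ) = (Nat.card G : ℤ) := by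
    simp only [e, Finset.sum_add_distrib, D.sum_a, D.sum_a_sq, zero_add]
  have h3 : Nat.card (Quotient (orbitRel G (Fin 2 ↪ Ω))) * Nat.card G = 1 * Nat.card G := by
    rw [one_mul]
    have h4 : ((∑ g : G, (Nat.card (fixedBy (Fin 2 ↪ Ω) g) : ℤ) : ℤ) : ℂ) = (Nat.card G : ℂ) := by
      rw [h2, Int.cast_natCast]
    push_cast at h4
    rw [h] at h4
    exact_mod_cast h4
  have h5 := Nat.eq_of_mul_eq_mul_right Nat.card_pos h3
  haveI : Subsingleton (Quotient (orbitRel G (Fin 2 ↪ Ω))) := (Nat.card_eq_one_iff_unique.1 h5).1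
  exact (pretransitive_iff_subsingleton_quotient G _).2 inferInstance

theorem card_two_stab (π : Fin 2 ↪ Ω) :
    (Nat.card G : ℤ) = 3 * (p : ℤ) * D.X * Nat.card (stabilizer G π) := by
  haveI := T.pretransitive_pairs
  have h : Nat.card (stabilizer G π) * Fintype.card (Fin 2 ↪ Ω) = Nat.card G :=
    card_stabilizer_mul π
  rw [← h]
  push_cast
  rw [T.card_pairs]
  ring

theorem three_dvd_M {M : ℕ} (hM : (Nat.card G : ℤ) = p * D.X * D.Th * M) : 3 ∣ M := by
  obtain ⟨π⟩ : Nonempty (Fin 2 ↪ Ω) := Function.Embedding.nonempty_of_card_le (by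
    rw [Fintype.card_fin, T.card]; have := D.p5; omega)
  have h := (T.card_two_stab π).symm.trans hM
  have h1 : 3 * (Nat.card (stabilizer G π) : ℤ) = D.Th * M := by
    refine mul_left_cancel₀ (mul_ne_zero (Nat.cast_ne_zero.2 hp.out.ne_zero : (p : ℤ) ≠ 0)
      D.X_pos.ne') ?_
    linear_combination h
  rw [T.Th_eq] at h1
  have : (3 : ℤ) ∣ (M : ℤ) :=
    ⟨(M : ℤ) - (p : ℤ) * M + Nat.card (stabilizer G π), by linear_combination -h1⟩
  exact_mod_cast this

theorem A_cases {A : ℕ} (hA : ∑ g, D.a g ^ 3 = (A : ℤ) * Nat.card G) :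
    A = 1 ∨ A = 2 := by
  have h := PermTwo.sum_fixedBy (G := G) (Fin 3 ↪ Ω)
  have e : ∀ g : G, (Nat.card (fixedBy (Fin 3 ↪ Ω) g) : ℤ) = D.a g ^ 3 - D.a g := by
    intro g
    have h1 := fx_emb (Ω := Ω) 3 g
    rw [fx, desc_three (fx_nonneg g), T.hf] at h1
    rw [h1]
    ring
  have h2 : ((∑ g : G, (Nat.card (fixedBy (Fin 3 ↪ Ω) g) : ℤ) : ℤ) : ℂ) =
      (A : ℂ) * Nat.card G := by
    simp only [e, Finset.sum_sub_distrib, D.sum_a, hA, sub_zero]
    push_cast; rfl
  push_cast at h2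
  rw [h] at h2
  have h3 : Nat.card (Quotient (orbitRel G (Fin 3 ↪ Ω))) = A := by
    exact_mod_cast mul_right_cancel₀ (Nat.cast_ne_zero.2 Nat.card_pos.ne') h2
  have hA1 : 1 ≤ A := by
    obtain ⟨τ⟩ : Nonempty (Fin 3 ↪ Ω) := Function.Embedding.nonempty_of_card_le (by
      rw [Fintype.card_fin, T.card]; have := D.p5; omega)
    haveI : Nonempty (Quotient (orbitRel G (Fin 3 ↪ Ω))) := ⟨Quotient.mk _ τ⟩
    rw [← h3]
    exact Nat.card_pos
  have hle := D.A_le hA
  rw [T.hk] at hle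
  rcases (show A = 1 ∨ A = 2 ∨ A = 3 by omega) with e' | e' | e'
  · exact Or.inl e'
  · exact Or.inr e'
  · exfalso
    have hX := D.sum_Xe' hA
    rw [T.hk, e', sub_self, zero_mul] at hX
    have hpos : ∀ g ∈ (reg p G).erase 1, 0 < D.X - D.a g := fun g hg =>
      sub_pos.2 (D.a_lt' (Finset.ne_of_mem_erase hg))
    have hz := (Finset.sum_eq_zero_iff_of_nonneg fun g hg =>
      mul_nonneg (hpos g hg).le (D.e_nonneg g)).1 hX
    have hsum := D.sum_e'
    rw [Finset.sum_eq_zero fun g hg => (mul_eq_zero.1 (hz g hg)).resolve_left (hpos g hg).ne',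
      mul_zero] at hsum
    obtain ⟨M, hM1, hM⟩ := D.exists_M
    have h3M := T.three_dvd_M hM
    rw [hM] at hsum
    have h4 : (p : ℤ) * (D.X * D.Th) * ((M : ℤ) - 1) = 0 := by linarith
    have hne : (p : ℤ) * (D.X * D.Th) ≠ 0 := mul_ne_zero (Nat.cast_ne_zero.2 hp.out.ne_zero)
      (mul_ne_zero D.X_pos.ne' D.Th_pos.ne')
    have := (mul_eq_zero.1 h4).resolve_left hne
    omega

theorem sum_mv_one {A : ℕ} (hA : ∑ g, D.a g ^ 3 = (A : ℤ) * Nat.card G) :
    ∑ g ∈ (reg p G).erase 1, (D.a g ^ 2 + D.s * D.a g) * mv Ω g =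
      ((3 : ℤ) - A) * Nat.card G := by
  have h := D.sum_Xe' hA
  rw [T.hk] at h
  push_cast at h
  rw [← h]
  exact Finset.sum_congr rfl fun g _ => by rw [T.mv_eq']; ring

/-- The weighted count of points moved by `n`-th powers is a multiple of the group order. -/
theorem exists_D (n : ℕ) [NeZero n] (hpn : ¬ p ∣ n) :
    ∃ d : ℕ, ∑ g ∈ (reg p G).erase 1, (D.a g ^ 2 + D.s * D.a g) * mv Ω (g ^ n) =
      (d : ℤ) * Nat.card G := by
  have hone : (1 : G) ∈ reg p G := mem_reg.2 one_not_sing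
  have hfull : (Nat.card G : ℤ) ∣ ∑ g : G, (D.a g ^ 2 + D.s * D.a g) * mv Ω (g ^ n) := by
    have e : ∀ g : G, (D.a g ^ 2 + D.s * D.a g) * mv Ω (g ^ n) =
        3 * (p : ℤ) * D.a g ^ 2 + 3 * (p : ℤ) * D.s * D.a g - fx Ω (g ^ n) * fx Ω g ^ 2 +
          3 * (fx Ω (g ^ n) * fx Ω g ^ 1) - 2 * (fx Ω (g ^ n) * fx Ω g ^ 0) := fun g => by
      rw [mv_eq, T.card, T.hs, T.hf g]
      push_cast
      ring
    simp only [e, Finset.sum_sub_distrib, Finset.sum_add_distrib, ← Finset.mul_sum, D.sum_a,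
      D.sum_a_sq, mul_zero, add_zero]
    exact dvd_sub (dvd_add (dvd_sub (dvd_mul_left _ _) (dvd_sum_fx n 2))
      ((dvd_sum_fx n 1).mul_left 3)) ((dvd_sum_fx n 0).mul_left 2)
  have hsing : ∀ g ∈ sing p G, (D.a g ^ 2 + D.s * D.a g) * mv Ω (g ^ n) = 6 * (p : ℤ) := by
    intro g hg
    rw [mem_sing] at hg
    have hgn : p ∣ orderOf (g ^ n) := by
      rw [Nat.Coprime.orderOf_pow]
      · exact hg
      · rw [D.sing_order g hg]
        exact hp.out.coprime_iff_not_dvd.2 hpn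
    rw [T.mv_eq', D.a_sing g hg, D.a_sing _ hgn, T.X_eq, T.hs]
    ring
  have h1 := sum_reg_add (p := p) (fun g => (D.a g ^ 2 + D.s * D.a g) * mv Ω (g ^ n))
  rw [Finset.sum_congr (s₁ := sing p G) rfl hsing, Finset.sum_const, nsmul_eq_mul,
    ← Finset.add_sum_erase _ _ hone, one_pow, T.mv_one, mul_zero, zero_add] at h1
  obtain ⟨z, hz⟩ := hfull
  have h2 : ∑ g ∈ (reg p G).erase 1, (D.a g ^ 2 + D.s * D.a g) * mv Ω (g ^ n) =
      (z - 3 * ((p : ℤ) - 1)) * Nat.card G := by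
    linear_combination h1 + hz - 3 * D.two_p_sing
  have h0 : 0 ≤ ∑ g ∈ (reg p G).erase 1, (D.a g ^ 2 + D.s * D.a g) * mv Ω (g ^ n) :=
    Finset.sum_nonneg fun g _ => mul_nonneg (D.e_nonneg g) (Int.natCast_nonneg _)
  rw [h2] at h0
  have hG : (0 : ℤ) < Nat.card G := by exact_mod_cast Nat.card_pos
  refine ⟨(z - 3 * ((p : ℤ) - 1)).toNat, ?_⟩
  rw [h2, Int.toNat_of_nonneg (nonneg_of_mul_nonneg_left h0 hG)]

theorem D_lt {A n d : ℕ} (hA : ∑ g, D.a g ^ 3 = (A : ℤ) * Nat.card G)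
    (hd : ∑ g ∈ (reg p G).erase 1, (D.a g ^ 2 + D.s * D.a g) * mv Ω (g ^ n) =
      (d : ℤ) * Nat.card G)
    {g : G} (hg : g ∈ (reg p G).erase 1) (he : D.a g ^ 2 + D.s * D.a g ≠ 0) (hgn : g ^ n = 1) :
    (d : ℤ) < 3 - A := by
  have hlt : ∑ g ∈ (reg p G).erase 1, (D.a g ^ 2 + D.s * D.a g) * mv Ω (g ^ n) <
      ∑ g ∈ (reg p G).erase 1, (D.a g ^ 2 + D.s * D.a g) * mv Ω g := by
    refine Finset.sum_lt_sum (fun x _ => mul_le_mul_of_nonneg_left (mv_pow_le x n) (D.e_nonneg x))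
      ⟨g, hg, ?_⟩
    rw [hgn, T.mv_one, mul_zero]
    exact mul_pos (lt_of_le_of_ne (D.e_nonneg g) he.symm) (T.mv_pos (Finset.ne_of_mem_erase hg))
  rw [hd, T.sum_mv_one hA] at hlt
  exact lt_of_mul_lt_mul_right hlt (Int.natCast_nonneg _)

theorem D_zero {n : ℕ}
    (hd : ∑ g ∈ (reg p G).erase 1, (D.a g ^ 2 + D.s * D.a g) * mv Ω (g ^ n) = 0)
    {g : G} (hg : g ∈ (reg p G).erase 1) (he : D.a g ^ 2 + D.s * D.a g ≠ 0) : g ^ n = 1 :=
  T.eq_one_of_mv ((mul_eq_zero.1 ((Finset.sum_eq_zero_iff_of_nonneg fun g _ =>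
    mul_nonneg (D.e_nonneg g) (Int.natCast_nonneg _)).1 hd g hg)).resolve_left he)

/-- With `D(n) = D(m) = 1` and `A = 1` the points moved by `g` split. -/
theorem mv_split {n m : ℕ} (hnm : Nat.Coprime n m)
    (hA : ∑ g, D.a g ^ 3 = ((1 : ℕ) : ℤ) * Nat.card G)
    (hn : ∑ g ∈ (reg p G).erase 1, (D.a g ^ 2 + D.s * D.a g) * mv Ω (g ^ n) = (Nat.card G : ℤ))
    (hm : ∑ g ∈ (reg p G).erase 1, (D.a g ^ 2 + D.s * D.a g) * mv Ω (g ^ m) = (Nat.card G : ℤ))
    {g : G} (hg : g ∈ (reg p G).erase 1) (he : D.a g ^ 2 + D.s * D.a g ≠ 0) :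
    Disjoint (mset Ω (g ^ n)) (mset Ω (g ^ m)) := by
  have hle : ∀ x : G, mv Ω x ≤ mv Ω (x ^ n) + mv Ω (x ^ m) := fun x => by
    unfold mv
    exact_mod_cast (Finset.card_le_card (mset_subset_union x hnm)).trans (Finset.card_union_le _ _)
  have h1 : ∑ x ∈ (reg p G).erase 1, (D.a x ^ 2 + D.s * D.a x) *
      (mv Ω (x ^ n) + mv Ω (x ^ m) - mv Ω x) = 0 := by
    simp only [mul_sub, mul_add, Finset.sum_sub_distrib, Finset.sum_add_distrib, hn, hm,
      T.sum_mv_one hA]
    push_cast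
    ring
  have h2 := ((mul_eq_zero.1 ((Finset.sum_eq_zero_iff_of_nonneg fun x _ =>
    mul_nonneg (D.e_nonneg x) (by linarith [hle x])).1 h1 g hg)).resolve_left he)
  rw [← Finset.card_union_eq_card_add_card]
  refine le_antisymm (Finset.card_union_le _ _) ?_
  have h3 : ((mset Ω (g ^ n)).card : ℤ) + (mset Ω (g ^ m)).card = (mset Ω g).card := by
    unfold mv at h2; linarith
  have h4 := Finset.card_le_card (mset_subset_union (Ω := Ω) g hnm)
  omega

theorem invol_reg {t : G} (ht : orderOf t = 2) : ¬ p ∣ orderOf t := by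
  rw [ht]
  intro h
  have := Nat.le_of_dvd (by norm_num) h
  have := D.p5
  omega

theorem exists_invol : ∃ t : G, orderOf t = 2 := by
  obtain ⟨n, hn, -⟩ := D.card_eq
  exact exists_prime_orderOf_dvd_card' 2 ⟨p * n, by rw [hn]; ring⟩

/-- Involutions: one class, at most three fixed points, centraliser order. -/
theorem invol_facts {M : ℕ} (hM : (Nat.card G : ℤ) = p * D.X * D.Th * M) {t : G}
    (ht : orderOf t = 2) :
    (∀ t' : G, orderOf t' = 2 → IsConj t t') ∧ fx Ω t ≤ 3 ∧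
      (Nat.card (Subgroup.centralizer ({t} : Set G)) : ℤ) ^ 2 = M * mv Ω t ^ 2 := by
  have hxp : D.x ^ p = 1 := orderOf_dvd_iff_pow_eq_one.1 D.x_order.dvd
  have hne : ∀ {u : G}, orderOf u = 2 → u ≠ 1 := fun hu e => by
    rw [e, orderOf_one] at hu; omega
  have hord : ∀ {a b : G}, IsConj a b → orderOf b = orderOf a := fun {a b} h => by
    obtain ⟨c, rfl⟩ := isConj_iff.1 h
    exact orderOf_injective (MulAut.conj c).toMonoidHom (MulAut.conj c).injective a
  have hpair : ∀ {a b : G}, orderOf a = 2 → orderOf b = 2 →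
      ∀ z ∈ ClassCount.pairs a b {D.x}, IsConj a z.1 ∧ IsConj b z.2 ∧ z.2 = z.1 * D.x ∧
        z.1 * z.1 = 1 ∧ z.1 * D.x * z.1 = D.x⁻¹ := by
    intro a b ha hb z hz
    simp only [ClassCount.pairs, Finset.mem_filter, Finset.mem_product, ClassCount.mem_cls,
      Finset.mem_singleton] at hz
    obtain ⟨⟨h1, h2⟩, h3⟩ := hz
    have hu : z.1 * z.1 = 1 := by
      rw [← pow_two, ← (hord h1).trans ha, pow_orderOf_eq_one]
    have hv : z.2 * z.2 = 1 := by
      rw [← pow_two, ← (hord h2).trans hb, pow_orderOf_eq_one]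
    have h4 : z.2 = z.1 * D.x := by rw [← h3, ← mul_assoc, hu, one_mul]
    refine ⟨h1, h2, h4, hu, eq_inv_of_mul_eq_one_left ?_⟩
    rw [h4] at hv
    rw [mul_assoc]
    exact hv
  have hcl : ∀ t' : G, orderOf t' = 2 → IsConj t t' := by
    intro t' ht'
    obtain ⟨r, hr, hcard, -⟩ := D.exists_pairs (hne ht) (T.invol_reg ht) (hne ht') (T.invol_reg ht')
    obtain ⟨⟨u, v⟩, hz⟩ : (ClassCount.pairs t t' {D.x}).Nonempty :=
      Finset.card_pos.1 (by rw [hcard]; exact Nat.mul_pos hp.out.pos hr)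
    obtain ⟨h1, h2, h4, hu, hinv⟩ := hpair ht ht' _ hz
    simp only at h1 h2 h4 hu hinv
    refine (h1.trans ?_).trans h2.symm
    refine isConj_iff.2 ⟨D.x ^ ((p - 1) / 2), ?_⟩
    have hconj : ∀ i : ℕ, u * D.x ^ i * u = (D.x ^ i)⁻¹ := by
      intro i
      induction i with
      | zero => simp [hu]
      | succ i ih =>
        rw [pow_succ, mul_inv_rev, ← hinv, ← ih, show D.x ^ i * D.x = D.x * D.x ^ i from
          (Commute.pow_self D.x i).eq]
        simp [mul_assoc, ← mul_assoc u u, hu]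
    set j := (p - 1) / 2
    have hj : j + j + 1 = p := by
      have := D.p5
      obtain ⟨i, hi⟩ := hp.out.odd_of_ne_two (by omega)
      simp only [j]
      omega
    have h5 : (D.x ^ j)⁻¹ = u * D.x ^ j * u := (hconj j).symm
    have h6 : D.x ^ (j + j) = u * D.x * u := by
      rw [hinv]
      refine eq_inv_of_mul_eq_one_left ?_
      rw [← pow_succ, hj, hxp]
    rw [h4, h5]
    calc D.x ^ j * u * (u * D.x ^ j * u) = D.x ^ j * (u * u) * D.x ^ j * u := by
          simp [mul_assoc]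
      _ = u * D.x * (u * u) := by rw [hu, mul_one, ← pow_add, h6, mul_assoc, mul_assoc, hu]; simp
      _ = u * D.x := by rw [hu, mul_one]
  obtain ⟨r, hr, hcard, heq⟩ := D.exists_pairs (hne ht) (T.invol_reg ht) (hne ht) (T.invol_reg ht)
  obtain ⟨⟨u, v⟩, hz⟩ : (ClassCount.pairs t t {D.x}).Nonempty :=
    Finset.card_pos.1 (by rw [hcard]; exact Nat.mul_pos hp.out.pos hr)
  obtain ⟨h1, -, h4, hu, hinv⟩ := hpair ht ht _ hz
  simp only at h1 h4 hu hinv
  refine ⟨hcl, ?_, ?_⟩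
  · rw [T.fx_conj h1, fx_eq_card]
    set F := Finset.univ.filter fun δ : Ω => u • δ = δ
    have hinj : Function.Injective
        (fun z : Subgroup.zpowers D.x × F => (z.1 : G) • (z.2 : Ω)) := by
      rintro ⟨⟨a, ha⟩, ⟨δ, hδ⟩⟩ ⟨⟨b, hb⟩, ⟨δ', hδ'⟩⟩ h
      simp only at h
      have hδ0 : u • δ = δ := (Finset.mem_filter.1 hδ).2
      have hδ0' : u • δ' = δ' := (Finset.mem_filter.1 hδ').2
      obtain ⟨i, hi⟩ := Subgroup.mem_zpowers_iff.1
        ((Subgroup.zpowers D.x).mul_mem ((Subgroup.zpowers D.x).inv_mem hb) ha)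
      have h5 : D.x ^ i • δ = δ' := by rw [hi, mul_smul, h, inv_smul_smul]
      have h6 : D.x ^ (-i) • δ = δ' := by
        have h7 : u * D.x ^ i * u⁻¹ = (u * D.x * u⁻¹) ^ i := (conj_zpow).symm
        rw [show u⁻¹ = u from inv_eq_of_mul_eq_one_right hu, hinv, inv_zpow'] at h7
        rw [← h7, mul_smul, mul_smul, hδ0, h5, hδ0']
      have h8 : D.x ^ (i + i) • δ = δ := by
        rw [zpow_add, mul_smul, h5, ← h6, ← mul_smul, ← zpow_add, add_neg_cancel, zpow_zero,
          one_smul]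
      have hdvd : (p : ℤ) ∣ i := by
        by_contra hni
        have h9 : p ∣ orderOf (D.x ^ (i + i)) := by
          have hne1 : D.x ^ (i + i) ≠ 1 := fun e => by
            rw [← orderOf_dvd_iff_zpow_eq_one, D.x_order] at e
            rw [← two_mul] at e
            rcases (Nat.prime_iff_prime_int.1 hp.out).dvd_or_dvd e with h | h
            · have h2 := Int.le_of_dvd (by norm_num) h
              have := D.p5
              omega
            · exact hni h
          have hd2 : orderOf (D.x ^ (i + i)) ∣ p := by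
            refine orderOf_dvd_of_pow_eq_one ?_
            rw [← zpow_natCast, ← zpow_mul, mul_comm, zpow_mul, zpow_natCast, hxp, one_zpow]
          rcases hp.out.eq_one_or_self_of_dvd _ hd2 with e | e
          · exact absurd (orderOf_eq_one_iff.1 e) hne1
          · rw [e]
        have hmem : δ ∈ Finset.univ.filter (fun δ : Ω => D.x ^ (i + i) • δ = δ) :=
          Finset.mem_filter.2 ⟨Finset.mem_univ _, h8⟩
        have h10 : fx Ω (D.x ^ (i + i)) = 0 := by rw [T.hf, D.a_sing _ h9, T.hs]; rfl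
        rw [fx_eq_card, Nat.cast_eq_zero, Finset.card_eq_zero] at h10
        rw [h10] at hmem
        exact Finset.notMem_empty _ hmem
      have h11 : D.x ^ i = 1 := by
        rw [← orderOf_dvd_iff_zpow_eq_one, D.x_order]; exact hdvd
      rw [h11] at hi h5
      rw [one_smul] at h5
      have hab : a = b := (inv_mul_eq_one.1 hi.symm).symm
      subst hab
      subst h5
      rfl
    have hle := Fintype.card_le_of_injective _ hinj
    rw [Fintype.card_prod, T.card, ← Nat.card_eq_fintype_card (α := Subgroup.zpowers D.x),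
      Nat.card_zpowers, D.x_order, Fintype.card_coe, mul_comm 3 p] at hle
    have := Nat.le_of_mul_le_mul_left hle hp.out.pos
    omega
  · have hcard1 : (ClassCount.pairs t t {D.x}).card ≤ p := by
      refine le_of_le_of_eq ?_ D.x_cent
      rw [Nat.card_eq_fintype_card, ← Fintype.card_coe]
      refine Fintype.card_le_of_injective (fun z => ⟨z.1.1 * u, ?_⟩) fun z z' h => ?_
      · obtain ⟨-, -, -, hu', hinv'⟩ := hpair ht ht _ z.2
        rw [Subgroup.mem_centralizer_singleton_iff]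
        have hi' : z.1.1 * D.x⁻¹ * z.1.1 = D.x := by
          rw [← hinv']; simp [mul_assoc, ← mul_assoc z.1.1 z.1.1, hu']
        calc z.1.1 * u * D.x = z.1.1 * (u * D.x * u) * u := by simp [mul_assoc, hu]
          _ = z.1.1 * D.x⁻¹ * z.1.1 * z.1.1 * u := by
            rw [hinv]; simp [mul_assoc, ← mul_assoc z.1.1 z.1.1, hu']
          _ = D.x * (z.1.1 * u) := by rw [hi', mul_assoc]
      · have e1 : z.1.1 = z'.1.1 := mul_right_cancel (congrArg Subtype.val h)
        obtain ⟨-, -, e2, -, -⟩ := hpair ht ht _ z.2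
        obtain ⟨-, -, e3, -, -⟩ := hpair ht ht _ z'.2
        exact Subtype.ext (Prod.ext e1 (by rw [e2, e3, e1]))
    have hr1 : r = 1 := by
      rw [hcard] at hcard1
      have := Nat.le_of_mul_le_mul_left (hcard1.trans_eq (mul_one p).symm) hp.out.pos
      omega
    rw [hr1, hM, ← T.mv_eq'] at heq
    refine mul_left_cancel₀ (mul_ne_zero (mul_ne_zero (Nat.cast_ne_zero.2 hp.out.ne_zero :
      (p : ℤ) ≠ 0) D.X_pos.ne') D.Th_pos.ne') ?_
    push_cast at heq
    linear_combination heq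

end Three

end CfsgLib.DegreeThreeP
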