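import Cfsg.Agent.Lib.DegreeThreeP.KThree

/-!
# No involution fixes three points
-/

set_option autoImplicit false
set_option linter.style.haveILetI false
set_option linter.unusedSectionVars false

noncomputable section

namespace CfsgLib.DegreeThreeP

open Cfsg CfsgLib.Characters MulAction
open scoped Classical

universe u v

variable {p : ℕ} [hp : Fact p.Prime] {G : Type u} [Group G] [Fintype G]
  {Ω : Type v} [Fintype Ω] [MulAction G Ω] {D : Dat p G}

theorem Three.e_ne (T : Three D Ω) {g : G} (h : 3 ≤ fx Ω g) :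
    D.a g ^ 2 + D.s * D.a g ≠ 0 := by
  rw [T.e_eq]
  exact (mul_pos (by linarith) (by linarith)).ne'

theorem Three.not_sing_of_fix (T : Three D Ω) {g : G} (h : fx Ω g ≠ 0) : ¬ p ∣ orderOf g := by
  intro hs
  rw [T.hf, D.a_sing g hs, T.hs] at h
  exact h rfl

theorem Three.mem_O (T : Three D Ω) {g : G} (h : 3 ≤ fx Ω g) (hg : g ≠ 1) :
    g ∈ (reg p G).erase 1 :=
  Finset.mem_erase.2 ⟨hg, mem_reg.2 (T.not_sing_of_fix (by linarith))⟩

theorem Three.no_fix_three (T : Three D Ω) {t : G} (ht : orderOf t = 2) : fx Ω t ≠ 3 := by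
  intro hft
  have ht1 : t ≠ 1 := fun e => by rw [e, orderOf_one] at ht; omega
  have ht2 : t ^ 2 = 1 := by rw [← ht, pow_orderOf_eq_one]
  obtain ⟨A, hA⟩ := D.exists_cube
  obtain ⟨M, hM1, hM⟩ := D.exists_M
  have hp5 : (5 : ℤ) ≤ p := by exact_mod_cast D.p5
  have hp2 : ¬ p ∣ 2 := fun h => by
    have := Nat.le_of_dvd (by norm_num) h
    have := D.p5
    omega
  have hp3 : ¬ p ∣ 3 := fun h => by
    have := Nat.le_of_dvd (by norm_num) h
    have := D.p5
    omega
  obtain ⟨hcl, -, hC⟩ := T.invol_facts hM ht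
  have hmvt : mv Ω t = 3 * (p : ℤ) - 3 := by
    rw [mv_eq, T.card, hft]; push_cast; ring
  have htO := T.mem_O (le_of_eq hft.symm) ht1
  have hte := T.e_ne (le_of_eq hft.symm)
  obtain ⟨d2, hd2⟩ := T.exists_D 2 hp2
  have hlt2 := T.D_lt hA hd2 htO hte ht2
  rcases T.A_cases hA with e | e <;> subst e
  · obtain ⟨j, hj⟩ : 3 ∣ M := T.three_dvd_M hM
    set C := Subgroup.centralizer ({t} : Set G) with hCdef
    rw [hmvt, hj] at hC
    push_cast at hC
    have h9 : 9 ∣ Nat.card C := by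
      have h27 : (3 : ℤ) ^ 3 ∣ (Nat.card C : ℤ) ^ 2 :=
        ⟨(j : ℤ) * ((p : ℤ) - 1) ^ 2, by rw [hC]; ring⟩
      have h27' : 3 ^ 3 ∣ Nat.card C ^ 2 := by exact_mod_cast h27
      have h3 : 3 ∣ Nat.card C := Nat.prime_three.dvd_of_dvd_pow
        (dvd_trans (dvd_pow_self 3 three_ne_zero) h27')
      obtain ⟨c, hc⟩ := h3
      rw [hc, mul_pow] at h27'
      have h3c : 3 ∣ c ^ 2 :=
        Nat.dvd_of_mul_dvd_mul_left (by norm_num : 0 < 3 ^ 2) (by simpa [pow_succ] using h27')
      obtain ⟨c', rfl⟩ := Nat.prime_three.dvd_of_dvd_pow h3c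
      exact ⟨c', by rw [hc]; ring⟩
    let F := {δ : Ω // t • δ = δ}
    have hF : Nat.card F = 3 := by
      have h := hft
      rw [fx, show (3 : ℤ) = ((3 : ℕ) : ℤ) from rfl, Nat.cast_inj] at h
      exact h
    letI : MulAction C F :=
      { smul := fun c δ => ⟨(c : G) • δ.1, by
          rw [← mul_smul, ← Subgroup.mem_centralizer_singleton_iff.1 c.2, mul_smul, δ.2]⟩
        one_smul := fun δ => Subtype.ext (one_smul G δ.1)
        mul_smul := fun c c' δ => Subtype.ext (mul_smul (c : G) c' δ.1) }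
    set φ := toPermHom C F
    have h3K : 3 ∣ Nat.card φ.ker := by
      have h1 := Subgroup.card_mul_index φ.ker
      rw [Subgroup.index_ker] at h1
      have h2 : Nat.card φ.range ∣ 6 := by
        refine (Subgroup.card_subgroup_dvd_card φ.range).trans ?_
        rw [Nat.card_perm, hF]
        norm_num [Nat.factorial]
      by_contra h3
      have h5 : Nat.Coprime 9 (Nat.card φ.ker) := by
        rw [show (9 : ℕ) = 3 ^ 2 by norm_num]
        exact Nat.Coprime.pow_left _ (Nat.prime_three.coprime_iff_not_dvd.2 h3)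
      rw [← h1] at h9
      have := Nat.le_of_dvd (by norm_num) ((h5.dvd_of_dvd_mul_left h9).trans h2)
      omega
    obtain ⟨h, hh⟩ := exists_prime_orderOf_dvd_card' (G := φ.ker) 3 h3K
    set h0 : G := ((h : C) : G) with hh0
    have hho : orderOf h0 = 3 := by rw [hh0, Subgroup.orderOf_coe, Subgroup.orderOf_coe, hh]
    have hfix : ∀ δ : Ω, t • δ = δ → h0 • δ = δ := fun δ hδ => by
      have h1 := DFunLike.congr_fun (MonoidHom.mem_ker.1 h.2) (⟨δ, hδ⟩ : F)
      exact congrArg Subtype.val h1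
    have hcomm : Commute h0 t := Subgroup.mem_centralizer_singleton_iff.1 (h : C).2
    set g := h0 * t with hg
    have hg2 : g ^ 2 = h0 ^ 2 := by rw [hg, hcomm.mul_pow, ht2, mul_one]
    have hg3 : g ^ 3 = t := by
      rw [hg, hcomm.mul_pow, ← hho, pow_orderOf_eq_one, one_mul, hho, pow_succ, ht2, one_mul]
    have hh2 : h0 ^ 2 ≠ 1 := fun e => by
      have := orderOf_dvd_of_pow_eq_one e
      rw [hho] at this
      omega
    have hg1 : g ≠ 1 := fun e => ht1 (by rw [← hg3, e, one_pow])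
    have hfge : ∀ x : G, (∀ δ : Ω, t • δ = δ → x • δ = δ) → 3 ≤ fx Ω x := fun x hx => by
      rw [← hft, fx_eq_card, fx_eq_card]
      exact_mod_cast Finset.card_le_card (fun δ hδ => Finset.mem_filter.2
        ⟨Finset.mem_univ _, hx δ (Finset.mem_filter.1 hδ).2⟩)
    have hgfix := hfge g fun δ hδ => by rw [hg, mul_smul, hδ, hfix δ hδ]
    have hhfix := hfge h0 hfix
    obtain ⟨d3, hd3⟩ := T.exists_D 3 hp3
    have hlt3 := T.D_lt hA hd3 (T.mem_O hhfix (fun e => by rw [e, orderOf_one] at hho; omega))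
      (T.e_ne hhfix) (by rw [← hho, pow_orderOf_eq_one])
    have hd2' : d2 ≠ 0 := fun e0 => hh2 (by
      rw [← hg2]
      exact T.D_zero (by rw [hd2, e0, Nat.cast_zero, zero_mul]) (T.mem_O hgfix hg1) (T.e_ne hgfix))
    have hd3' : d3 ≠ 0 := fun e0 => ht1 (by
      rw [← hg3]
      exact T.D_zero (by rw [hd3, e0, Nat.cast_zero, zero_mul]) (T.mem_O hgfix hg1) (T.e_ne hgfix))
    rw [show d2 = 1 by omega, Nat.cast_one, one_mul] at hd2
    rw [show d3 = 1 by omega, Nat.cast_one, one_mul] at hd3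
    have hdis := T.mv_split (n := 2) (m := 3) (by norm_num) hA hd2 hd3 (T.mem_O hgfix hg1)
      (T.e_ne hgfix)
    rw [hg2, hg3] at hdis
    refine hh2 (T.eq_one_of_mv ?_)
    rw [mv, Nat.cast_eq_zero, Finset.card_eq_zero, Finset.eq_empty_iff_forall_notMem]
    intro δ hδ
    have hδ' : h0 ^ 2 • δ ≠ δ := (Finset.mem_filter.1 hδ).2
    by_cases htδ : t • δ = δ
    · exact hδ' (by rw [pow_two, mul_smul, hfix δ htδ, hfix δ htδ])
    · exact Finset.disjoint_left.1 hdis hδ (Finset.mem_filter.2 ⟨Finset.mem_univ _, htδ⟩)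
  · have hd0 : d2 = 0 := by omega
    rw [hd0, Nat.cast_zero, zero_mul] at hd2
    have hmv : ∀ g ∈ (reg p G).erase 1, (D.a g ^ 2 + D.s * D.a g) * mv Ω g =
        (3 * (p : ℤ) - 3) * (D.a g ^ 2 + D.s * D.a g) := by
      intro g hg
      by_cases he : D.a g ^ 2 + D.s * D.a g = 0
      · rw [he]; ring
      · have h2 := T.D_zero hd2 hg he
        have hgo : orderOf g = 2 := orderOf_eq_prime h2 (Finset.ne_of_mem_erase hg)
        rw [mv_eq, ← T.fx_conj (hcl g hgo), ← mv_eq, hmvt]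
        ring
    have h := T.sum_mv_one hA
    rw [Finset.sum_congr rfl hmv, ← Finset.mul_sum] at h
    have hs := D.sum_e'
    have h2 : (3 * (p : ℤ) - 3) * ((Nat.card G : ℤ) - p * (D.X * D.Th)) =
        (p : ℤ) * Nat.card G := by
      rw [← hs]
      push_cast at h
      linear_combination (p : ℤ) * h
    rw [hM] at h2
    have h3 : (3 * (p : ℤ) - 3) * ((M : ℤ) - 1) = (p : ℤ) * M := by
      refine mul_left_cancel₀ (mul_ne_zero (mul_ne_zero (show (p : ℤ) ≠ 0 by linarith)
        D.X_pos.ne') D.Th_pos.ne') ?_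
      linear_combination h2
    rcases (show M = 1 ∨ 2 ≤ M by omega) with e' | e'
    · rw [e'] at h3; push_cast at h3; linarith
    · have : 2 * (2 * (p : ℤ) - 3) ≤ (M : ℤ) * (2 * (p : ℤ) - 3) :=
        mul_le_mul_of_nonneg_right (by exact_mod_cast e') (by linarith)
      linarith

end CfsgLib.DegreeThreeP
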