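import Cfsg.Agent.Lib.DegreeThreeP.Action
import Cfsg.Agent.Lib.Small.Order720

/-!
# Involutions move a multiple of four points
-/

set_option autoImplicit false
set_option linter.unusedSectionVars false

noncomputable section

namespace CfsgLib.DegreeThreeP

open MulAction
open scoped Classical

universe u v

variable {G : Type u} [Group G] [IsSimpleGroup G] {Ω : Type v} [Fintype Ω] [MulAction G Ω]

/-- In a non-commutative simple group an involution moves a multiple of four points. -/
theorem four_dvd_moved (hG : ¬ IsMulCommutative G) {t : G} (ht : t * t = 1) :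
    (4 : ℤ) ∣ (Fintype.card Ω : ℤ) - fx Ω t := by
  set σ : Equiv.Perm Ω := toPerm t with hσ
  have hinv : σ ^ 2 ^ (0 + 1) = 1 := by
    ext a
    show σ ((σ ^ 1) a) = a
    rw [pow_one]
    show t • t • a = a
    rw [smul_smul, ht, one_smul]
  have hfree : ∀ a, σ a ≠ a → (σ ^ 2 ^ 0) a ≠ a := fun a h => by simpa using h
  have hsum := Small.Order720.support_card_add σ
  have hev : 2 ∣ σ.support.card := by
    have h2 : σ ^ 2 = 1 := by simpa using hinv
    have h3 := Equiv.Perm.card_compl_support_modEq (p := 2) (n := 1) (σ := σ) (by simpa using h2)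
    rw [Finset.card_compl] at h3
    have h4 := Finset.card_le_univ σ.support
    rw [Nat.modEq_iff_dvd' (by omega), Nat.sub_sub_self h4] at h3
    exact h3
  obtain ⟨m, hm⟩ := hev
  have hsign := Small.Order720.sign_of_semiregular σ 0 m hinv hfree (by rw [hm]; norm_num)
  rw [show Equiv.Perm.sign σ = 1 from Small.sign_toPerm hG t, eq_comm,
    neg_one_pow_eq_one_iff_even (by decide)] at hsign
  obtain ⟨j, rfl⟩ := hsign
  have hfix : fx Ω t = (Nat.card {a // σ a = a} : ℤ) := rfl
  refine ⟨j, ?_⟩
  rw [hfix]
  omega

end CfsgLib.DegreeThreeP
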