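import Cfsg.Agent.Lib.DegreeThreeP.Degrees
import Cfsg.Agent.Lib.DegreeThreeP.Sign

/-!
# The positive sign does not occur
-/

set_option autoImplicit false
set_option linter.style.haveILetI false
set_option linter.unusedSectionVars false

noncomputable section

namespace CfsgLib.DegreeThreeP

open Cfsg CfsgLib.Characters MulAction
open scoped Classical

universe u v

variable {p : ℕ} [hp : Fact p.Prime] {G : Type u} [Group G] [Fintype G]
  {Ω : Type v} [Fintype Ω] [MulAction G Ω]

theorem out_eq_zero (D : Dat p G) {r : ℕ} {c d : IrrCharacter G → ℕ}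
    (hd : ∀ ψ ∈ D.out, (ψ : G → ℂ) 1 = ((p * d ψ : ℕ) : ℂ) ∧ 0 < d ψ)
    (hr : r = ∑ ψ ∈ D.out, c ψ * d ψ) (h0 : r = 0) {ψ : IrrCharacter G} (hψ : ψ ∈ D.out) :
    c ψ = 0 := by
  have h := Finset.sum_eq_zero_iff.1 (hr.symm.trans h0) ψ hψ
  rcases Nat.mul_eq_zero.1 h with h | h
  · exact h
  · exact absurd h (hd ψ hψ).2.ne'

theorem no_plus [IsSimpleGroup G] (hG : ¬ IsMulCommutative G) (D : Dat p G)
    (hs : D.s = 1) (hp5 : p = 5) (hk : D.k = 1)
    (hf : ∀ g ∈ reg p G, fx Ω g = 1 + (D.Y.card : ℤ) * (D.a g + D.s)) : False := by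
  have hq : D.Y.card = 2 := by have := D.Y_card; omega
  have hX : D.X = 6 := by simp [Dat.X, hs, hk, hp5]
  have hT : D.Th = 7 := by simp [Dat.Th, hX, hs]
  have hfa : ∀ g ∈ reg p G, -1 ≤ D.a g := fun g hg => by
    have h := hf g hg
    rw [hq, hs] at h
    have := fx_nonneg (Ω := Ω) g
    push_cast at h
    omega
  obtain ⟨A, hA⟩ := D.exists_cube
  have hle := D.A_le hA
  have hsum := D.sum_e'
  have hsum2 := D.sum_Xe' hA
  have hp' : (p : ℤ) = 5 := by exact_mod_cast hp5
  rw [hX, hT] at hsum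
  simp only [hp'] at hsum
  rw [hX, hk] at hsum2
  push_cast at hsum2
  have hG2 : (0 : ℤ) < Nat.card G := by exact_mod_cast Nat.card_pos
  rcases (show A = 1 ∨ A = 0 by omega) with e | e <;> subst e
  · simp only [Nat.cast_one, sub_self, zero_mul] at hsum2
    have hz := (Finset.sum_eq_zero_iff_of_nonneg fun g hg => mul_nonneg
      (by have := D.a_le g; omega) (D.e_nonneg g)).1 hsum2
    rw [Finset.sum_eq_zero fun g hg => (mul_eq_zero.1 (hz g hg)).resolve_left (by
      have := D.a_lt' (Finset.ne_of_mem_erase hg); omega), mul_zero] at hsum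
    have hcard : Nat.card G = 210 := by omega
    obtain ⟨t, ht⟩ := exists_prime_orderOf_dvd_card' (G := G) 2 (by rw [hcard]; norm_num)
    have ht1 : t ≠ 1 := fun e => by rw [e, orderOf_one] at ht; omega
    have htt : t * t = 1 := by rw [← pow_two, ← ht, pow_orderOf_eq_one]
    have h4 := four_dvd_moved (Ω := G) hG htt
    have h0 : fx G t = 0 := by
      rw [fx_eq_card, Nat.cast_eq_zero, Finset.card_eq_zero, Finset.filter_eq_empty_iff]
      exact fun δ _ h => ht1 (mul_eq_right.1 h)
    rw [h0, ← Nat.card_eq_fintype_card, hcard] at h4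
    omega
  · simp only [Nat.cast_zero, sub_zero, one_mul] at hsum2
    have hb : ∑ g ∈ (reg p G).erase 1, (6 - D.a g) * (D.a g ^ 2 + D.s * D.a g) ≤
        ∑ g ∈ (reg p G).erase 1, 5 * (D.a g ^ 2 + D.s * D.a g) := by
      refine Finset.sum_le_sum fun g hg => ?_
      rcases le_or_gt 1 (D.a g) with h1 | h1
      · exact mul_le_mul_of_nonneg_right (by omega) (D.e_nonneg g)
      · have := hfa g (Finset.mem_of_mem_erase hg)
        rcases (show D.a g = 0 ∨ D.a g = -1 by omega) with e | e <;> rw [e, hs] <;> norm_num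
    rw [← Finset.mul_sum, hsum2] at hb
    omega

end CfsgLib.DegreeThreeP
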