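import Cfsg.Agent.Lib.DegreeThreeP.Fixed
import Cfsg.Agent.Lib.DegreeThreeP.SPlus

/-!
# The case `k = 2`
-/

set_option autoImplicit false
set_option linter.style.haveILetI false
set_option linter.unusedSectionVars false

noncomputable section

namespace CfsgLib.DegreeThreeP

open Cfsg CfsgLib.Characters MulAction
open scoped ComplexConjugate Classical

universe u v

variable {p : ℕ} [hp : Fact p.Prime] {G : Type u} [Group G] [Fintype G]

theorem eq_one_of_value [IsSimpleGroup G] (hG : ¬ IsMulCommutative G) {ψ : IrrCharacter G}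
    (hψ : ψ ≠ principalIrr G) {g : G} (hg : (ψ : G → ℂ) g = (ψ : G → ℂ) 1) : g = 1 := by
  obtain ⟨d, ρ, hρ, he⟩ := ψ.2
  have hd : (Module.finrank ℂ (Fin d → ℂ) : ℂ) = (ψ : G → ℂ) 1 := by
    rw [← he, Representation.char_one]
  have hgk : g ∈ MonoidHom.ker ρ := by
    refine MonoidHom.mem_ker.2 ((char_eq_degree_iff ρ g).1 ?_)
    rw [he, hg, hd]
  rcases Small.eq_bot_or_top (MonoidHom.ker ρ) with h | h
  · rw [h] at hgk
    exact Subgroup.mem_bot.1 hgk
  · exfalso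
    have hall : ∀ x : G, (ψ : G → ℂ) x = (ψ : G → ℂ) 1 := fun x => by
      rw [← he, Representation.character, MonoidHom.mem_ker.1 (h ▸ Subgroup.mem_top x),
        LinearMap.trace_one, hd, he]
    have h0 := classInner_irr_ne ψ.2 (principalIrr G).2 (fun e => hψ (Subtype.ext e))
    simp only [classInner, principalIrr_apply, map_one, mul_one, hall, Finset.sum_const,
      Finset.card_univ, nsmul_eq_mul, ← Nat.card_eq_fintype_card] at h0
    rw [inv_mul_cancel_left₀ (Nat.cast_ne_zero.2 Nat.card_pos.ne')] at h0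
    exact irr_one_ne_zero ψ h0

variable {Ω : Type v} [Fintype Ω] [MulAction G Ω]

/-- The second constituent of the permutation character. -/
theorem exists_second (D : Dat p G) {b r : ℕ} {c d : IrrCharacter G → ℕ} {m : ℕ}
    (heq : ∀ g : G, (fx Ω g : ℂ) = 1 + (m : ℂ) * (D.χ : G → ℂ) g +
        (b : ℂ) * ∑ ψ ∈ D.Y, (ψ : G → ℂ) g + ∑ ψ ∈ D.out, (c ψ : ℂ) * (ψ : G → ℂ) g)
    (hd : ∀ ψ ∈ D.out, (ψ : G → ℂ) 1 = ((p * d ψ : ℕ) : ℂ) ∧ 0 < d ψ)
    (hr : r = ∑ ψ ∈ D.out, c ψ * d ψ) (hr1 : r = 1) (hm : m = 1) (hb : b = 0) :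
    ∃ ψ ∈ D.out, (ψ : G → ℂ) 1 = (p : ℂ) ∧
      ∀ g : G, (ψ : G → ℂ) g = ((fx Ω g - 1 - D.a g : ℤ) : ℂ) := by
  obtain ⟨ψ, hψ, hne⟩ := Finset.exists_ne_zero_of_sum_ne_zero (hr ▸ hr1.trans_ne one_ne_zero)
  have h1 : c ψ * d ψ ≤ 1 := hr1 ▸ hr ▸
    Finset.single_le_sum (f := fun ψ => c ψ * d ψ) (fun _ _ => Nat.zero_le _) hψ
  have h2 : c ψ * d ψ = 1 := by omega
  obtain ⟨hc1, hd1⟩ := Nat.eq_one_of_mul_eq_one_right h2, Nat.eq_one_of_mul_eq_one_left h2
  refine ⟨ψ, hψ, ?_, fun g => ?_⟩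
  · rw [(hd ψ hψ).1, hd1, mul_one]
  · have hrest : ∀ φ ∈ D.out.erase ψ, c φ = 0 := by
      intro φ hφ
      have h3 := Finset.add_sum_erase D.out (fun ψ => c ψ * d ψ) hψ
      rw [← hr, hr1, h2] at h3
      have h4 : ∑ x ∈ D.out.erase ψ, c x * d x = 0 := by omega
      rcases Nat.mul_eq_zero.1 (Finset.sum_eq_zero_iff.1 h4 φ hφ) with h | h
      · exact h
      · exact absurd h (hd φ (Finset.mem_of_mem_erase hφ)).2.ne'
    have h := heq g
    rw [hm, hb, ← Finset.add_sum_erase _ _ hψ, hc1,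
      Finset.sum_eq_zero (s := D.out.erase ψ) fun φ hφ => by rw [hrest φ hφ, Nat.cast_zero, zero_mul], D.val] at h
    push_cast
    linear_combination -h

/-- A lower bound for the degree of a character from its inner products with the principal
block. -/
theorem degree_bound (D : Dat p G) {φ : G → ℂ} (hφ : IsCharacter G φ) {m1 mχ mY : ℕ}
    (h1 : ∑ g, φ g = (m1 : ℂ) * Nat.card G)
    (hχ : ∑ g, φ g * (D.a g : ℂ) = (mχ : ℂ) * Nat.card G)
    (hY : ∀ ψ ∈ D.Y, ∑ g, φ g * conj ((ψ : G → ℂ) g) = (mY : ℂ) * Nat.card G)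
    {d : ℤ} (hd : φ 1 = (d : ℂ)) :
    (m1 : ℤ) + mχ * D.X + mY * (D.Y.card * D.Th) ≤ d := by
  choose c hc using fun ψ : IrrCharacter G => classInner_char_nat hφ (irr_isCharacter ψ)
  have key : ∀ (ψ : IrrCharacter G) (n : ℕ),
      ∑ g, φ g * conj ((ψ : G → ℂ) g) = (n : ℂ) * Nat.card G → c ψ = n := by
    intro ψ n hn
    have h := hc ψ
    rw [classInner, hn, mul_comm (n : ℂ), inv_mul_cancel_left₀
      (Nat.cast_ne_zero.2 Nat.card_pos.ne')] at h
    exact_mod_cast h.symm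
  have hc1 : c (principalIrr G) = m1 := key _ _ (by simpa using h1)
  have hc2 : c D.χ = mχ := key _ _ (by simpa [D.val] using hχ)
  have hsum := congrFun (classFunction_eq_sum (isClassFunction_of_isCharacter hφ)) 1
  simp only [Finset.sum_apply, Pi.smul_apply, smul_eq_mul, hc] at hsum
  rw [D.sum_irr, hc1, hc2, principalIrr_apply, D.val_one, hd,
    Finset.sum_congr rfl fun ψ hψ => by rw [key ψ mY (hY ψ hψ), D.Y_one hψ],
    Finset.sum_const, nsmul_eq_mul] at hsum
  have hdeg : ∀ ψ : IrrCharacter G, (c ψ : ℂ) * (ψ : G → ℂ) 1 =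
      ((c ψ * charDegree (ψ : G → ℂ) : ℕ) : ℂ) := fun ψ => by
    rw [(ClassCount.degree_eq ψ).1]; push_cast; rfl
  rw [Finset.sum_congr rfl fun ψ _ => hdeg ψ, ← Nat.cast_sum] at hsum
  set R := ∑ ψ ∈ Finset.univ \ insert (principalIrr G) (insert D.χ D.Y),
    c ψ * charDegree (ψ : G → ℂ)
  have h : d = (m1 : ℤ) + mχ * D.X + D.Y.card * (mY * D.Th) + R := by
    refine Int.cast_injective (α := ℂ) ?_
    push_cast
    linear_combination hsum
  rw [h]
  have : (0 : ℤ) ≤ R := Int.natCast_nonneg _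
  linarith

theorem card_class_eq (g : G) :
    (Nat.card (Subgroup.centralizer ({g} : Set G)) : ℤ) * (ClassCount.cls g).card =
      (Nat.card G : ℤ) := by
  rw [← ClassCount.card_cls_mul_centralizer g]
  push_cast
  ring

/-- In the case `k = 2` all nontrivial regular values of `χ` are `0` or `1`. -/
theorem two_values [IsSimpleGroup G] [IsPretransitive G Ω]
    (hG : ¬ IsMulCommutative G) (D : Dat p G) (hn : Fintype.card Ω = 3 * p)
    (hs : D.s = -1) (hk : D.k = 2) (hco : ∀ α : Ω, IsCoatom (stabilizer G α))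
    (hne : ∀ α β : Ω, α ≠ β → stabilizer G α ≠ stabilizer G β)
    {ψ : IrrCharacter G} (hψout : ψ ∈ D.out) (hψ1 : (ψ : G → ℂ) 1 = (p : ℂ))
    (hψv : ∀ g : G, (ψ : G → ℂ) g = ((fx Ω g - 1 - D.a g : ℤ) : ℂ)) :
    (Nat.card G : ℤ) = (p : ℤ) * D.X * D.Th ∧
      (∀ g ∈ (reg p G).erase 1, D.a g = 0 ∨ D.a g = 1) ∧
      (∑ g, (fx Ω g - 1 - D.a g) = 0) ∧
      (∑ g, D.a g * (fx Ω g - 1 - D.a g) = 0) ∧
      (∑ g, (fx Ω g - 1 - D.a g) ^ 2 = (Nat.card G : ℤ)) ∧
      (∑ g, D.a g * (fx Ω g - 1 - D.a g) ^ 2 = (Nat.card G : ℤ)) := by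
  set B : G → ℤ := fun g => fx Ω g - 1 - D.a g with hB
  have hψB : ∀ g, (ψ : G → ℂ) g = (B g : ℂ) := hψv
  show _ ∧ _ ∧ (∑ g, B g = 0) ∧ (∑ g, D.a g * B g = 0) ∧ (∑ g, B g ^ 2 = _) ∧
    (∑ g, D.a g * B g ^ 2 = _)
  have hψne : ψ ≠ principalIrr G ∧ ψ ≠ D.χ ∧ ψ ∉ D.Y := by
    simpa [Dat.out, not_or] using hψout
  have hBsing : ∀ g : G, p ∣ orderOf g → B g = 0 := fun g hg => by
    have h := (D.outside ψ hψne.1 hψne.2.1 hψne.2.2).1 g hg
    rw [hψB] at h
    exact_mod_cast h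
  have hX : D.X = 2 * (p : ℤ) - 1 := by simp [Dat.X, hs, hk, sub_eq_add_neg]
  have hT : D.Th = 2 * (p : ℤ) - 2 := by simp [Dat.Th, hX, hs]; ring
  have hB1 : B 1 = p := by
    have h := hψB 1
    rw [hψ1] at h
    exact_mod_cast h.symm
  have hGne : (Nat.card G : ℂ) ≠ 0 := Nat.cast_ne_zero.2 Nat.card_pos.ne'
  have hGpos : (0 : ℤ) < Nat.card G := by exact_mod_cast Nat.card_pos
  -- orthogonality
  have hb0 : ∑ g, B g = 0 := by
    have h := classInner_irr_ne ψ.2 (principalIrr G).2 (fun e => hψne.1 (Subtype.ext e))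
    rw [classInner, mul_eq_zero] at h
    have h := h.resolve_left (inv_ne_zero hGne)
    simp only [principalIrr_apply, map_one, mul_one, hψB] at h
    exact_mod_cast h
  have hab : ∑ g, D.a g * B g = 0 := by
    have h := classInner_irr_ne D.χ.2 ψ.2 (fun e => hψne.2.1 (Subtype.ext e.symm))
    rw [classInner, mul_eq_zero] at h
    have h := h.resolve_left (inv_ne_zero hGne)
    simp only [hψB, D.val, map_intCast] at h
    exact_mod_cast h
  have hb2 : ∑ g, B g ^ 2 = (Nat.card G : ℤ) := by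
    have h := classInner_irr_self ψ.2
    rw [classInner, inv_mul_eq_one₀ hGne] at h
    simp only [hψB, map_intCast, ← pow_two] at h
    exact_mod_cast h.symm
  -- the inner product of `ψ²` with `χ`
  have hψψ := isCharacter_mul (irr_isCharacter ψ) (irr_isCharacter ψ)
  obtain ⟨F, hF⟩ := Dat.exists_inner hψψ D.χ
  simp only [Pi.mul_apply, hψB, D.val, map_intCast] at hF
  have hF' : ∑ g, D.a g * B g ^ 2 = (F : ℤ) * Nat.card G := by
    refine Int.cast_injective (α := ℂ) ?_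
    push_cast
    rw [← hF]
    exact Finset.sum_congr rfl fun g _ => by ring
  have hYin : ∀ θ ∈ D.Y, ∑ g, ((ψ : G → ℂ) g * (ψ : G → ℂ) g) * conj ((θ : G → ℂ) g) =
      (((F : ℤ) - 1 : ℤ) : ℂ) * Nat.card G := by
    intro θ hθ
    have e : ∀ g : G, ((ψ : G → ℂ) g * (ψ : G → ℂ) g) * conj ((θ : G → ℂ) g) =
        ((D.a g * B g ^ 2 - B g ^ 2 : ℤ) : ℂ) := by
      intro g
      by_cases hg : p ∣ orderOf g
      · rw [hψB, hBsing g hg]; simp
      · rw [hψB, D.Y_reg θ hθ g hg, map_intCast, hs]; push_cast; ring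
    rw [Finset.sum_congr rfl fun g _ => e g, ← Int.cast_sum, Finset.sum_sub_distrib, hF', hb2]
    push_cast
    ring
  obtain ⟨θ, hθ⟩ := D.Y_nonempty
  have hF1 : 1 ≤ F := by
    obtain ⟨n, hn'⟩ := Dat.exists_inner hψψ θ
    simp only [Pi.mul_apply] at hn'
    rw [hYin θ hθ] at hn'
    have h := mul_right_cancel₀ hGne hn'
    have h' : (F : ℤ) - 1 = (n : ℤ) := by exact_mod_cast h
    omega
  have hFle : F ≤ 1 := by
    have hm1 : ∑ g, ((ψ : G → ℂ) * (ψ : G → ℂ)) g = ((1 : ℕ) : ℂ) * Nat.card G := by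
      rw [Nat.cast_one, one_mul]
      simp only [Pi.mul_apply, hψB, ← pow_two]
      exact_mod_cast hb2
    have hm2 : ∑ g, ((ψ : G → ℂ) * (ψ : G → ℂ)) g * (D.a g : ℂ) = (F : ℂ) * Nat.card G := by
      simp only [Pi.mul_apply, hψB]
      exact hF
    have hm3 : ∀ θ ∈ D.Y, ∑ g, ((ψ : G → ℂ) * (ψ : G → ℂ)) g * conj ((θ : G → ℂ) g) =
        ((F - 1 : ℕ) : ℂ) * Nat.card G := fun θ hθ => by
      simp only [Pi.mul_apply]
      rw [hYin θ hθ, Nat.cast_sub hF1]
      push_cast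
      ring
    have h := degree_bound D hψψ hm1 hm2 hm3 (d := (p : ℤ) * p)
      (by rw [Pi.mul_apply, hψ1]; push_cast; rfl)
    rw [hX, hT] at h
    by_contra hlt
    have h2 : (2 : ℤ) ≤ F := by exact_mod_cast (by omega : 2 ≤ F)
    have h3 : 2 * (2 * (p : ℤ) - 1) ≤ (F : ℤ) * (2 * (p : ℤ) - 1) :=
      mul_le_mul_of_nonneg_right h2 (by have := D.p5; omega)
    have hY : (p : ℤ) = 2 * D.Y.card + 1 := by exact_mod_cast D.Y_card.symm
    have h4 : 1 * ((D.Y.card : ℤ) * (2 * (p : ℤ) - 2)) ≤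
        ((F - 1 : ℕ) : ℤ) * ((D.Y.card : ℤ) * (2 * (p : ℤ) - 2)) :=
      mul_le_mul_of_nonneg_right (by exact_mod_cast (by omega : 1 ≤ F - 1))
        (mul_nonneg (by positivity) (by have := D.p5; omega))
    have h5 : 2 * ((D.Y.card : ℤ) * (2 * (p : ℤ) - 2)) = 2 * ((p : ℤ) - 1) * ((p : ℤ) - 1) := by
      rw [hY]; ring
    have hp5 : (5 : ℤ) ≤ p := by exact_mod_cast D.p5
    push_cast at h
    linarith
  have hF0 : F = 1 := le_antisymm hFle hF1
  rw [hF0, Nat.cast_one, one_mul] at hF'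
  refine ⟨?_, ?_⟩
  on_goal 2 => refine ⟨?_, hb0, hab, hb2, hF'⟩
  all_goals
    obtain ⟨A, hA⟩ := D.exists_cube
    have hle := D.A_le hA
    obtain ⟨E, hE⟩ := Dat.exists_inner
      (isCharacter_mul (irr_isCharacter D.χ) (irr_isCharacter D.χ)) ψ
    simp only [Pi.mul_apply, hψB, D.val, map_intCast] at hE
    have hE' : ∑ g, D.a g ^ 2 * B g = (E : ℤ) * Nat.card G := by
      refine Int.cast_injective (α := ℂ) ?_
      push_cast
      rw [← hE]
      exact Finset.sum_congr rfl fun g _ => by ring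
    have hfe : ∀ g : G, fx Ω g = 1 + D.a g + B g := fun g => by simp only [hB]; ring
    have hfa : ∑ g : G, fx Ω g * D.a g = (Nat.card G : ℤ) := by
      have e : ∀ g : G, fx Ω g * D.a g = D.a g + D.a g ^ 2 + D.a g * B g := fun g => by
        rw [hfe g]; ring
      simp only [e, Finset.sum_add_distrib, D.sum_a, D.sum_a_sq, hab]
      ring
    have hf2 : ∑ g : G, fx Ω g ^ 2 = 3 * (Nat.card G : ℤ) := by
      have e : ∀ g : G, fx Ω g ^ 2 =
          1 + 2 * D.a g + D.a g ^ 2 + 2 * B g + 2 * (D.a g * B g) + B g ^ 2 := fun g => by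
        rw [hfe g]; ring
      simp only [e, Finset.sum_add_distrib, ← Finset.mul_sum, D.sum_a, D.sum_a_sq, hab, hb0, hb2,
        Finset.sum_const, Finset.card_univ, nsmul_eq_mul, ← Nat.card_eq_fintype_card]
      ring
    have hf2a : ∑ g : G, fx Ω g ^ 2 * D.a g = ((3 : ℤ) + A + 2 * E) * Nat.card G := by
      have e : ∀ g : G, fx Ω g ^ 2 * D.a g = D.a g + D.a g ^ 3 + D.a g * B g ^ 2 + 2 * D.a g ^ 2 +
          2 * (D.a g * B g) + 2 * (D.a g ^ 2 * B g) := fun g => by rw [hfe g]; ring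
      simp only [e, Finset.sum_add_distrib, ← Finset.mul_sum, D.sum_a, D.sum_a_sq, hab, hA, hF',
        hE']
      ring
    have hf : ∑ g : G, fx Ω g = (Nat.card G : ℤ) := by
      simp only [hfe, Finset.sum_add_distrib, D.sum_a, hb0, Finset.sum_const, Finset.card_univ,
        nsmul_eq_mul, ← Nat.card_eq_fintype_card]
      ring
    obtain ⟨n, ρ, hρ, he⟩ := D.χ.2
    have h5 := five_le_sq_mul (Ω := Ω) ρ D.a (fun g => by rw [he, D.val]) D.sum_a
      (by rw [hfa]; exact hGpos) hco hne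
    rw [hf2, hf, hf2a] at h5
    have hAE : 2 ≤ A + 2 * E := by
      have h6 : (5 : ℤ) * Nat.card G ≤ ((3 : ℤ) + A + 2 * E) * Nat.card G := by linarith
      have := le_of_mul_le_mul_right h6 hGpos
      omega
    have hz : ∀ g ∈ (reg p G).erase 1, D.a g ^ 2 + D.s * D.a g = 0 := by
      rw [hk] at hle
      rcases (show A = 2 ∨ (A ≤ 1 ∧ 1 ≤ E) by omega) with hA2 | ⟨-, hE1⟩
      · intro g hg
        have h := D.sum_Xe' hA
        rw [hk, hA2, sub_self, zero_mul] at h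
        have hpos : ∀ g ∈ (reg p G).erase 1, 0 < D.X - D.a g := fun g hg =>
          sub_pos.2 (D.a_lt' (Finset.ne_of_mem_erase hg))
        exact (mul_eq_zero.1 ((Finset.sum_eq_zero_iff_of_nonneg fun g hg =>
          mul_nonneg (hpos g hg).le (D.e_nonneg g)).1 h g hg)).resolve_left (hpos g hg).ne'
      · have hpos : ∀ g ∈ (reg p G).erase 1, 0 < (p : ℤ) - B g := by
          intro g hg
          have h1 : |B g| ≤ (p : ℤ) := by
            have h2 := norm_le_degree_of_isCharacter (irr_isCharacter ψ) g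
            rw [hψB g, hψB 1, Complex.norm_intCast, Complex.norm_intCast, hB1] at h2
            have h3 : |B g| ≤ |(p : ℤ)| := by exact_mod_cast h2
            rwa [abs_of_nonneg (Int.natCast_nonneg p)] at h3
          have h2 : B g ≠ p := fun e => Finset.ne_of_mem_erase hg
            (eq_one_of_value hG hψne.1 (by rw [hψB, e, hψ1, Int.cast_natCast]))
          have := le_abs_self (B g)
          omega
        have hreg : ∑ g ∈ reg p G, ((p : ℤ) - B g) * (D.a g ^ 2 + D.s * D.a g) =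
            (1 - (E : ℤ)) * Nat.card G := by
          have h1 := sum_reg_add (p := p) (fun g => ((p : ℤ) - B g) * (D.a g ^ 2 + D.s * D.a g))
          rw [Finset.sum_congr (s₁ := sing p G) rfl fun g hg => by
            rw [hBsing g (mem_sing.1 hg), D.a_sing g (mem_sing.1 hg), sub_zero],
            Finset.sum_const, nsmul_eq_mul] at h1
          have h2 : ∑ g, ((p : ℤ) - B g) * (D.a g ^ 2 + D.s * D.a g) =
              ((p : ℤ) - E) * Nat.card G := by
            have e : ∀ g, ((p : ℤ) - B g) * (D.a g ^ 2 + D.s * D.a g) =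
                (p : ℤ) * D.a g ^ 2 + (p : ℤ) * D.s * D.a g - D.a g ^ 2 * B g -
                  D.s * (D.a g * B g) := fun g => by ring
            simp only [e, Finset.sum_sub_distrib, Finset.sum_add_distrib, ← Finset.mul_sum,
              D.sum_a, D.sum_a_sq, hE', hab]
            ring
          rw [h2, hs] at h1
          rw [hs]
          linear_combination h1 - D.two_p_sing
        rw [← Finset.add_sum_erase _ _ (mem_reg.2 (one_not_sing (p := p) (G := G))), hB1,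
          sub_self, zero_mul, zero_add] at hreg
        have h0 : 0 ≤ ∑ g ∈ (reg p G).erase 1, ((p : ℤ) - B g) * (D.a g ^ 2 + D.s * D.a g) :=
          Finset.sum_nonneg fun g hg => mul_nonneg (hpos g hg).le (D.e_nonneg g)
        have h3 : (1 - (E : ℤ)) * Nat.card G ≤ 0 :=
          mul_nonpos_of_nonpos_of_nonneg (by omega) hGpos.le
        intro g hg
        exact (mul_eq_zero.1 ((Finset.sum_eq_zero_iff_of_nonneg fun g hg =>
          mul_nonneg (hpos g hg).le (D.e_nonneg g)).1 (by linarith) g hg)).resolve_left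
            (hpos g hg).ne'
  · have h := D.sum_e'
    rw [Finset.sum_eq_zero hz, mul_zero] at h
    linarith
  · intro g hg
    rcases D.e_eq_zero (hz g hg) with h | h
    · exact Or.inl h
    · rw [hs, neg_neg] at h
      exact Or.inr h

/-- In the case `k = 2` we have `p = 5` and `|G| = 360`. -/
theorem k_two [IsSimpleGroup G] [IsPretransitive G Ω]
    (hG : ¬ IsMulCommutative G) (D : Dat p G) (hn : Fintype.card Ω = 3 * p)
    (hs : D.s = -1) (hk : D.k = 2) (hco : ∀ α : Ω, IsCoatom (stabilizer G α))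
    (hne : ∀ α β : Ω, α ≠ β → stabilizer G α ≠ stabilizer G β)
    {ψ : IrrCharacter G} (hψout : ψ ∈ D.out) (hψ1 : (ψ : G → ℂ) 1 = (p : ℂ))
    (hψv : ∀ g : G, (ψ : G → ℂ) g = ((fx Ω g - 1 - D.a g : ℤ) : ℂ)) :
    p = 5 ∧ Nat.card G = 360 := by
  obtain ⟨hcard, hval, hb0, hab, hb2, hab2⟩ := two_values hG D hn hs hk hco hne hψout hψ1 hψv
  set B : G → ℤ := fun g => fx Ω g - 1 - D.a g with hB
  change ∑ g, B g = 0 at hb0
  change ∑ g, D.a g * B g = 0 at hab
  change ∑ g, B g ^ 2 = _ at hb2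
  change ∑ g, D.a g * B g ^ 2 = _ at hab2
  have hX : D.X = 2 * (p : ℤ) - 1 := by simp [Dat.X, hs, hk, sub_eq_add_neg]
  have hT : D.Th = 2 * (p : ℤ) - 2 := by simp [Dat.Th, hX, hs]; ring
  have hp5 : (5 : ℤ) ≤ p := by exact_mod_cast D.p5
  have hψne : ψ ≠ principalIrr G ∧ ψ ≠ D.χ ∧ ψ ∉ D.Y := by
    simpa [Dat.out, not_or] using hψout
  have hψB : ∀ g, (ψ : G → ℂ) g = (B g : ℂ) := hψv
  have hBsing : ∀ g : G, p ∣ orderOf g → B g = 0 := fun g hg => by
    have h := (D.outside ψ hψne.1 hψne.2.1 hψne.2.2).1 g hg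
    rw [hψB] at h
    exact_mod_cast h
  have hBcls : ∀ g h : G, IsConj g h → B g = B h := fun g h hgh => by
    have := classFunction_eq_of_isConj (irr_isClassFunction ψ) hgh
    rw [hψB, hψB] at this
    exact_mod_cast this
  have hB1 : B 1 = p := by
    have h := hψB 1
    rw [hψ1] at h
    exact_mod_cast h.symm
  set R := (reg p G).erase 1 with hR
  set Z := R.filter fun g => D.a g = 0 with hZ
  have hfull : ∀ φ : G → ℤ, ∑ g ∈ R, φ g = ∑ g, φ g - φ 1 - ∑ g ∈ sing p G, φ g := by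
    intro φ
    rw [← sum_reg_add (p := p) φ, hR,
      ← Finset.add_sum_erase _ _ (mem_reg.2 (one_not_sing (p := p) (G := G)))]
    ring
  have hZsum : ∀ φ : G → ℤ, ∑ g ∈ Z, φ g = ∑ g ∈ R, φ g - ∑ g ∈ R, D.a g * φ g := by
    intro φ
    rw [hZ, Finset.sum_filter, ← Finset.sum_sub_distrib]
    refine Finset.sum_congr rfl fun g hg => ?_
    rcases hval g hg with e | e <;> rw [e] <;> simp
  have hZcard : (Z.card : ℤ) = 2 * ((p : ℤ) * D.Th) := by
    have h := hZsum (fun _ => 1)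
    simp only [Finset.sum_const, nsmul_eq_mul, mul_one] at h
    have h1 := hfull (fun _ => 1)
    simp only [Finset.sum_const, nsmul_eq_mul, mul_one, Finset.card_univ,
      ← Nat.card_eq_fintype_card] at h1
    have h2 := hfull D.a
    rw [D.sum_a, D.a_one', D.sum_sing (fun t => t)] at h2
    rw [h, h1, h2]
    simp only [hs]
    have hsq := D.two_p_sing
    rw [hcard] at hsq ⊢
    have h3 : 2 * ((sing p G).card : ℤ) = ((p : ℤ) - 1) * (D.X * D.Th) :=
      mul_left_cancel₀ (show (p : ℤ) ≠ 0 by linarith) (by linarith)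
    rw [hX, hT] at h3 ⊢
    linear_combination -h3
  have hZb : ∑ g ∈ Z, B g = (p : ℤ) * D.Th := by
    rw [hZsum, hfull, hfull, hb0, hab, hB1, D.a_one',
      Finset.sum_eq_zero (s := sing p G) fun g hg => hBsing g (mem_sing.1 hg),
      Finset.sum_eq_zero (s := sing p G) fun g hg => by rw [hBsing g (mem_sing.1 hg), mul_zero]]
    rw [hX, hT]; ring
  have hZb2 : ∑ g ∈ Z, B g ^ 2 = (p : ℤ) * p * D.Th := by
    rw [hZsum, hfull, hfull, hb2, hab2, hB1, D.a_one',
      Finset.sum_eq_zero (s := sing p G) fun g hg => by rw [hBsing g (mem_sing.1 hg)]; ring,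
      Finset.sum_eq_zero (s := sing p G) fun g hg => by rw [hBsing g (mem_sing.1 hg)]; ring]
    rw [hX, hT]; ring
  have hXpos := D.X_pos
  have hTpos := D.Th_pos
  have hpT : 0 < (p : ℤ) * D.Th := mul_pos (by linarith) hTpos
  -- classes in `Z`
  have hcls : ∀ g ∈ Z, ∃ j : ℤ, 1 ≤ j ∧ ((ClassCount.cls g).card : ℤ) = (p : ℤ) * D.Th * j := by
    intro g hg
    rw [hZ, Finset.mem_filter, hR, Finset.mem_erase, mem_reg] at hg
    obtain ⟨⟨hg1, hgr⟩, hga⟩ := hg
    obtain ⟨r, -, -, hr⟩ := D.exists_pairs hg1 hgr hg1 hgr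
    rw [hga, sub_zero, hcard] at hr
    set C := (Nat.card (Subgroup.centralizer ({g} : Set G)) : ℤ) with hC
    have h1 : (r : ℤ) * C ^ 2 = D.X ^ 2 := by
      refine mul_left_cancel₀ (mul_ne_zero (mul_ne_zero (show (p : ℤ) ≠ 0 by linarith)
        hXpos.ne') hTpos.ne') ?_
      linear_combination hr
    obtain ⟨j, hj⟩ := (Int.pow_dvd_pow_iff two_ne_zero).1 (h1 ▸ dvd_mul_left (C ^ 2) (r : ℤ))
    have hCpos : 0 < C := by rw [hC]; exact_mod_cast Nat.card_pos
    refine ⟨j, ?_, ?_⟩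
    · have : 0 < j := by
        rw [hj] at hXpos
        exact pos_of_mul_pos_right hXpos hCpos.le
      omega
    · refine mul_left_cancel₀ hCpos.ne' ?_
      rw [hC, card_class_eq, hcard, ← hC, hj]
      ring
  have hclsZ : ∀ g ∈ Z, ∀ x ∈ ClassCount.cls g, x ∈ Z ∧ B x = B g := by
    intro g hg x hx
    rw [ClassCount.mem_cls] at hx
    rw [hZ, Finset.mem_filter, hR, Finset.mem_erase, mem_reg] at hg ⊢
    obtain ⟨c, hc⟩ := isConj_iff.1 hx
    refine ⟨⟨⟨fun e => hg.1.1 (by rw [e, conj_eq_one_iff] at hc; exact hc), ?_⟩,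
      (D.a_conj hx).symm.trans hg.2⟩, (hBcls g x hx).symm⟩
    rw [← hc, show c * g * c⁻¹ = MulAut.conj c g from rfl,
      show orderOf (MulAut.conj c g) = orderOf g from
        orderOf_injective (MulAut.conj c).toMonoidHom (MulAut.conj c).injective g]
    exact hg.1.2
  obtain ⟨g₁, hg₁⟩ : Z.Nonempty := Finset.card_pos.1 (by omega)
  obtain ⟨j₁, hj₁, hK₁⟩ := hcls g₁ hg₁
  set K₁ := ClassCount.cls g₁
  have hsub : K₁ ⊆ Z := fun x hx => (hclsZ g₁ hg₁ x hx).1
  have hle1 : ((K₁.card : ℕ) : ℤ) ≤ Z.card := by exact_mod_cast Finset.card_le_card hsub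
  have hsum1 : ∀ φ : ℤ → ℤ, ∑ x ∈ K₁, φ (B x) = (K₁.card : ℤ) * φ (B g₁) := fun φ => by
    rw [Finset.sum_congr rfl fun x hx => by rw [(hclsZ g₁ hg₁ x hx).2], Finset.sum_const,
      nsmul_eq_mul]
  by_cases hall : Z \ K₁ = ∅
  · exfalso
    have hZK : Z = K₁ := Finset.Subset.antisymm (Finset.sdiff_eq_empty_iff_subset.1 hall) hsub
    rw [hZK, hsum1 fun t => t] at hZb
    rw [hZK] at hZcard
    rw [hZcard] at hZb
    have h : 2 * B g₁ = 1 := mul_left_cancel₀ hpT.ne' (by linarith)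
    omega
  · obtain ⟨g₂, hg₂⟩ := Finset.nonempty_iff_ne_empty.2 hall
    rw [Finset.mem_sdiff] at hg₂
    obtain ⟨j₂, hj₂, hK₂⟩ := hcls g₂ hg₂.1
    set K₂ := ClassCount.cls g₂
    have hsub2 : K₂ ⊆ Z \ K₁ := by
      intro x hx
      refine Finset.mem_sdiff.2 ⟨(hclsZ g₂ hg₂.1 x hx).1, fun h1 => hg₂.2 ?_⟩
      rw [ClassCount.mem_cls] at h1 hx ⊢
      exact h1.trans hx.symm
    have hcd : ((Z \ K₁).card : ℤ) + K₁.card = Z.card := by
      exact_mod_cast Finset.card_sdiff_add_card_eq_card hsub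
    have hle2 : ((K₂.card : ℕ) : ℤ) ≤ ((Z \ K₁).card : ℤ) := by
      exact_mod_cast Finset.card_le_card hsub2
    have hge1 := mul_le_mul_of_nonneg_left hj₁ hpT.le
    have hge2 := mul_le_mul_of_nonneg_left hj₂ hpT.le
    have hK1 : (K₁.card : ℤ) = (p : ℤ) * D.Th := by linarith
    have heq : K₂ = Z \ K₁ := Finset.eq_of_subset_of_card_le hsub2 (by
      have : ((Z \ K₁).card : ℤ) ≤ K₂.card := by linarith
      exact_mod_cast this)
    have hK2 : (K₂.card : ℤ) = (p : ℤ) * D.Th := by rw [heq]; linarith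
    have hsum2 : ∀ φ : ℤ → ℤ, ∑ x ∈ Z, φ (B x) =
        ((p : ℤ) * D.Th) * (φ (B g₁) + φ (B g₂)) := fun φ => by
      rw [← Finset.sum_sdiff hsub, hsum1 φ, ← heq,
        Finset.sum_congr rfl fun x hx => by rw [(hclsZ g₂ hg₂.1 x hx).2], Finset.sum_const,
        nsmul_eq_mul, hK1, hK2]
      ring
    rw [hsum2 fun t => t] at hZb
    rw [hsum2 fun t => t ^ 2] at hZb2
    have hs1 : B g₁ + B g₂ = 1 := mul_left_cancel₀ hpT.ne' (by linarith)
    have hs2 : B g₁ ^ 2 + B g₂ ^ 2 = p := mul_left_cancel₀ hpT.ne' (by linarith)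
    have hge : ∀ g ∈ Z, -1 ≤ B g := fun g hg => by
      rw [hZ, Finset.mem_filter] at hg
      have := fx_nonneg (Ω := Ω) g
      simp only [hB, hg.2]
      omega
    have hb1 := hge g₁ hg₁
    have hb2' := hge g₂ hg₂.1
    have hp5' : p = 5 := by
      rw [show B g₂ = 1 - B g₁ by linarith] at hs2
      rcases (show B g₁ = -1 ∨ B g₁ = 0 ∨ B g₁ = 1 ∨ B g₁ = 2 by omega) with e | e | e | e <;>
        rw [e] at hs2 <;> norm_num at hs2 <;> omega
    refine ⟨hp5', ?_⟩
    have h5 : (p : ℤ) = 5 := by exact_mod_cast hp5'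
    rw [hX, hT] at hcard
    simp only [h5] at hcard
    omega

end CfsgLib.DegreeThreeP
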