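import Mathlib

/-!
# Groups of odd order acting on three or five points
-/

set_option autoImplicit false
set_option linter.unusedSectionVars false

noncomputable section

namespace CfsgLib.DegreeThreeP

open MulAction
open scoped Classical

universe u v

theorem isMulCommutative_perm_five {Y : Type v} [Fintype Y] (hY : Fintype.card Y = 5)
    (K : Subgroup (Equiv.Perm Y)) (h15 : Nat.card K = 15) : False := by
  haveI : Fact (Nat.Prime 5) := ⟨by norm_num⟩
  obtain ⟨P⟩ : Nonempty (Sylow 5 K) := inferInstance
  have hPc : Nat.card P = 5 := by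
    rw [Sylow.card_eq_multiplicity, h15]
    have : (15 : ℕ).factorization 5 = 1 := by
      rw [show (15 : ℕ) = 3 * 5 by norm_num,
        Nat.factorization_mul (by norm_num) (by norm_num), Finsupp.add_apply,
        Nat.Prime.factorization_self (by norm_num), Nat.factorization_eq_zero_of_not_dvd (by norm_num)]
    rw [this, pow_one]
  have hn1 : Nat.card (Sylow 5 K) = 1 := by
    have h1 := card_sylow_modEq_one 5 K
    have h2 := Sylow.card_dvd_index P
    have h3 : (P : Subgroup K).index = 3 := by
      have := (P : Subgroup K).card_mul_index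
      rw [h15, show Nat.card (P : Subgroup K) = 5 from hPc] at this
      omega
    rw [h3] at h2
    rcases (Nat.dvd_prime Nat.prime_three).1 h2 with h | h
    · exact h
    · rw [h] at h1; exact absurd h1 (by decide)
  haveI : Subsingleton (Sylow 5 K) := (Nat.card_eq_one_iff_unique.1 hn1).1
  haveI : (P : Subgroup K).Normal := P.normal_of_subsingleton
  haveI : IsCyclic (P : Subgroup K) := isCyclic_of_prime_card hPc
  obtain ⟨a, ha⟩ := exists_prime_orderOf_dvd_card' (G := (P : Subgroup K)) 5 (by rw [hPc])
  have hcent : ∀ b : K, b * (a : K) * b⁻¹ = (a : K) := by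
    intro b
    let φ : K →* MulAut (P : Subgroup K) := MulAut.conjNormal
    have hA : Nat.card (MulAut (P : Subgroup K)) = 4 := by
      rw [IsCyclic.card_mulAut, show Nat.card (P : Subgroup K) = 5 from hPc]
      decide
    have h1 : Nat.card φ.range ∣ Nat.gcd 15 4 :=
      Nat.dvd_gcd (h15 ▸ Subgroup.card_range_dvd φ) (hA ▸ Subgroup.card_subgroup_dvd_card _)
    rw [show Nat.gcd 15 4 = 1 by norm_num, Nat.dvd_one] at h1
    have h2 : φ b = 1 := by
      have := Subgroup.mem_bot.1 (Subgroup.eq_bot_of_card_eq φ.range h1 ▸ ⟨b, rfl⟩ : φ b ∈ (⊥ : Subgroup _))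
      exact this
    exact (MulAut.conjNormal_apply b a).symm.trans (congrArg Subtype.val (DFunLike.congr_fun h2 a))
  set σ : Equiv.Perm Y := ((a : K) : Equiv.Perm Y) with hσ
  have hσo : orderOf σ = 5 := by rw [hσ, Subgroup.orderOf_coe, Subgroup.orderOf_coe, ha]
  obtain ⟨y₀, hy₀⟩ : ∃ y, σ y ≠ y := by
    by_contra hc
    simp only [not_exists, not_not] at hc
    rw [show σ = 1 from Equiv.ext hc, orderOf_one] at hσo
    omega
  have hcyc : Function.Bijective (fun i : Fin 5 => (σ ^ (i : ℕ)) y₀) := by
    refine (Fintype.bijective_iff_injective_and_card _).2 ⟨fun i j h => ?_, by simp [hY]⟩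
    have key : ∀ a b : ℕ, a < b → b < 5 → (σ ^ a) y₀ = (σ ^ b) y₀ → False := by
      intro a b hab hb5 he
      have h1 : (σ ^ (b - a)) y₀ = y₀ := by
        refine (σ ^ a).injective ?_
        rw [← Equiv.Perm.mul_apply, ← pow_add, Nat.add_sub_cancel' hab.le, he]
      have h5 : σ ^ 5 = 1 := hσo ▸ pow_orderOf_eq_one σ
      have hst : σ ^ (b - a) ∈ MulAction.stabilizer (Equiv.Perm Y) y₀ := h1
      have hgen : σ ∈ Subgroup.zpowers (σ ^ (b - a)) := by
        rw [mem_zpowers_pow_iff, hσo]
        exact ((Nat.Prime.coprime_iff_not_dvd (by norm_num)).2 fun h => by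
          have := Nat.le_of_dvd (by omega) h; omega).symm
      exact hy₀ ((Subgroup.zpowers_le.2 hst) hgen)
    rcases lt_trichotomy (i : ℕ) (j : ℕ) with hlt | heq | hgt
    · exact (key _ _ hlt j.2 h).elim
    · exact Fin.ext heq
    · exact (key _ _ hgt i.2 h.symm).elim
  have hinj : Function.Injective (fun b : K => (b : Equiv.Perm Y) y₀) := by
    intro b b' h
    refine Subtype.ext (Equiv.ext fun y => ?_)
    obtain ⟨i, rfl⟩ := hcyc.2 y
    have hc : ∀ c : K, Commute (c : Equiv.Perm Y) σ := fun c => by
      have := congrArg Subtype.val (mul_inv_eq_iff_eq_mul.1 (hcent c))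
      exact this
    simp only
    rw [← Equiv.Perm.mul_apply, ← Equiv.Perm.mul_apply, ((hc b).pow_right _).eq,
      ((hc b').pow_right _).eq, Equiv.Perm.mul_apply, Equiv.Perm.mul_apply]
    exact congrArg _ h
  have := Fintype.card_le_of_injective _ hinj
  rw [← Nat.card_eq_fintype_card, h15, hY] at this
  omega

/-- An odd order group transitive on three or five points induces a commutative group. -/
theorem smul_comm_small {S : Type u} [Group S] [Finite S] {Y : Type v} [Fintype Y] [MulAction S Y]
    [IsPretransitive S Y] (hodd : Odd (Nat.card S))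
    (hY : Fintype.card Y = 3 ∨ Fintype.card Y = 5) (a b : S) (y : Y) :
    a • b • y = b • a • y := by
  set φ := toPermHom S Y
  set K := φ.range with hKdef
  have hKodd : Odd (Nat.card K) := by
    obtain ⟨k, hk⟩ := Subgroup.card_range_dvd φ
    rw [hk] at hodd
    exact (Nat.odd_mul.1 hodd).1
  haveI : IsPretransitive K Y := ⟨fun x y => by
    obtain ⟨g, hg⟩ := exists_smul_eq S x y
    exact ⟨⟨φ g, g, rfl⟩, hg⟩⟩
  have hdvd : Fintype.card Y ∣ Nat.card K := by
    have h := Subgroup.index_dvd_card (stabilizer K y)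
    rwa [index_stabilizer_of_transitive, Nat.card_eq_fintype_card] at h
  have hfac : Nat.card K ∣ (Fintype.card Y).factorial := by
    refine (Subgroup.card_subgroup_dvd_card K).trans ?_
    rw [Nat.card_perm, Nat.card_eq_fintype_card]
  have hprime : (Nat.card K).Prime := by
    rcases hY with e | e <;> rw [e] at hdvd hfac
    · obtain ⟨o, ho⟩ := hKodd
      obtain ⟨j, hj⟩ := hdvd
      have hle : Nat.card K ≤ 6 := Nat.le_of_dvd (by norm_num) (hfac.trans (dvd_of_eq (by decide)))
      rw [show Nat.card K = 3 by omega]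
      norm_num
    · obtain ⟨o, ho⟩ := hKodd
      have hK : Nat.card K = 5 ∨ Nat.card K = 15 := by
        obtain ⟨j, hj⟩ := hdvd
        have h24 : j ∣ 24 := by
          rw [hj] at hfac
          exact Nat.dvd_of_mul_dvd_mul_left (by norm_num) (hfac.trans (dvd_of_eq (by decide)) :
            5 * j ∣ 5 * 24)
        have hjle := Nat.le_of_dvd (by norm_num) h24
        have hjodd : j % 2 = 1 := by omega
        have : j = 1 ∨ j = 3 := by
          interval_cases j <;> first | omega | (norm_num at h24)
        omega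
      rcases hK with h | h
      · rw [h]; norm_num
      · exact (isMulCommutative_perm_five e K h).elim
  haveI := Fact.mk hprime
  haveI : IsCyclic K := isCyclic_of_prime_card rfl
  have h : (⟨φ a, a, rfl⟩ : K) * ⟨φ b, b, rfl⟩ = ⟨φ b, b, rfl⟩ * ⟨φ a, a, rfl⟩ :=
    IsCyclic.isMulCommutative.is_comm.comm _ _
  exact DFunLike.congr_fun (congrArg Subtype.val h) y

end CfsgLib.DegreeThreeP
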