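import Cfsg.Agent.Lib.DegreeThreeP.OddDesign
import Cfsg.Agent.Lib.DegreeThreeP.SmallOrbit

/-!
# The case `k = 3` does not occur
-/

set_option autoImplicit false
set_option linter.style.haveILetI false
set_option linter.unusedSectionVars false

noncomputable section

namespace CfsgLib.DegreeThreeP

open Cfsg CfsgLib.Characters MulAction
open scoped Classical

universe u v

variable {p : ℕ} [hp : Fact p.Prime] {G : Type u} [Group G] [Fintype G]
  {Ω : Type v} [Fintype Ω] [MulAction G Ω] {D : Dat p G} {c s : ℕ}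

/-- The orbit of a point under the stabiliser of a triple, as a finset. -/
def orbFin (G : Type u) [Group G] {Ω : Type v} [Fintype Ω] [MulAction G Ω] (τ : Fin 3 ↪ Ω)
    (δ : Ω) : Finset Ω :=
  Finset.univ.filter fun y : Ω => y ∈ orbit (stabilizer G τ) δ

namespace OddCase

variable (O : OddCase D Ω c s)
include O

theorem orbFin_card (τ : Fin 3 ↪ Ω) (δ : Ω) : (orbFin G τ δ).card = olen (G := G) τ δ := by
  rw [orbFin, ← Fintype.card_subtype, ← Nat.card_eq_fintype_card]
  rfl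

theorem sum_orbFin (τ : Fin 3 ↪ Ω) (δ : Ω) :
    ∑ y ∈ orbFin G τ δ, ((1 : ℚ) / 3 - 1 / (olen (G := G) τ y : ℚ)) =
      ((olen (G := G) τ δ : ℚ) - 3) / 3 := by
  have h : ∀ y ∈ orbFin G τ δ, olen (G := G) τ y = olen (G := G) τ δ := fun y hy => by
    have he : orbit (stabilizer G τ) y = orbit (stabilizer G τ) δ :=
      orbit_eq_iff.2 (Finset.mem_filter.1 hy).2
    exact Nat.card_congr (Equiv.setCongr he)
  rw [Finset.sum_congr rfl fun y hy => by rw [h y hy], Finset.sum_const, O.orbFin_card,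
    nsmul_eq_mul]
  have hpos : (olen (G := G) τ δ : ℚ) ≠ 0 := by
    obtain ⟨k, hk⟩ := O.olen_odd τ δ
    exact Nat.cast_ne_zero.2 (by omega)
  field_simp

theorem orbFin_subset {τ : Fin 3 ↪ Ω} {δ : Ω} (hδ : δ ∉ Phi G τ) :
    orbFin G τ δ ⊆ (Phi G τ)ᶜ := by
  intro y hy
  refine Finset.mem_compl.2 fun hy' => hδ ?_
  obtain ⟨g, hg⟩ := (Finset.mem_filter.1 hy).2
  have h1 : g⁻¹ • y = y := mem_Phi.1 hy' _ (g⁻¹).2
  rw [← hg, inv_smul_smul] at h1
  rw [h1]
  rw [hg]
  exact hy'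

theorem excess_two (τ : Fin 3 ↪ Ω) {S : Finset Ω} (hS : S ⊆ (Phi G τ)ᶜ) :
    ∑ y ∈ S, ((1 : ℚ) / 3 - 1 / (olen (G := G) τ y : ℚ)) ≤ 2 := by
  refine ((Finset.sum_le_sum_of_subset_of_nonneg hS fun δ hδ _ => O.term_nonneg hδ).trans
    (O.excess_le τ)).trans ?_
  rw [O.F_eq_three τ]
  norm_num

theorem olen_le_nine (τ : Fin 3 ↪ Ω) (δ : Ω) : olen (G := G) τ δ ≤ 9 := by
  by_cases hδ : δ ∈ Phi G τ
  · rw [O.olen_mem hδ]; norm_num
  · have h := O.excess_two τ (O.orbFin_subset hδ)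
    rw [O.sum_orbFin] at h
    have : ((olen (G := G) τ δ : ℕ) : ℚ) ≤ ((9 : ℕ) : ℚ) := by push_cast; linarith
    exact_mod_cast this

theorem one_long (τ : Fin 3 ↪ Ω) {δ δ' : Ω} (hδ : 7 ≤ olen (G := G) τ δ)
    (hne : δ' ∉ orbit (stabilizer G τ) δ) : olen (G := G) τ δ' ≤ 3 := by
  by_contra hlt
  have hnot : ∀ {x : Ω}, 3 < olen (G := G) τ x → x ∉ Phi G τ := fun hx h => by
    rw [O.olen_mem h] at hx; omega
  have hdis : Disjoint (orbFin G τ δ) (orbFin G τ δ') := by
    rw [Finset.disjoint_left]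
    intro y h1 h2
    have e1 := orbit_eq_iff.2 (Finset.mem_filter.1 h1).2
    have e2 := orbit_eq_iff.2 (Finset.mem_filter.1 h2).2
    exact hne (by rw [← e1, e2]; exact mem_orbit_self δ')
  have h := O.excess_two τ (Finset.union_subset
    (O.orbFin_subset (hnot (by omega : 3 < olen (G := G) τ δ)))
    (O.orbFin_subset (hnot (not_le.1 hlt))))
  rw [Finset.sum_union hdis, O.sum_orbFin, O.sum_orbFin] at h
  have h12 : olen (G := G) τ δ + olen (G := G) τ δ' ≤ 12 := by
    have : ((olen (G := G) τ δ + olen (G := G) τ δ' : ℕ) : ℚ) ≤ ((12 : ℕ) : ℚ) := by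
      push_cast; linarith
    exact_mod_cast this
  obtain ⟨i, hi⟩ := O.olen_odd τ δ
  obtain ⟨j, hj⟩ := O.olen_odd τ δ'
  have hdvd : ∀ x : Ω, olen (G := G) τ x ∣ s := fun x => ⟨_, ((mul_comm _ _).trans (O.card_fixed_mul τ x)).symm⟩
  obtain ⟨q, -, -, -, hall⟩ := O.exists_q
  have e7 := hall 7 (by norm_num) ((show olen (G := G) τ δ = 7 by omega) ▸ hdvd δ)
  have e5 := hall 5 (by norm_num) ((show olen (G := G) τ δ' = 5 by omega) ▸ hdvd δ')
  omega

theorem not_all_short (τ : Fin 3 ↪ Ω) : ∃ δ : Ω, 7 ≤ olen (G := G) τ δ := by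
  by_contra hc
  simp only [not_exists, not_le] at hc
  set S := stabilizer G τ
  have hcomm : ∀ a b : S, Commute (a : G) (b : G) := by
    intro a b
    have hall : ∀ δ : Ω, (a : G) • (b : G) • δ = (b : G) • (a : G) • δ := by
      intro δ
      have hodd : Odd (Nat.card S) := (O.stab τ).symm ▸ O.s_odd
      obtain ⟨k, hk⟩ := O.olen_odd τ δ
      have hlt := hc δ
      rcases (show olen (G := G) τ δ = 1 ∨ olen (G := G) τ δ = 3 ∨ olen (G := G) τ δ = 5 by omega)
        with h | h | h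
      · haveI : Subsingleton (orbit S δ) := (Nat.card_eq_one_iff_unique.1 h).1
        exact congrArg Subtype.val (Subsingleton.elim
          (a • b • (⟨δ, mem_orbit_self δ⟩ : orbit S δ)) (b • a • ⟨δ, mem_orbit_self δ⟩))
      all_goals
        exact congrArg Subtype.val (smul_comm_small (Y := orbit S δ) hodd
          (by rw [← Nat.card_eq_fintype_card]; first | exact Or.inl h | exact Or.inr h) a b ⟨δ, mem_orbit_self δ⟩)
    have h1 : ((b : G) * a)⁻¹ * ((a : G) * b) = 1 := by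
      refine O.toThree.eq_one_of_mv ?_
      rw [mv, Nat.cast_eq_zero, Finset.card_eq_zero, mset, Finset.filter_eq_empty_iff]
      intro δ _
      rw [not_not, mul_smul, inv_smul_eq_iff, mul_smul, mul_smul, hall]
    exact (inv_mul_eq_one.1 h1).symm
  obtain ⟨g, hg, hgo⟩ := O.exists_order Nat.prime_three O.three_dvd_s τ
  have := O.central_eq_one τ hg fun x hx => hcomm ⟨g, hg⟩ ⟨x, hx⟩
  rw [this, orderOf_one] at hgo
  omega

theorem false_odd : False := by
  obtain ⟨τ⟩ := O.exists_triple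
  obtain ⟨δ, hδ⟩ := O.not_all_short τ
  obtain ⟨q, hq, hq5, hqs, -⟩ := O.exists_q
  have hco : Nat.Coprime (q ^ 2) 3 :=
    Nat.Coprime.pow_left 2 ((Nat.coprime_primes hq Nat.prime_three).2 (by omega))
  have hq2 : q ^ 2 ∣ s := by
    have h : q ∣ c * c := O.c_sq ▸ hqs.mul_left 3
    have hqc : q ∣ c := (hq.dvd_mul.1 h).elim id id
    refine hco.dvd_of_dvd_mul_left ?_
    rw [← O.c_sq, pow_two]
    exact Nat.mul_dvd_mul hqc hqc
  haveI := Fact.mk hq
  set S := stabilizer G τ
  obtain ⟨Q, hQ⟩ := Sylow.exists_subgroup_card_pow_prime (G := S) q (n := 2) (by rwa [O.stab τ])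
  let φ : Q →* Equiv.Perm (orbit S δ) := (toPermHom S (orbit S δ)).comp Q.subtype
  have hinj : Function.Injective φ := by
    rw [← MonoidHom.ker_eq_bot_iff, Subgroup.eq_bot_iff_forall]
    intro x hx
    have hxG : ((x : S) : G) = 1 := by
      refine O.toThree.eq_one_of_mv ?_
      rw [mv, Nat.cast_eq_zero, Finset.card_eq_zero, mset, Finset.filter_eq_empty_iff]
      intro y _
      rw [not_not]
      by_cases hy : y ∈ orbit S δ
      · exact congrArg Subtype.val (DFunLike.congr_fun (MonoidHom.mem_ker.1 hx) ⟨y, hy⟩)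
      · obtain ⟨d, hd1, hd3, hd⟩ := exists_small_period (x : S).2 (O.one_long τ hδ hy)
        refine fix_of_coprime_pow (n := d) (m := q ^ 2) ?_ hd ?_
        · refine Nat.Coprime.pow_right 2 ((hq.coprime_iff_not_dvd.2 fun h => ?_).symm)
          have := Nat.le_of_dvd (by omega) h
          omega
        · have h1 : x ^ q ^ 2 = 1 := hQ ▸ pow_card_eq_one'
          have h2 : ((x : S) : G) ^ q ^ 2 = 1 := by
            rw [← Subgroup.coe_pow, ← Subgroup.coe_pow, h1]; rfl
          rw [h2, one_smul]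
    exact Subtype.ext (Subtype.ext hxG)
  have h1 := Subgroup.card_dvd_of_injective φ hinj
  rw [hQ, Nat.card_perm] at h1
  have h9 : q ^ 2 ∣ Nat.factorial 9 := h1.trans (Nat.factorial_dvd_factorial (O.olen_le_nine τ δ))
  have hq9 : q ≤ 9 := (Nat.Prime.dvd_factorial hq).1 ((dvd_pow_self q two_ne_zero).trans h9)
  interval_cases q <;> first | (norm_num [Nat.factorial] at h9; done) | norm_num at hq

end OddCase

theorem not_three [IsSimpleGroup G] (hG : ¬ IsMulCommutative G) (T : Three D Ω) : False := by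
  obtain ⟨c, s, O⟩ := exists_oddCase hG T
  exact O.false_odd

end CfsgLib.DegreeThreeP
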