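import Cfsg.Agent.Lib.DegreeThreeP.KOne
import Cfsg.Agent.Lib.DegreeThreeP.KTwo
import Cfsg.Agent.Lib.DegreeThreeP.OddEnd
import Cfsg.Agent.Lib.OrderElim.A6Line
import Mathlib.GroupTheory.GroupAction.Primitive

/-!
# Simple transitive groups of degree `3p` with Sylow normaliser of order `2p`
-/

set_option autoImplicit false
set_option linter.style.haveILetI false
set_option linter.unusedSectionVars false

noncomputable section

namespace CfsgLib.DegreeThreeP

open Cfsg CfsgLib.Characters MulAction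
open scoped Classical

universe u v

variable {p : ℕ} [hp : Fact p.Prime] {G : Type u} [Group G] [Fintype G] [IsSimpleGroup G]
  {Ω : Type v} [Fintype Ω] [MulAction G Ω]

theorem imprimitive_case (hG : ¬ IsMulCommutative G) (D : Dat p G) [IsPretransitive G Ω]
    (hn : Fintype.card Ω = 3 * p) (himp : ¬ IsPreprimitive G Ω) : D.s = -1 ∧ D.k = 1 := by
  have hp5 := D.p5
  haveI : Nontrivial Ω := Fintype.one_lt_card_iff_nontrivial.1 (by omega)
  obtain ⟨α⟩ : Nonempty Ω := inferInstance
  set H := stabilizer G α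
  have hHidx : H.index = 3 * p := by
    rw [index_stabilizer_of_transitive G α, Nat.card_eq_fintype_card, hn]
  have hnco : ¬ IsCoatom H := fun h => himp ((isCoatom_stabilizer_iff_preprimitive G α).1 h)
  have hHtop : H ≠ ⊤ := fun e => by rw [e, Subgroup.index_top] at hHidx; omega
  obtain ⟨K, hK, hK1⟩ : ∃ K : Subgroup G, H < K ∧ K ≠ ⊤ := by
    by_contra hc
    exact hnco ⟨hHtop, fun K hK => by
      by_contra hne
      exact hc ⟨K, hK, hne⟩⟩
  have hprod := Subgroup.relIndex_mul_index hK.le
  rw [hHidx] at hprod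
  have hne1 : K.index ≠ 1 := fun e => hK1 (Subgroup.index_eq_one.1 e)
  have hne3p : K.index ≠ 3 * p := fun e => by
    rw [e] at hprod
    have h1 : H.relIndex K = 1 :=
      Nat.eq_of_mul_eq_mul_right (show 0 < 3 * p by omega) (by rw [hprod, one_mul])
    exact hK.not_ge (Subgroup.relIndex_eq_one.1 h1)
  have hidx : K.index = 3 ∨ K.index = p := by
    have h : K.index ∣ 3 * p := Dvd.intro_left _ hprod
    obtain ⟨d1, d2, h1, h2, he⟩ := exists_dvd_and_dvd_of_dvd_mul h
    rw [he] at hne1 hne3p ⊢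
    rcases (Nat.dvd_prime Nat.prime_three).1 h1 with e1 | e1 <;>
      rcases (Nat.dvd_prime hp.out).1 h2 with e2 | e2 <;> rw [e1, e2] at hne1 hne3p ⊢ <;> simp_all
  rcases hidx with h3 | hp'
  · exfalso
    have h := Small.two_mul_card_le_factorial_index hG hK1
    obtain ⟨N, hN, -⟩ := D.card_eq
    rw [h3, show Nat.factorial 3 = 6 by decide, hN] at h
    have h1 : 2 * 5 * 1 ≤ 2 * p * N := by
      have : 0 < N := Nat.pos_of_ne_zero fun e => by
        rw [e, mul_zero] at hN
        exact Nat.card_pos.ne' hN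
      exact Nat.mul_le_mul (by omega) this
    omega
  · haveI : Fintype (G ⧸ K) := Fintype.ofFinite _
    have hcard : Fintype.card (G ⧸ K) = 1 * p := by
      rw [one_mul, ← Nat.card_eq_fintype_card]
      exact hp'
    obtain ⟨m, b, r, c, d, -, -, -, h1, h2⟩ := exists_decomp (Ω := G ⧸ K) D hcard
    exact degree_one D h1 h2

theorem stabilizer_ne (D : Dat p G) [IsPretransitive G Ω] (hn : Fintype.card Ω = 3 * p)
    (hco : ∀ α : Ω, IsCoatom (stabilizer G α)) (α β : Ω) (hab : α ≠ β) :
    stabilizer G α ≠ stabilizer G β := by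
  intro he
  obtain ⟨g, rfl⟩ := exists_smul_eq G α β
  set H := stabilizer G α
  have hg : g ∈ Subgroup.normalizer (H : Set G) := by
    rw [Subgroup.mem_normalizer_iff]
    intro h
    constructor
    · intro hh
      rw [he]
      show (g * h * g⁻¹) • g • α = g • α
      rw [mul_smul, inv_smul_smul, mul_smul, show h • α = α from hh]
    · intro hh
      rw [he] at hh
      have h2 : (g * h * g⁻¹) • g • α = g • α := hh
      rw [mul_smul, inv_smul_smul, mul_smul] at h2
      exact MulAction.injective g h2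
  have hgH : g ∉ H := fun h => hab h.symm
  have htop : Subgroup.normalizer (H : Set G) = ⊤ := by
    rcases (hco α).le_iff.1 Subgroup.le_normalizer with h | h
    · exact h
    · rw [h] at hg
      exact absurd hg hgH
  haveI : H.Normal := Subgroup.normalizer_eq_top_iff.1 htop
  rcases Small.eq_bot_or_top H with h | h
  · have hc := card_stabilizer_mul (G := G) α
    rw [hn, show stabilizer G α = ⊥ from h, Subgroup.card_bot, one_mul] at hc
    obtain ⟨N, hN, -⟩ := D.card_eq
    obtain ⟨o, ho⟩ := hp.out.odd_of_ne_two (by have := D.p5; omega)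
    have h1 : 2 * (p * N) = 3 * p := by rw [hc, hN]; ring
    omega
  · exact (hco α).1 h

theorem primitive_case (hG : ¬ IsMulCommutative G) (D : Dat p G) [IsPretransitive G Ω]
    (hn : Fintype.card Ω = 3 * p) (hprim : IsPreprimitive G Ω) :
    p = 5 ∧ Nonempty (G ≃* alternatingGroup (Fin 6)) := by
  have hp5 := D.p5
  haveI : Nontrivial Ω := Fintype.one_lt_card_iff_nontrivial.1 (by omega)
  have hco : ∀ α : Ω, IsCoatom (stabilizer G α) := fun α =>
    (isCoatom_stabilizer_iff_preprimitive G α).2 hprim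
  obtain ⟨m, b, r, c, d, heq, hd, hr, h1, h2⟩ := exists_decomp (Ω := Ω) D hn
  rcases degree_three D h1 h2 with ⟨hs, hk⟩ | ⟨hs, hk, hm, hb, hr1⟩ | ⟨hs, hk, hm, hb, hr0⟩ |
    ⟨hs, hp', hk, hm, hb, hr0⟩
  · exfalso
    obtain ⟨F, _, _, j, hF, hpj, ⟨φ⟩⟩ := k_one hG D hs hk
    obtain ⟨α⟩ : Nonempty Ω := inferInstance
    refine not_coatom hF hpj hp5 ((stabilizer G α).map φ.toMonoidHom) ?_ ?_
    · rw [Subgroup.index_map_of_bijective φ.bijective, index_stabilizer_of_transitive G α,
        Nat.card_eq_fintype_card, hn]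
    · exact ((MulEquiv.mapSubgroup φ).isCoatom_iff _).2 (hco α)
  · obtain ⟨ψ, hψ, hψ1, hψv⟩ := exists_second D heq hd hr hr1 hm hb
    obtain ⟨h5, hcard⟩ := k_two hG D hn hs hk hco (stabilizer_ne D hn hco) hψ hψ1 hψv
    exact ⟨h5, OrderElim.A6.nonempty_mulEquiv_alternating_six hcard⟩
  · exfalso
    have hf : ∀ g : G, fx Ω g = 1 + D.a g := by
      intro g
      have h := heq g
      rw [hm, hb, Finset.sum_eq_zero (s := D.out) (fun ψ hψ => by
        rw [out_eq_zero D hd hr hr0 hψ, Nat.cast_zero, zero_mul]), D.val] at h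
      refine Int.cast_injective (α := ℂ) ?_
      push_cast
      linear_combination h
    exact not_three hG ⟨hn, hs, hk, hf⟩
  · exfalso
    refine no_plus (Ω := Ω) hG D hs hp' hk fun g hg => ?_
    have h := heq g
    rw [hm, hb, Finset.sum_eq_zero (s := D.out) (fun ψ hψ => by
        rw [out_eq_zero D hd hr hr0 hψ, Nat.cast_zero, zero_mul]),
      Finset.sum_congr rfl fun ψ hψ => D.Y_reg ψ hψ g (mem_reg.1 hg), Finset.sum_const,
      nsmul_eq_mul] at h
    refine Int.cast_injective (α := ℂ) ?_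
    push_cast at h ⊢
    linear_combination h

omit [IsSimpleGroup G] in
theorem main {G : Type u} [Group G] [Finite G] [IsSimpleGroup G] (hG : ¬ IsMulCommutative G)
    (hp3 : 3 < p) {Ω : Type v} [Fintype Ω] [MulAction G Ω]
    (htr : IsPretransitive G Ω) (hn : Fintype.card Ω = 3 * p) (P : Sylow p G)
    (hN : Nat.card ↥(Subgroup.normalizer ((P : Subgroup G) : Set G)) = 2 * p) :
    (IsPreprimitive G Ω → p = 5 ∧ Nonempty (G ≃* alternatingGroup (Fin 6))) ∧
      (¬ IsPreprimitive G Ω → ∃ (F : Type) (_ : Field F) (_ : Fintype F) (m : ℕ),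
        Fintype.card F = 2 ^ m ∧ p = 2 ^ m + 1 ∧
          Nonempty (G ≃* Matrix.ProjectiveSpecialLinearGroup (Fin 2) F)) := by
  haveI : Fintype G := Fintype.ofFinite G
  haveI : Nonempty Ω := Fintype.card_pos_iff.1 (by omega)
  obtain ⟨α⟩ : Nonempty Ω := inferInstance
  have hdvd : p ∣ Nat.card G := by
    refine (Dvd.intro_left 3 ?_).trans (Subgroup.index_dvd_card (stabilizer G α))
    rw [index_stabilizer_of_transitive G α, Nat.card_eq_fintype_card, hn]
  obtain ⟨D⟩ := exists_dat hG hp3 hdvd P hN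
  refine ⟨fun h => primitive_case hG D hn h, fun h => ?_⟩
  obtain ⟨hs, hk⟩ := imprimitive_case hG D hn h
  exact k_one hG D hs hk

end CfsgLib.DegreeThreeP
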