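import Cfsg.Agent.Lib.DegreeThreeP.Setup
import Cfsg.Agent.Lib.Blocks.ClassCount

/-!
# Moments of the rational character and class products
-/

set_option autoImplicit false
set_option linter.style.haveILetI false
set_option linter.unusedSectionVars false

noncomputable section

namespace CfsgLib.DegreeThreeP

open Cfsg CfsgLib.Characters
open scoped ComplexConjugate Classical

universe u

variable {p : ℕ} [hp : Fact p.Prime] {G : Type u} [Group G] [Fintype G]

/-- The `p`-regular elements. -/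
def reg (p : ℕ) (G : Type u) [Group G] [Fintype G] : Finset G :=
  Finset.univ.filter fun g : G => ¬ p ∣ orderOf g

/-- The `p`-singular elements. -/
def sing (p : ℕ) (G : Type u) [Group G] [Fintype G] : Finset G :=
  Finset.univ.filter fun g : G => p ∣ orderOf g

theorem mem_reg {g : G} : g ∈ reg p G ↔ ¬ p ∣ orderOf g := by simp [reg]

theorem mem_sing {g : G} : g ∈ sing p G ↔ p ∣ orderOf g := by simp [sing]

theorem sum_reg_add {M : Type*} [AddCommMonoid M] (f : G → M) :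
    ∑ g ∈ reg p G, f g + ∑ g ∈ sing p G, f g = ∑ g, f g := by
  rw [add_comm, reg, sing]
  exact Finset.sum_filter_add_sum_filter_not _ _ f

theorem one_not_sing : ¬ p ∣ orderOf (1 : G) := by
  rw [orderOf_one]; exact hp.out.not_dvd_one

namespace Dat

variable (D : Dat p G)

/-- The degree of `χ`. -/
def X : ℤ := (D.k : ℤ) * p + D.s

/-- The degree of the exceptional characters. -/
def Th : ℤ := D.X + D.s

theorem s_sq : D.s * D.s = 1 := by rcases D.s_sign with h | h <;> simp [h]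

theorem five_le_kp : (5 : ℤ) ≤ (D.k : ℤ) * p := by
  have h1 := D.p5
  have h2 := D.k_pos
  have : 1 * 5 ≤ D.k * p := Nat.mul_le_mul h2 h1
  exact_mod_cast this

theorem X_pos : 0 < D.X := by
  have := D.five_le_kp
  unfold X
  rcases D.s_sign with h | h <;> omega

theorem Th_pos : 0 < D.Th := by
  have := D.five_le_kp
  unfold Th X
  rcases D.s_sign with h | h <;> omega

theorem a_one' : D.a 1 = D.X := D.a_one

theorem a_lt' {g : G} (hg : g ≠ 1) : D.a g < D.X := D.a_lt g hg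

theorem a_le (g : G) : D.a g ≤ D.X := by
  by_cases hg : g = 1
  · rw [hg, D.a_one']
  · exact (D.a_lt' hg).le

theorem val_one : (D.χ : G → ℂ) 1 = (D.X : ℂ) := by rw [D.val, D.a_one']

theorem Y_one {ψ : IrrCharacter G} (hψ : ψ ∈ D.Y) : (ψ : G → ℂ) 1 = (D.Th : ℂ) := by
  rw [D.Y_reg ψ hψ 1 one_not_sing, D.a_one']
  rfl

theorem Y_nonempty : D.Y.Nonempty := by
  have h1 := D.Y_card
  have h2 := D.p5
  exact Finset.card_pos.1 (by omega)

theorem conj_a (g : G) : conj (D.a g : ℂ) = (D.a g : ℂ) := map_intCast _ _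

theorem a_inv (g : G) : D.a g⁻¹ = D.a g := by
  have h := irr_apply_inv D.χ g
  rw [D.val, D.val, map_intCast] at h
  exact_mod_cast h

theorem a_conj {g h : G} (hgh : IsConj g h) : D.a g = D.a h := by
  have := classFunction_eq_of_isConj (irr_isClassFunction D.χ) hgh
  rw [D.val, D.val] at this
  exact_mod_cast this

theorem sum_irr (f : IrrCharacter G → ℂ) : ∑ ψ, f ψ = f (principalIrr G) + f D.χ +
    ∑ ψ ∈ D.Y, f ψ + ∑ ψ ∈ Finset.univ \ insert (principalIrr G) (insert D.χ D.Y), f ψ := by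
  rw [← Finset.sum_sdiff (Finset.subset_univ (insert (principalIrr G) (insert D.χ D.Y))),
    Finset.sum_insert, Finset.sum_insert D.χ_notMem]
  · ring
  · rw [Finset.mem_insert, not_or]
    exact ⟨fun e => D.χ_ne e.symm, D.one_notMem⟩

theorem outside_zero {ψ : IrrCharacter G}
    (hψ : ψ ∈ Finset.univ \ insert (principalIrr G) (insert D.χ D.Y)) {g : G}
    (hg : p ∣ orderOf g) : (ψ : G → ℂ) g = 0 := by
  rw [Finset.mem_sdiff, Finset.mem_insert, Finset.mem_insert, not_or, not_or] at hψ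
  exact (D.outside ψ hψ.2.1 hψ.2.2.1 hψ.2.2.2).1 g hg

/-- Inner products with integral values. -/
theorem exists_inner {φ : G → ℂ} (hφ : IsCharacter G φ) (ψ : IrrCharacter G) :
    ∃ m : ℕ, ∑ g, φ g * conj ((ψ : G → ℂ) g) = (m : ℂ) * (Nat.card G : ℂ) := by
  obtain ⟨m, hm⟩ := classInner_char_nat hφ (irr_isCharacter ψ)
  refine ⟨m, ?_⟩
  rw [← hm, classInner, mul_comm (_⁻¹ * _), mul_inv_cancel_left₀]
  exact Nat.cast_ne_zero.2 Nat.card_pos.ne'

theorem sum_a : ∑ g, D.a g = 0 := by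
  have h := classInner_irr_ne D.χ.2 (principalIrr G).2
    (fun e => D.χ_ne (Subtype.ext e))
  rw [classInner, mul_eq_zero] at h
  have h := h.resolve_left (inv_ne_zero (Nat.cast_ne_zero.2 Nat.card_pos.ne'))
  simp only [principalIrr_apply, map_one, mul_one, D.val] at h
  exact_mod_cast h

theorem sum_a_sq : ∑ g, D.a g ^ 2 = (Nat.card G : ℤ) := by
  have h := classInner_irr_self D.χ.2
  rw [classInner, inv_mul_eq_one₀ (Nat.cast_ne_zero.2 Nat.card_pos.ne')] at h
  simp only [D.val, map_intCast, ← pow_two] at h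
  exact_mod_cast h.symm

/-- The multiplicity of `χ` in its square. -/
theorem exists_cube : ∃ A : ℕ, ∑ g, D.a g ^ 3 = (A : ℤ) * Nat.card G := by
  obtain ⟨A, hA⟩ := exists_inner
    (isCharacter_mul (irr_isCharacter D.χ) (irr_isCharacter D.χ)) D.χ
  refine ⟨A, ?_⟩
  simp only [Pi.mul_apply, D.val, map_intCast] at hA
  have : ∑ g, (D.a g * D.a g * D.a g) = (A : ℤ) * Nat.card G := by exact_mod_cast hA
  rw [← this]
  exact Finset.sum_congr rfl fun g _ => by ring

theorem sum_sing (F : ℤ → ℤ) : ∑ g ∈ sing p G, F (D.a g) = ((sing p G).card : ℤ) * F D.s := by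
  rw [Finset.sum_congr rfl fun g hg => by rw [D.a_sing g (mem_sing.1 hg)], Finset.sum_const,
    nsmul_eq_mul]

include D in
theorem two_p_sing : 2 * (p : ℤ) * (sing p G).card = ((p : ℤ) - 1) * Nat.card G := by
  have h : ((2 * p * (sing p G).card : ℕ) : ℤ) = (((p - 1) * Nat.card G : ℕ) : ℤ) := by
    exact_mod_cast D.card_sing
  push_cast [Nat.cast_sub hp.out.one_le] at h
  exact h

/-- The second moment on regular elements. -/
theorem sum_e : (p : ℤ) * ∑ g ∈ reg p G, (D.a g ^ 2 + D.s * D.a g) = (Nat.card G : ℤ) := by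
  have h1 := sum_reg_add (p := p) (fun g => D.a g ^ 2 + D.s * D.a g)
  rw [D.sum_sing (fun t => t ^ 2 + D.s * t), Finset.sum_add_distrib, Finset.sum_add_distrib,
    ← Finset.mul_sum, ← Finset.mul_sum, D.sum_a, D.sum_a_sq] at h1
  rw [Finset.sum_add_distrib, ← Finset.mul_sum]
  linear_combination (p : ℤ) * h1 - D.two_p_sing - 2 * (p : ℤ) * (sing p G).card * D.s_sq

/-- The third moment on regular elements. -/
theorem sum_Xe {A : ℕ} (hA : ∑ g, D.a g ^ 3 = (A : ℤ) * Nat.card G) :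
    ∑ g ∈ reg p G, (D.X - D.a g) * (D.a g ^ 2 + D.s * D.a g) =
      ((D.k : ℤ) - A) * Nat.card G := by
  have h1 := sum_reg_add (p := p) (fun g => (D.X - D.a g) * (D.a g ^ 2 + D.s * D.a g))
  rw [D.sum_sing (fun t => (D.X - t) * (t ^ 2 + D.s * t))] at h1
  have h2 : ∑ g, (D.X - D.a g) * (D.a g ^ 2 + D.s * D.a g) =
      (D.X - D.s) * Nat.card G - (A : ℤ) * Nat.card G := by
    have e : ∀ g : G, (D.X - D.a g) * (D.a g ^ 2 + D.s * D.a g) =
        (D.X - D.s) * D.a g ^ 2 + D.X * D.s * D.a g - D.a g ^ 3 := fun g => by ring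
    simp only [e, Finset.sum_sub_distrib, Finset.sum_add_distrib, ← Finset.mul_sum, D.sum_a,
      D.sum_a_sq, hA]
    ring
  rw [h2] at h1
  have hX : D.X - D.s = (D.k : ℤ) * p := by unfold X; ring
  rw [hX] at h1
  linear_combination h1 - (D.k : ℤ) * D.two_p_sing -
    2 * (D.k : ℤ) * p * (sing p G).card * D.s_sq

theorem e_nonneg (g : G) : 0 ≤ D.a g ^ 2 + D.s * D.a g := by
  rcases D.s_sign with h | h <;> rw [h]
  · rcases le_or_gt 0 (D.a g) with ha | ha <;> nlinarith
  · rcases le_or_gt (D.a g) 0 with ha | ha <;> nlinarith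

theorem e_eq_zero {g : G} (h : D.a g ^ 2 + D.s * D.a g = 0) : D.a g = 0 ∨ D.a g = -D.s := by
  rw [pow_two, ← add_mul, mul_eq_zero] at h
  rcases h with h | h
  · exact Or.inr (by linarith)
  · exact Or.inl h

/-- The sum over nontrivial regular elements. -/
theorem sum_e' : (p : ℤ) * ∑ g ∈ (reg p G).erase 1, (D.a g ^ 2 + D.s * D.a g) =
    (Nat.card G : ℤ) - p * (D.X * D.Th) := by
  have h := D.sum_e
  rw [← Finset.add_sum_erase _ _ (mem_reg.2 (one_not_sing (p := p) (G := G))), D.a_one'] at h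
  unfold Th
  linear_combination h

theorem sum_Xe' {A : ℕ} (hA : ∑ g, D.a g ^ 3 = (A : ℤ) * Nat.card G) :
    ∑ g ∈ (reg p G).erase 1, (D.X - D.a g) * (D.a g ^ 2 + D.s * D.a g) =
      ((D.k : ℤ) - A) * Nat.card G := by
  rw [← D.sum_Xe hA, ← Finset.add_sum_erase (reg p G) _ (mem_reg.2 (one_not_sing (p := p) (G := G))),
    D.a_one', sub_self, zero_mul, zero_add]

theorem A_le {A : ℕ} (hA : ∑ g, D.a g ^ 3 = (A : ℤ) * Nat.card G) : A ≤ D.k := by
  have h := D.sum_Xe hA
  have h0 : 0 ≤ ∑ g ∈ reg p G, (D.X - D.a g) * (D.a g ^ 2 + D.s * D.a g) :=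
    Finset.sum_nonneg fun g _ => mul_nonneg (by linarith [D.a_le g]) (D.e_nonneg g)
  rw [h] at h0
  have hG : (0 : ℤ) < Nat.card G := by exact_mod_cast Nat.card_pos
  have h2 : (0 : ℤ) ≤ (D.k : ℤ) - A := nonneg_of_mul_nonneg_left h0 hG
  omega

theorem not_dvd_X : ¬ (p : ℤ) ∣ D.X := by
  intro h
  unfold X at h
  have h1 := (dvd_add_right (dvd_mul_left _ _)).1 h
  have h5 := D.p5
  rcases D.s_sign with e | e <;> rw [e] at h1 <;>
    have := Int.le_of_dvd one_pos (by simpa using h1) <;> omega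

theorem not_dvd_Th : ¬ (p : ℤ) ∣ D.Th := by
  intro h
  have h' : (p : ℤ) ∣ (D.k : ℤ) * p + (D.s + D.s) := by
    unfold Th X at h
    rwa [← add_assoc]
  have h1 := (dvd_add_right (dvd_mul_left _ _)).1 h'
  have h5 := D.p5
  rcases D.s_sign with e | e <;> rw [e] at h1 <;>
    have := Int.le_of_dvd (by norm_num : (0 : ℤ) < 2) (by simpa using h1) <;> omega

theorem coprime_X_Th : IsCoprime D.X D.Th :=
  ⟨-D.s, D.s, by unfold Th; linear_combination D.s_sq⟩

theorem isCoprime_p {z : ℤ} (h : ¬ (p : ℤ) ∣ z) : IsCoprime (p : ℤ) z :=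
  ((Nat.prime_iff_prime_int.1 hp.out).coprime_iff_not_dvd).2 h

/-- The order of the group is a multiple of `p X Θ`. -/
theorem exists_M : ∃ M : ℕ, 1 ≤ M ∧ (Nat.card G : ℤ) = p * D.X * D.Th * M := by
  have hdeg : ∀ {ψ : IrrCharacter G} {z : ℤ}, (ψ : G → ℂ) 1 = (z : ℂ) →
      z ∣ (Nat.card G : ℤ) := by
    intro ψ z hz
    obtain ⟨h1, h2, -⟩ := ClassCount.degree_eq ψ
    rw [h1] at hz
    have : (charDegree (ψ : G → ℂ) : ℤ) = z := by exact_mod_cast hz
    exact this ▸ Int.natCast_dvd_natCast.2 h2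
  obtain ⟨ψ, hψ⟩ := D.Y_nonempty
  have hp' : (p : ℤ) ∣ (Nat.card G : ℤ) := by
    obtain ⟨n, hn, -⟩ := D.card_eq
    exact ⟨2 * n, by rw [hn]; push_cast; ring⟩
  have h := ((isCoprime_p D.not_dvd_X).mul_right (isCoprime_p D.not_dvd_Th)).mul_dvd hp'
    (D.coprime_X_Th.mul_dvd (hdeg D.val_one) (hdeg (D.Y_one hψ)))
  obtain ⟨z, hz⟩ := h
  have hpos : 0 < (p : ℤ) * (D.X * D.Th) :=
    mul_pos (by exact_mod_cast hp.out.pos) (mul_pos D.X_pos D.Th_pos)
  have hG : (0 : ℤ) < Nat.card G := by exact_mod_cast Nat.card_pos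
  have hz0 : 0 < z := by
    rw [hz] at hG
    exact pos_of_mul_pos_right hG hpos.le
  refine ⟨z.toNat, by omega, ?_⟩
  rw [Int.toNat_of_nonneg hz0.le, hz]
  ring

/-- The character side of the count of pairs with a regular product value. -/
theorem sum_cof (F : IrrCharacter G → ℂ)
    (h0 : ∀ ψ ∈ Finset.univ \ insert (principalIrr G) (insert D.χ D.Y), F ψ = 0) :
    ((D.X : ℂ) * D.Th) * ∑ ψ : IrrCharacter G, (ClassCount.cofDegree ψ : ℂ) * F ψ =
      (Nat.card G : ℂ) * ((D.X : ℂ) * D.Th * F (principalIrr G) + (D.Th : ℂ) * F D.χ +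
        (D.X : ℂ) * ∑ ψ ∈ D.Y, F ψ) := by
  have hcof : ∀ ψ : IrrCharacter G, (ClassCount.cofDegree ψ : ℂ) * (ψ : G → ℂ) 1 = Nat.card G :=
    fun ψ => by
      rw [(ClassCount.degree_eq ψ).1, ← Nat.cast_mul, mul_comm, ClassCount.degree_mul_cofDegree]
  have h1 := hcof (principalIrr G)
  rw [principalIrr_apply, mul_one] at h1
  have h2 := hcof D.χ
  rw [D.val_one] at h2
  rw [D.sum_irr, Finset.sum_eq_zero (s := Finset.univ \ insert (principalIrr G) (insert D.χ D.Y)) (fun ψ hψ => by rw [h0 ψ hψ, mul_zero]), add_zero, h1]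
  have h3 : (D.Th : ℂ) * ∑ ψ ∈ D.Y, (ClassCount.cofDegree ψ : ℂ) * F ψ =
      (Nat.card G : ℂ) * ∑ ψ ∈ D.Y, F ψ := by
    rw [Finset.mul_sum, Finset.mul_sum]
    refine Finset.sum_congr rfl fun ψ hψ => ?_
    have h4 := hcof ψ
    rw [D.Y_one hψ] at h4
    linear_combination F ψ * h4
  linear_combination (D.Th : ℂ) * F D.χ * h2 + (D.X : ℂ) * h3

theorem x_sing : p ∣ orderOf D.x := by rw [D.x_order]

theorem x_inv_sing : p ∣ orderOf D.x⁻¹ := by rw [orderOf_inv, D.x_order]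

/-- The number of pairs from two regular classes with product `x`. -/
theorem pairs_eq {g h : G} (hg : ¬ p ∣ orderOf g) (hh : ¬ p ∣ orderOf h) :
    ((ClassCount.pairs g h {D.x}).card : ℤ) * Nat.card (Subgroup.centralizer ({g} : Set G)) *
        Nat.card (Subgroup.centralizer ({h} : Set G)) * (D.X * D.Th) =
      (Nat.card G : ℤ) * ((D.X - D.a g) * (D.X - D.a h)) := by
  have h1 := ClassCount.card_pairs_mul_centralizers g h {D.x}
  simp only [Finset.sum_singleton] at h1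
  have h2 := D.sum_cof
    (fun ψ => (ψ : G → ℂ) g * (ψ : G → ℂ) h * (ψ : G → ℂ) D.x⁻¹)
    (fun ψ hψ => by rw [D.outside_zero hψ D.x_inv_sing, mul_zero])
  rw [← h1, principalIrr_apply, principalIrr_apply, principalIrr_apply, D.val, D.val, D.val,
    D.a_sing _ D.x_inv_sing, Finset.sum_congr rfl fun ψ hψ => by
      rw [D.Y_reg ψ hψ g hg, D.Y_reg ψ hψ h hh], ← Finset.mul_sum,
    D.Y_sing _ D.x_inv_sing] at h2
  have hT : (D.Th : ℂ) = (D.X : ℂ) + (D.s : ℂ) := by simp [Th]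
  have hs : (D.s : ℂ) * (D.s : ℂ) = 1 := by exact_mod_cast D.s_sq
  refine Int.cast_injective (α := ℂ) ?_
  push_cast at h2 ⊢
  rw [hT] at h2 ⊢
  linear_combination h2 + (Nat.card G : ℂ) * ((D.a g : ℂ) * D.a h - (D.X : ℂ) * D.a g -
    (D.X : ℂ) * D.a h - (D.X : ℂ) * D.s) * hs

/-- The class sum formula for the product of the classes of `x` and `x⁻¹`. -/
theorem pairs_x_nonneg {g : G} (hg : ¬ p ∣ orderOf g) :
    0 ≤ D.X * D.Th + D.Th * D.a g + D.X * ((D.a g + D.s) * ((p : ℤ) - 2)) := by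
  have h1 := ClassCount.card_pairs_mul_centralizers D.x D.x⁻¹ {g⁻¹}
  simp only [Finset.sum_singleton, inv_inv] at h1
  have h2 := D.sum_cof
    (fun ψ => (ψ : G → ℂ) D.x * (ψ : G → ℂ) D.x⁻¹ * (ψ : G → ℂ) g)
    (fun ψ hψ => by rw [D.outside_zero hψ D.x_sing, zero_mul, zero_mul])
  have horth : ∑ ψ ∈ D.Y, (ψ : G → ℂ) D.x * (ψ : G → ℂ) D.x⁻¹ = (p : ℂ) - 2 := by
    have h3 := column_orth D.x D.x
    rw [if_pos (IsConj.refl _), D.x_cent, D.sum_irr, Finset.sum_eq_zero (s := Finset.univ \ insert (principalIrr G) (insert D.χ D.Y)) (fun ψ hψ => by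
      rw [D.outside_zero hψ D.x_sing, zero_mul]), add_zero, principalIrr_apply, map_one, mul_one,
      D.val, D.a_sing _ D.x_sing, map_intCast] at h3
    simp only [irr_apply_inv]
    have hs : (D.s : ℂ) * (D.s : ℂ) = 1 := by exact_mod_cast D.s_sq
    linear_combination h3 - hs
  rw [← h1, principalIrr_apply, principalIrr_apply, principalIrr_apply, D.val, D.val, D.val,
    D.a_sing _ D.x_sing, D.a_sing _ D.x_inv_sing, Finset.sum_congr rfl fun ψ hψ => by
      rw [D.Y_reg ψ hψ g hg], ← Finset.sum_mul, horth] at h2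
  set c₁ := Nat.card (Subgroup.centralizer ({D.x} : Set G))
  set c₂ := Nat.card (Subgroup.centralizer ({D.x⁻¹} : Set G))
  set n := (ClassCount.pairs D.x D.x⁻¹ {g⁻¹}).card
  have hs : D.s * D.s = 1 := D.s_sq
  have h4 : D.X * D.Th * ((n * c₁ * c₂ : ℕ) : ℤ) = (Nat.card G : ℤ) *
      (D.X * D.Th + D.Th * D.a g + D.X * ((D.a g + D.s) * ((p : ℤ) - 2))) := by
    refine Int.cast_injective (α := ℂ) ?_
    push_cast at h2 ⊢
    have hs' : (D.s : ℂ) * (D.s : ℂ) = 1 := by exact_mod_cast D.s_sq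
    linear_combination h2 + (Nat.card G : ℂ) * (D.Th : ℂ) * (D.a g : ℂ) * hs'
  have hG : (0 : ℤ) < Nat.card G := by exact_mod_cast Nat.card_pos
  refine nonneg_of_mul_nonneg_right ?_ hG
  rw [← h4]
  exact mul_nonneg (mul_nonneg D.X_pos.le D.Th_pos.le) (Int.natCast_nonneg _)

/-- Pairs with product `x` fall into orbits of length `p`. -/
theorem dvd_pairs {g : G} (h : G) (hg1 : g ≠ 1) (hg : ¬ p ∣ orderOf g) :
    p ∣ (ClassCount.pairs g h {D.x}).card := by
  set S := ClassCount.pairs g h {D.x}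
  have hxp : D.x ^ p = 1 := orderOf_dvd_iff_pow_eq_one.1 D.x_order.dvd
  let e : G × G → G × G := fun z => (D.x * z.1 * D.x⁻¹, D.x * z.2 * D.x⁻¹)
  have hmem : ∀ z : G × G, z ∈ S → e z ∈ S := by
    intro z hz
    simp only [S, ClassCount.pairs, Finset.mem_filter, Finset.mem_product, ClassCount.mem_cls,
      Finset.mem_singleton, e] at hz ⊢
    obtain ⟨⟨h1, h2⟩, h3⟩ := hz
    refine ⟨⟨h1.trans (isConj_iff.2 ⟨D.x, rfl⟩), h2.trans (isConj_iff.2 ⟨D.x, rfl⟩)⟩, ?_⟩
    rw [conj_mul, h3, mul_inv_cancel_right]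
  let f : Function.End S := fun z => ⟨e z.1, hmem z.1 z.2⟩
  have hpow : ∀ (n : ℕ) (z : S), ((f ^ n) z : G × G) =
      (D.x ^ n * z.1.1 * (D.x ^ n)⁻¹, D.x ^ n * z.1.2 * (D.x ^ n)⁻¹) := by
    intro n
    induction n with
    | zero => intro z; simp [Function.End.one_def]
    | succ n ih =>
      intro z
      rw [pow_succ', Function.End.mul_def]
      show e _ = _
      rw [ih z]
      simp only [e, pow_succ', mul_inv_rev, mul_assoc]
  have hf : f ^ p ^ 1 = 1 := by
    rw [pow_one]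
    funext z
    refine Subtype.ext ?_
    rw [hpow, hxp, Function.End.one_def]
    simp
  have h1 := Equiv.Perm.card_fixedPoints_modEq hf
  have h2 : Fintype.card (Function.fixedPoints f) = 0 := by
    rw [Fintype.card_eq_zero_iff]
    refine ⟨fun z => ?_⟩
    have hz : (f z.1 : G × G) = z.1.1 := congrArg Subtype.val z.2
    have hc : D.x * z.1.1.1 * D.x⁻¹ = z.1.1.1 := congrArg Prod.fst hz
    have hcl : IsConj g z.1.1.1 := by
      have := z.1.2
      simp only [S, ClassCount.pairs, Finset.mem_filter, Finset.mem_product,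
        ClassCount.mem_cls] at this
      exact this.1.1
    set u := z.1.1.1
    have hu : u ∈ Subgroup.centralizer ({D.x} : Set G) := by
      rw [Subgroup.mem_centralizer_singleton_iff]
      exact (mul_inv_eq_iff_eq_mul.1 hc).symm
    have hord : orderOf u ∣ p := D.x_cent ▸ Subgroup.orderOf_dvd_natCard _ hu
    obtain ⟨c, hc'⟩ := isConj_iff.1 hcl
    have hogu : orderOf u = orderOf g := by
      rw [← hc']
      exact orderOf_injective (MulAut.conj c).toMonoidHom (MulAut.conj c).injective g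
    rw [hogu] at hord
    rcases hp.out.eq_one_or_self_of_dvd _ hord with e1 | e1
    · exact hg1 (orderOf_eq_one_iff.1 e1)
    · exact hg (by rw [e1])
  rw [h2, Fintype.card_coe] at h1
  exact Nat.modEq_zero_iff_dvd.1 h1

/-- The pair count, with the multiple of `p`. -/
theorem exists_pairs {g h : G} (hg1 : g ≠ 1) (hg : ¬ p ∣ orderOf g) (hh1 : h ≠ 1)
    (hh : ¬ p ∣ orderOf h) :
    ∃ r : ℕ, 0 < r ∧ (ClassCount.pairs g h {D.x}).card = p * r ∧
      (p : ℤ) * r * Nat.card (Subgroup.centralizer ({g} : Set G)) *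
          Nat.card (Subgroup.centralizer ({h} : Set G)) * (D.X * D.Th) =
        (Nat.card G : ℤ) * ((D.X - D.a g) * (D.X - D.a h)) := by
  obtain ⟨r, hr⟩ := D.dvd_pairs h hg1 hg
  have h1 := D.pairs_eq hg hh
  rw [hr, Nat.cast_mul] at h1
  refine ⟨r, Nat.pos_of_ne_zero fun e => ?_, hr, h1⟩
  rw [e, Nat.cast_zero, mul_zero, zero_mul, zero_mul, zero_mul] at h1
  have hG : (0 : ℤ) < Nat.card G := by exact_mod_cast Nat.card_pos
  have := mul_pos hG (mul_pos (sub_pos.2 (D.a_lt' hg1)) (sub_pos.2 (D.a_lt' hh1)))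
  omega

end Dat

end CfsgLib.DegreeThreeP
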