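import Cfsg.Agent.Lib.DegreeThreeP.OddSetup

/-!
# The prime divisors of a three-point stabiliser
-/

set_option autoImplicit false
set_option linter.style.haveILetI false
set_option linter.unusedSectionVars false

noncomputable section

namespace CfsgLib.DegreeThreeP

open Cfsg CfsgLib.Characters MulAction
open scoped Classical

universe u v

variable {p : ℕ} [hp : Fact p.Prime] {G : Type u} [Group G] [Fintype G]
  {Ω : Type v} [Fintype Ω] [MulAction G Ω] {D : Dat p G} {c s : ℕ}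

namespace OddCase

variable (O : OddCase D Ω c s)
include O

theorem p_ne_zero : (p : ℤ) ≠ 0 := Nat.cast_ne_zero.2 hp.out.ne_zero

theorem seven_le : 7 ≤ p := by
  have := O.p_mod
  have := D.p5
  omega

theorem s_odd : Odd s := by
  have h := O.c_odd.mul O.c_odd
  rw [O.c_sq] at h
  exact (Nat.odd_mul.1 h).2

theorem three_dvd_c : 3 ∣ c :=
  (Nat.prime_three.dvd_mul.1 ⟨s, O.c_sq⟩).elim id id

theorem three_dvd_s : 3 ∣ s := by
  obtain ⟨d, hd⟩ := O.three_dvd_c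
  have h := O.c_sq
  rw [hd] at h
  exact ⟨d * d, by linarith⟩

theorem card_G' : (Nat.card G : ℤ) = 3 * (p : ℤ) * D.X * D.Th * s := by
  have h : ((c * c : ℕ) : ℤ) = ((3 * s : ℕ) : ℤ) := by rw [O.c_sq]
  push_cast at h
  rw [O.card_G]
  linear_combination (p : ℤ) * D.X * D.Th * h

theorem sum_emv : ∑ g ∈ (reg p G).erase 1, (D.a g ^ 2 + D.s * D.a g) * mv Ω g =
    2 * (Nat.card G : ℤ) := by
  rw [O.toThree.sum_mv_one O.cube]
  norm_num

theorem sum_e_eq : ∑ g ∈ (reg p G).erase 1, (D.a g ^ 2 + D.s * D.a g) =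
    D.X * D.Th * ((c : ℤ) ^ 2 - 1) := by
  refine mul_left_cancel₀ O.p_ne_zero ?_
  rw [D.sum_e', O.card_G]
  ring

theorem cls_subset {g : G} (hg : g ∈ (reg p G).erase 1) :
    ∀ x ∈ ClassCount.cls g, x ∈ (reg p G).erase 1 ∧ D.a x = D.a g ∧ mv Ω x = mv Ω g := by
  intro x hx
  rw [ClassCount.mem_cls] at hx
  rw [Finset.mem_erase, mem_reg] at hg ⊢
  have ha := (D.a_conj hx).symm
  refine ⟨⟨?_, ?_⟩, ha, by rw [mv_eq, mv_eq, O.toThree.fx_conj hx]⟩
  · rintro rfl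
    exact hg.1 (isConj_one_left.1 hx)
  · obtain ⟨d, rfl⟩ := isConj_iff.1 hx
    rw [show d * g * d⁻¹ = MulAut.conj d g from rfl,
      show orderOf (MulAut.conj d g) = orderOf g from
        orderOf_injective (MulAut.conj d).toMonoidHom (MulAut.conj d).injective g]
    exact hg.2

theorem e_le {g : G} (hg : g ∈ (reg p G).erase 1) :
    D.a g ^ 2 + D.s * D.a g ≤ 2 * (c : ℤ) := by
  obtain ⟨r, hr, -, hK⟩ := O.cls g hg
  have h1 : ((ClassCount.cls g).card : ℤ) * ((D.a g ^ 2 + D.s * D.a g) * mv Ω g) ≤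
      2 * (Nat.card G : ℤ) := by
    rw [← O.sum_emv, ← nsmul_eq_mul, ← Finset.sum_const,
      Finset.sum_congr rfl fun x hx => show (D.a g ^ 2 + D.s * D.a g) * mv Ω g =
        (D.a x ^ 2 + D.s * D.a x) * mv Ω x by
          rw [(O.cls_subset hg x hx).2.1, (O.cls_subset hg x hx).2.2]]
    exact Finset.sum_le_sum_of_subset_of_nonneg (fun x hx => (O.cls_subset hg x hx).1)
      fun x _ _ => mul_nonneg (D.e_nonneg x) (Int.natCast_nonneg _)
  rw [mul_left_comm, hK, O.card_G] at h1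
  have hX := D.X_pos
  have hT := D.Th_pos
  have hpos : 0 < (p : ℤ) * D.X * D.Th * c := by
    have : (0 : ℤ) < p := by exact_mod_cast hp.out.pos
    have : (0 : ℤ) < c := by exact_mod_cast (lt_of_lt_of_le (by norm_num) O.c_ge)
    positivity
  have h2 : ((D.a g ^ 2 + D.s * D.a g) * r) * ((p : ℤ) * D.X * D.Th * c) ≤
      (2 * (c : ℤ)) * ((p : ℤ) * D.X * D.Th * c) := by linarith
  have h3 := le_of_mul_le_mul_right h2 hpos
  refine le_trans (le_mul_of_one_le_right (D.e_nonneg g) (by exact_mod_cast hr)) h3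

theorem f_le {g : G} (hg : g ∈ (reg p G).erase 1) :
    (fx Ω g - 1) * (fx Ω g - 2) ≤ 2 * (c : ℤ) := by
  rw [← O.toThree.e_eq]
  exact O.e_le hg

theorem c_cast : (3 : ℤ) ≤ c := by exact_mod_cast O.c_ge

theorem exists_few_moved : ∃ g ∈ (reg p G).erase 1, D.a g ^ 2 + D.s * D.a g ≠ 0 ∧
    mv Ω g * ((c : ℤ) ^ 2 - 1) ≤ 2 * (p : ℤ) * (c : ℤ) ^ 2 := by
  by_contra hc
  have h9 : (9 : ℤ) ≤ (c : ℤ) ^ 2 := by
    calc (9 : ℤ) = 3 ^ 2 := by norm_num
      _ ≤ (c : ℤ) ^ 2 := pow_le_pow_left₀ (by norm_num) O.c_cast 2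
  have hne : ∃ g ∈ (reg p G).erase 1, D.a g ^ 2 + D.s * D.a g ≠ 0 := by
    by_contra hn
    have h0 := O.sum_e_eq
    rw [Finset.sum_eq_zero fun g hg => by
      by_contra h; exact hn ⟨g, hg, h⟩] at h0
    have : 0 < D.X * D.Th * ((c : ℤ) ^ 2 - 1) :=
      mul_pos (mul_pos D.X_pos D.Th_pos) (by linarith)
    linarith
  obtain ⟨g₀, hg₀, he₀⟩ := hne
  have hlt : ∑ g ∈ (reg p G).erase 1, (D.a g ^ 2 + D.s * D.a g) * (2 * (p : ℤ) * (c : ℤ) ^ 2) <
      ∑ g ∈ (reg p G).erase 1, (D.a g ^ 2 + D.s * D.a g) * (mv Ω g * ((c : ℤ) ^ 2 - 1)) := by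
    refine Finset.sum_lt_sum (fun g hg => ?_) ⟨g₀, hg₀, mul_lt_mul_of_pos_left
      (lt_of_not_ge fun h => hc ⟨g₀, hg₀, he₀, h⟩) (lt_of_le_of_ne (D.e_nonneg g₀) he₀.symm)⟩
    by_cases he : D.a g ^ 2 + D.s * D.a g = 0
    · rw [he, zero_mul, zero_mul]
    · exact mul_le_mul_of_nonneg_left (le_of_lt (lt_of_not_ge fun h => hc ⟨g, hg, he, h⟩))
        (D.e_nonneg g)
  simp only [← mul_assoc, ← Finset.sum_mul, O.sum_emv, O.sum_e_eq, O.card_G] at hlt
  linarith

theorem exists_moved_ge {i : ℕ} (hi : c = 3 ^ i) :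
    ∃ g ∈ (reg p G).erase 1, D.a g ^ 2 + D.s * D.a g ≠ 0 ∧ (c : ℤ) ≤ mv Ω g := by
  by_contra hc
  have h3 : Prime (3 : ℤ) := Int.prime_three
  have hdvd : (3 : ℤ) ∣ ∑ g ∈ (reg p G).erase 1, (D.a g ^ 2 + D.s * D.a g) := by
    rw [← Finset.sum_fiberwise_of_maps_to (t := ((reg p G).erase 1).image ConjClasses.mk)
      (g := ConjClasses.mk) (fun x hx => Finset.mem_image_of_mem _ hx)]
    refine Finset.dvd_sum fun q hq => ?_
    obtain ⟨g, hg, rfl⟩ := Finset.mem_image.1 hq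
    have hfib : ((reg p G).erase 1).filter (fun x => ConjClasses.mk x = ConjClasses.mk g) =
        ClassCount.cls g := by
      ext x
      rw [Finset.mem_filter, ClassCount.mem_cls, ConjClasses.mk_eq_mk_iff_isConj]
      exact ⟨fun h => h.2.symm,
        fun h => ⟨(O.cls_subset hg x (ClassCount.mem_cls.2 h)).1, h.symm⟩⟩
    rw [hfib, Finset.sum_congr rfl fun x hx => show D.a x ^ 2 + D.s * D.a x =
      D.a g ^ 2 + D.s * D.a g by rw [(O.cls_subset hg x hx).2.1], Finset.sum_const, nsmul_eq_mul]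
    by_cases he : D.a g ^ 2 + D.s * D.a g = 0
    · rw [he, mul_zero]; exact dvd_zero _
    refine dvd_mul_of_dvd_left ?_ _
    obtain ⟨r, -, -, hK⟩ := O.cls g hg
    by_contra hn
    have h1 : (c : ℤ) ∣ ((ClassCount.cls g).card : ℤ) * mv Ω g :=
      hK ▸ Dvd.intro ((p : ℤ) * D.X * D.Th * r) (by ring)
    have hco : IsCoprime ((c : ℤ)) ((ClassCount.cls g).card : ℤ) := by
      rw [hi]; push_cast
      exact ((h3.coprime_iff_not_dvd).2 hn).pow_left
    exact hc ⟨g, hg, he, Int.le_of_dvd (O.toThree.mv_pos (Finset.ne_of_mem_erase hg))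
      (hco.dvd_of_dvd_mul_left h1)⟩
  rw [O.sum_e_eq, O.toThree.X_eq, O.toThree.Th_eq] at hdvd
  obtain ⟨d, hd⟩ := O.three_dvd_c
  rw [hd] at hdvd
  push_cast at hdvd
  obtain ⟨j, hj⟩ := hdvd
  have : (3 : ℤ) ∣ 2 := by
    refine ⟨-j + 3 * (d : ℤ) ^ 2 * (3 * p - 1) * (3 * p - 2) - 3 * (p : ℤ) ^ 2 + 3 * p, ?_⟩
    linear_combination -hj
  omega

theorem not_three_power (i : ℕ) : c ≠ 3 ^ i := by
  intro hi
  obtain ⟨g₁, hg₁, he₁, hm₁⟩ := O.exists_few_moved
  obtain ⟨g₂, hg₂, -, hm₂⟩ := O.exists_moved_ge hi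
  have hcmv : (c : ℤ) ≤ 3 * (p : ℤ) := by
    have h := fx_nonneg (Ω := Ω) g₂
    rw [mv_eq, O.card] at hm₂
    push_cast at hm₂
    linarith
  have hw := O.f_le hg₁
  rw [mv_eq, O.card] at hm₁
  push_cast at hm₁
  have hp7 := O.seven_le
  have hp7Z : (7 : ℤ) ≤ p := by exact_mod_cast hp7
  set f := fx Ω g₁
  rcases i with _ | _ | i
  · have := O.c_ge; rw [hi] at this; norm_num at this
  · rw [hi] at hm₁ hw
    push_cast at hm₁ hw
    have hf : 6 ≤ f := by omega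
    have : 5 * 4 ≤ (f - 1) * (f - 2) :=
      mul_le_mul (by linarith) (by linarith) (by norm_num) (by linarith)
    linarith
  · have hc9 : 9 ≤ c := by
      rw [hi, pow_succ, pow_succ]
      have := Nat.one_le_pow i 3 (by norm_num)
      omega
    have hc9Z : (9 : ℤ) ≤ c := by exact_mod_cast hc9
    have hc81 : (81 : ℤ) ≤ (c : ℤ) ^ 2 := by
      calc (81 : ℤ) = 9 ^ 2 := by norm_num
        _ ≤ (c : ℤ) ^ 2 := pow_le_pow_left₀ (by norm_num) hc9Z 2
    have h80 : 80 * (3 * (p : ℤ) - f) ≤ 162 * p := by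
      by_contra hlt
      have h0 : 0 ≤ 3 * (p : ℤ) - f := by linarith [not_le.1 hlt]
      have h1 : (3 * (p : ℤ) - f) * (80 * (c : ℤ) ^ 2) ≤
          (3 * (p : ℤ) - f) * (81 * ((c : ℤ) ^ 2 - 1)) :=
        mul_le_mul_of_nonneg_left (by linarith) h0
      have h2 : (162 * (p : ℤ)) * (c : ℤ) ^ 2 < (80 * (3 * (p : ℤ) - f)) * (c : ℤ) ^ 2 :=
        mul_lt_mul_of_pos_right (not_le.1 hlt) (by linarith)
      linarith
    have h78 : 78 * (p : ℤ) ≤ 80 * f := by linarith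
    rcases (show p = 7 ∨ 11 ≤ p by have := O.p_mod; omega) with e | e
    · have e' : (p : ℤ) = 7 := by exact_mod_cast e
      simp only [e'] at h78 hcmv
      have hc21 : c ≤ 21 := by omega
      have hc9' : c = 9 := by
        rcases i with _ | i
        · rw [hi]; norm_num
        · exfalso
          have h27 : 27 ≤ c := by
            rw [hi, pow_succ, pow_succ, pow_succ]
            have := Nat.one_le_pow i 3 (by norm_num)
            omega
          omega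
      have hcZ : (c : ℤ) = 9 := by exact_mod_cast hc9'
      rw [hcZ] at hw
      have hf : 7 ≤ f := by omega
      have : 6 * 5 ≤ (f - 1) * (f - 2) :=
        mul_le_mul (by linarith) (by linarith) (by norm_num) (by linarith)
      linarith
    · have e' : (11 : ℤ) ≤ p := by exact_mod_cast e
      have h1 : (78 * (p : ℤ) - 80) * (78 * p - 160) ≤ (80 * f - 80) * (80 * f - 160) :=
        mul_le_mul (by linarith) (by linarith) (by linarith) (by linarith)
      nlinarith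

theorem not_p_dvd_s : ¬ p ∣ s := by
  intro h
  obtain ⟨n, hn, hpn⟩ := D.card_eq
  have h1 : (p : ℤ) * (p : ℤ) ∣ (p : ℤ) * (2 * n) := by
    have : (p : ℤ) * (2 * n) = 3 * (p : ℤ) * D.X * D.Th * s := by
      rw [← O.card_G', hn]; push_cast; ring
    rw [this]
    obtain ⟨j, rfl⟩ := h
    exact ⟨3 * D.X * D.Th * j, by push_cast; ring⟩
  have h2 : p ∣ 2 * n := by exact_mod_cast (mul_dvd_mul_iff_left O.p_ne_zero).1 h1
  rcases hp.out.dvd_mul.1 h2 with h3 | h3
  · have := Nat.le_of_dvd (by norm_num) h3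
    have := D.p5
    omega
  · exact hpn h3

theorem three_le_fx_of_mem {τ : Fin 3 ↪ Ω} {g : G} (hg : g ∈ stabilizer G τ) : 3 ≤ fx Ω g := by
  rw [fx_eq_card]
  have hsub : Finset.univ.map τ ⊆ Finset.univ.filter (fun δ : Ω => g • δ = δ) := by
    intro δ hδ
    obtain ⟨i, -, rfl⟩ := Finset.mem_map.1 hδ
    exact Finset.mem_filter.2 ⟨Finset.mem_univ _, DFunLike.congr_fun hg i⟩
  have h := Finset.card_le_card hsub
  rw [Finset.card_map, Finset.card_univ, Fintype.card_fin] at h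
  exact_mod_cast h

theorem exists_triple : Nonempty (Fin 3 ↪ Ω) := Function.Embedding.nonempty_of_card_le (by
  rw [Fintype.card_fin, O.card]; have := D.p5; omega)

theorem exists_order {r : ℕ} (hr : r.Prime) (hrs : r ∣ s) (τ : Fin 3 ↪ Ω) :
    ∃ h ∈ stabilizer G τ, orderOf h = r := by
  haveI := Fact.mk hr
  obtain ⟨h, hh⟩ := exists_prime_orderOf_dvd_card' (G := stabilizer G τ) r (by rwa [O.stab τ])
  exact ⟨h, h.2, by rw [Subgroup.orderOf_coe, hh]⟩

/-- For two primes dividing the stabiliser order both weighted counts equal the group order. -/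
theorem D_eq_one {r r' : ℕ} (hr : r.Prime) (hr' : r'.Prime) (hne : r ≠ r') (hrs : r ∣ s)
    (hrs' : r' ∣ s) :
    ∑ g ∈ (reg p G).erase 1, (D.a g ^ 2 + D.s * D.a g) * mv Ω (g ^ r) = (Nat.card G : ℤ) := by
  haveI : NeZero r := ⟨hr.ne_zero⟩
  obtain ⟨τ⟩ := O.exists_triple
  have hpr : ¬ p ∣ r := fun h => O.not_p_dvd_s (h.trans hrs)
  obtain ⟨d, hd⟩ := O.toThree.exists_D r hpr
  obtain ⟨h, hh, hho⟩ := O.exists_order hr hrs τ
  obtain ⟨h', hh', hho'⟩ := O.exists_order hr' hrs' τ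
  have h1 : h ≠ 1 := fun e => hr.one_lt.ne' (by rw [← hho, e, orderOf_one])
  have h1' : h' ≠ 1 := fun e => hr'.one_lt.ne' (by rw [← hho', e, orderOf_one])
  have hlt := O.toThree.D_lt O.cube hd (O.toThree.mem_O (O.three_le_fx_of_mem hh) h1)
    (O.toThree.e_ne (O.three_le_fx_of_mem hh)) (by rw [← hho, pow_orderOf_eq_one])
  have hd0 : d ≠ 0 := fun e => by
    have h2 := O.toThree.D_zero (by rw [hd, e, Nat.cast_zero, zero_mul])
      (O.toThree.mem_O (O.three_le_fx_of_mem hh') h1')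
      (O.toThree.e_ne (O.three_le_fx_of_mem hh'))
    have h3 := orderOf_dvd_of_pow_eq_one h2
    rw [hho'] at h3
    exact hne ((Nat.prime_dvd_prime_iff_eq hr' hr).1 h3).symm
  rw [hd, show d = 1 by omega, Nat.cast_one, one_mul]

theorem disjoint_pow {r r' : ℕ} (hr : r.Prime) (hr' : r'.Prime) (hne : r ≠ r') (hrs : r ∣ s)
    (hrs' : r' ∣ s) {τ : Fin 3 ↪ Ω} {g : G} (hg : g ∈ stabilizer G τ) :
    Disjoint (mset Ω (g ^ r)) (mset Ω (g ^ r')) := by
  by_cases hg1 : g = 1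
  · subst hg1
    simp [mset]
  exact O.toThree.mv_split ((Nat.coprime_primes hr hr').2 hne) O.cube
    (O.D_eq_one hr hr' hne hrs hrs') (O.D_eq_one hr' hr hne.symm hrs' hrs)
    (O.toThree.mem_O (O.three_le_fx_of_mem hg) hg1) (O.toThree.e_ne (O.three_le_fx_of_mem hg))

theorem mset_pow_eq {g : G} {n r : ℕ} (hg : orderOf g = r) (hn : Nat.Coprime n r) :
    mset Ω (g ^ n) = mset Ω g := by
  refine Finset.Subset.antisymm (mset_pow_subset g n) ((mset_subset_union g hn).trans ?_)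
  rw [← hg, pow_orderOf_eq_one]
  exact Finset.union_subset subset_rfl (fun δ hδ =>
    absurd (one_smul G δ) (Finset.mem_filter.1 hδ).2)

/-- The prime divisors of `s`. -/
theorem exists_q : ∃ q : ℕ, q.Prime ∧ 5 ≤ q ∧ q ∣ s ∧ ∀ r : ℕ, r.Prime → r ∣ s → r = 3 ∨ r = q := by
  obtain ⟨q, hq, hqs, hq3⟩ : ∃ q, q.Prime ∧ q ∣ s ∧ q ≠ 3 := by
    by_contra hc
    refine O.not_three_power c.primeFactorsList.length (Nat.eq_prime_pow_of_unique_prime_dvd (n := c)
      (by have := O.c_ge; omega) fun {d} hd hdc => ?_)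
    by_contra hd3
    refine hc ⟨d, hd, ?_, hd3⟩
    have h : d ∣ 3 * s := O.c_sq ▸ hdc.mul_right c
    exact (hd.dvd_mul.1 h).resolve_left fun h3 =>
      hd3 ((Nat.prime_dvd_prime_iff_eq hd Nat.prime_three).1 h3)
  have hq2 : q ≠ 2 := fun e => (Nat.not_even_iff_odd.2 O.s_odd) (even_iff_two_dvd.2 (e ▸ hqs))
  have hq4 : q ≠ 4 := fun e => by rw [e] at hq; norm_num at hq
  refine ⟨q, hq, by have := hq.two_le; omega, hqs, fun r hr hrs => ?_⟩
  by_contra hc
  rw [not_or] at hc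
  obtain ⟨τ⟩ := O.exists_triple
  obtain ⟨g, hg, hgo⟩ := O.exists_order hr hrs τ
  have h1 := O.disjoint_pow Nat.prime_three hq (Ne.symm hq3) O.three_dvd_s hqs hg
  rw [O.mset_pow_eq hgo ((Nat.coprime_primes Nat.prime_three hr).2 (Ne.symm hc.1)),
    O.mset_pow_eq hgo ((Nat.coprime_primes hq hr).2 (Ne.symm hc.2))] at h1
  have h3 : mset Ω g = ∅ := Finset.disjoint_self_iff_empty _ |>.1 h1
  have h4 := O.toThree.eq_one_of_mv (show mv Ω g = 0 by rw [mv, h3, Finset.card_empty, Nat.cast_zero])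
  rw [h4, orderOf_one] at hgo
  exact hr.one_lt.ne hgo

/-- A three-point stabiliser has trivial centre. -/
theorem central_eq_one (τ : Fin 3 ↪ Ω) {z : G} (hz : z ∈ stabilizer G τ)
    (hcomm : ∀ x ∈ stabilizer G τ, Commute z x) : z = 1 := by
  by_contra hz1
  obtain ⟨q, hq, hq5, hqs, hall⟩ := O.exists_q
  obtain ⟨r, hr, hrz⟩ := Nat.exists_prime_and_dvd (n := orderOf z)
    (fun e => hz1 (orderOf_eq_one_iff.1 e))
  set z₀ := z ^ (orderOf z / r)
  have hz₀m : z₀ ∈ stabilizer G τ := pow_mem hz _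
  have hz₀o : orderOf z₀ = r := orderOf_pow_orderOf_div (orderOf_pos z).ne' hrz
  have hrs : r ∣ s := hz₀o ▸ O.stab τ ▸ Subgroup.orderOf_dvd_natCard _ hz₀m
  obtain ⟨r', hr', hrs', hne⟩ : ∃ r', r'.Prime ∧ r' ∣ s ∧ r ≠ r' := by
    rcases hall r hr hrs with e | e
    · exact ⟨q, hq, hqs, by omega⟩
    · exact ⟨3, Nat.prime_three, O.three_dvd_s, by omega⟩
  obtain ⟨h, hh, hho⟩ := O.exists_order hr' hrs' τ
  have hc : Commute z₀ h := (hcomm h hh).pow_left _
  have hd := O.disjoint_pow hr hr' hne hrs hrs' (mul_mem hz₀m hh)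
  rw [hc.mul_pow, hc.mul_pow] at hd
  have e1 : z₀ ^ r = 1 := by rw [← hz₀o, pow_orderOf_eq_one]
  have e2 : h ^ r' = 1 := by rw [← hho, pow_orderOf_eq_one]
  rw [e1, e2, one_mul, mul_one,
    O.mset_pow_eq hho ((Nat.coprime_primes hr hr').2 hne),
    O.mset_pow_eq hz₀o ((Nat.coprime_primes hr' hr).2 hne.symm)] at hd
  have hsub : mset Ω z₀ ∪ Finset.univ.map τ ⊆ Finset.univ.filter (fun δ : Ω => h • δ = δ) := by
    intro δ hδ
    refine Finset.mem_filter.2 ⟨Finset.mem_univ _, ?_⟩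
    rcases Finset.mem_union.1 hδ with hδ | hδ
    · by_contra hne'
      exact Finset.disjoint_right.1 hd hδ (Finset.mem_filter.2 ⟨Finset.mem_univ _, hne'⟩)
    · obtain ⟨i, -, rfl⟩ := Finset.mem_map.1 hδ
      exact DFunLike.congr_fun hh i
  have hcard := Finset.card_le_card hsub
  rw [Finset.card_union_of_disjoint, Finset.card_map, Finset.card_univ, Fintype.card_fin] at hcard
  · have hmv : mv Ω z₀ + 3 ≤ fx Ω h := by rw [mv, fx_eq_card]; exact_mod_cast hcard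
    have hz₀1 : z₀ ≠ 1 := fun e => hr.one_lt.ne' (by rw [← hz₀o, e, orderOf_one])
    have hh1 : h ≠ 1 := fun e => hr'.one_lt.ne' (by rw [← hho, e, orderOf_one])
    obtain ⟨ρ, -, hρ, -⟩ := O.cls z₀ (O.toThree.mem_O (O.three_le_fx_of_mem hz₀m) hz₀1)
    obtain ⟨e, he⟩ : s ∣ Nat.card (Subgroup.centralizer ({z₀} : Set G)) := by
      rw [← O.stab τ]
      refine Subgroup.card_dvd_of_le fun x hx => ?_
      rw [Subgroup.mem_centralizer_singleton_iff]
      exact ((hcomm x hx).pow_left _).symm.eq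
    rw [he] at hρ
    push_cast at hρ
    have hcc : ((c * c : ℕ) : ℤ) = ((3 * s : ℕ) : ℤ) := by rw [O.c_sq]
    push_cast at hcc
    have hc0 : (c : ℤ) ≠ 0 := ne_of_gt (lt_of_lt_of_le (by norm_num) O.c_cast)
    have h1 : (c : ℤ) * ((e : ℤ) * ρ) = 3 * mv Ω z₀ :=
      mul_left_cancel₀ hc0 (by linear_combination (e : ℤ) * ρ * hcc + 3 * hρ)
    have hle : (c : ℤ) ≤ 3 * mv Ω z₀ :=
      Int.le_of_dvd (mul_pos (by norm_num) (O.toThree.mv_pos hz₀1)) (Dvd.intro _ h1)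
    have hw := O.f_le (O.toThree.mem_O (O.three_le_fx_of_mem hh) hh1)
    have hwz := O.f_le (O.toThree.mem_O (O.three_le_fx_of_mem hz₀m) hz₀1)
    set f := fx Ω h
    have hf5 : f ≤ 5 := by
      by_contra hlt
      have : 0 ≤ (f - 6) * (f - 3) := mul_nonneg (by omega) (by omega)
      nlinarith
    have hz19 : 19 ≤ fx Ω z₀ := by
      have h2 : mv Ω z₀ ≤ 2 := by linarith
      rw [mv_eq, O.card] at h2
      push_cast at h2
      have := O.seven_le
      omega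
    have : 18 * 17 ≤ (fx Ω z₀ - 1) * (fx Ω z₀ - 2) :=
      mul_le_mul (by linarith) (by linarith) (by norm_num) (by linarith)
    linarith
  · rw [Finset.disjoint_left]
    intro δ hδ hδ'
    obtain ⟨i, -, rfl⟩ := Finset.mem_map.1 hδ'
    exact (Finset.mem_filter.1 hδ).2 (DFunLike.congr_fun hz₀m i)

end OddCase

end CfsgLib.DegreeThreeP
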