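import Cfsg.Agent.Lib.DegreeThreeP.OddFix

/-!
# The design of fixed point sets
-/

set_option autoImplicit false
set_option linter.style.haveILetI false
set_option linter.unusedSectionVars false

noncomputable section

namespace CfsgLib.DegreeThreeP

open Cfsg CfsgLib.Characters MulAction
open scoped Classical

universe u v

variable {p : ℕ} [hp : Fact p.Prime] {G : Type u} [Group G] [Fintype G]
  {Ω : Type v} [Fintype Ω] [MulAction G Ω] {D : Dat p G} {c s : ℕ}

theorem dvd_card_of_fibres {U : Type*} {V : Type*} (S : Finset U) (f : U → V) (k : ℕ)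
    (h : ∀ x ∈ S, (S.filter fun y => f y = f x).card = k) : k ∣ S.card := by
  rw [Finset.card_eq_sum_card_fiberwise (f := f) (t := S.image f)
    (fun x hx => Finset.mem_image_of_mem f hx)]
  refine Finset.dvd_sum fun v hv => ?_
  obtain ⟨x, hx, rfl⟩ := Finset.mem_image.1 hv
  rw [h x hx]

theorem card_eq_image_mul {U : Type*} {V : Type*} (S : Finset U) (f : U → V) (k : ℕ)
    (h : ∀ x ∈ S, (S.filter fun y => f y = f x).card = k) :
    S.card = (S.image f).card * k := by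
  rw [Finset.card_eq_sum_card_fiberwise (f := f) (t := S.image f)
    (fun x hx => Finset.mem_image_of_mem f hx), Finset.sum_congr rfl (g := fun _ => k),
    Finset.sum_const, smul_eq_mul]
  intro v hv
  obtain ⟨x, hx, rfl⟩ := Finset.mem_image.1 hv
  exact h x hx

/-- The fixed set of a triple given by three points. -/
def Psi (G : Type u) [Group G] {Ω : Type v} [Fintype Ω] [MulAction G Ω] (a b x : Ω) : Finset Ω :=
  if h : a ≠ b ∧ a ≠ x ∧ b ≠ x then Phi G (triple h.1 h.2.1 h.2.2) else ∅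

theorem Psi_def {a b x : Ω} (hab : a ≠ b) (hax : a ≠ x) (hbx : b ≠ x) :
    Psi G a b x = Phi G (triple hab hax hbx) := dif_pos ⟨hab, hax, hbx⟩

namespace OddCase

variable (O : OddCase D Ω c s)
include O

theorem three_le_F (τ : Fin 3 ↪ Ω) : 3 ≤ (Phi G τ).card := by
  have h : Finset.univ.map τ ⊆ Phi G τ := fun δ hδ => by
    obtain ⟨i, -, rfl⟩ := Finset.mem_map.1 hδ
    exact self_mem_Phi τ i
  simpa using Finset.card_le_card h

theorem Psi_eq {τ : Fin 3 ↪ Ω} {a b x : Ω} (ha : a ∈ Phi G τ) (hb : b ∈ Phi G τ)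
    (hx : x ∈ Phi G τ) (hab : a ≠ b) (hax : a ≠ x) (hbx : b ≠ x) : Psi G a b x = Phi G τ := by
  rw [Psi_def hab hax hbx, O.Phi_triple ha hb hx hab hax hbx]

theorem mem_Psi {a b x : Ω} (hab : a ≠ b) (hax : a ≠ x) (hbx : b ≠ x) :
    a ∈ Psi G a b x ∧ b ∈ Psi G a b x ∧ x ∈ Psi G a b x := by
  rw [Psi_def hab hax hbx]
  exact ⟨self_mem_Phi (triple hab hax hbx) 0, self_mem_Phi (triple hab hax hbx) 1,
    self_mem_Phi (triple hab hax hbx) 2⟩

theorem exists_pair : ∃ a b : Ω, a ≠ b := by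
  obtain ⟨τ⟩ := O.exists_triple
  exact ⟨τ 0, τ 1, fun e => absurd (τ.injective e) (by decide)⟩

/-- Fibres of the fixed set map on a third point. -/
theorem fibre_one (τ₀ : Fin 3 ↪ Ω) {a b : Ω} (hab : a ≠ b) :
    ∀ x ∈ (Finset.univ : Finset Ω) \ {a, b},
      (((Finset.univ : Finset Ω) \ {a, b}).filter fun y => Psi G a b y = Psi G a b x).card =
        (Phi G τ₀).card - 2 := by
  intro x hx
  simp only [Finset.mem_sdiff, Finset.mem_univ, true_and, Finset.mem_insert, Finset.mem_singleton,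
    not_or] at hx
  obtain ⟨h1, h2, h3⟩ := O.mem_Psi hab (Ne.symm hx.1) (Ne.symm hx.2)
  rw [Psi_def hab (Ne.symm hx.1) (Ne.symm hx.2)] at h1 h2 h3 ⊢
  set τ := triple hab (Ne.symm hx.1) (Ne.symm hx.2)
  have heq : (((Finset.univ : Finset Ω) \ {a, b}).filter fun y => Psi G a b y = Phi G τ) =
      Phi G τ \ {a, b} := by
    ext y
    simp only [Finset.mem_filter, Finset.mem_sdiff, Finset.mem_univ, true_and, Finset.mem_insert,
      Finset.mem_singleton, not_or]
    constructor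
    · rintro ⟨⟨hya, hyb⟩, hy⟩
      exact ⟨hy ▸ (O.mem_Psi hab (Ne.symm hya) (Ne.symm hyb)).2.2, hya, hyb⟩
    · rintro ⟨hy, hya, hyb⟩
      exact ⟨⟨hya, hyb⟩, O.Psi_eq h1 h2 hy hab (Ne.symm hya) (Ne.symm hyb)⟩
  rw [heq, Finset.card_sdiff_of_subset (Finset.insert_subset h1 (Finset.singleton_subset_iff.2 h2)),
    Finset.card_pair hab, O.card_Phi_eq τ₀ τ]

theorem dvd_Th (τ₀ : Fin 3 ↪ Ω) : (Phi G τ₀).card - 2 ∣ 3 * p - 2 := by
  obtain ⟨a, b, hab⟩ := O.exists_pair
  have h := dvd_card_of_fibres ((Finset.univ : Finset Ω) \ {a, b}) (fun y => Psi G a b y)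
    ((Phi G τ₀).card - 2) (fun x hx => by convert O.fibre_one τ₀ hab x hx)
  rwa [Finset.card_sdiff_of_subset (Finset.subset_univ _), Finset.card_univ, O.card,
    Finset.card_pair hab] at h

theorem dvd_XTh (τ₀ : Fin 3 ↪ Ω) :
    ((Phi G τ₀).card - 1) * ((Phi G τ₀).card - 2) ∣ (3 * p - 1) * (3 * p - 2) := by
  obtain ⟨a, -, -⟩ := O.exists_pair
  have hoff : ∀ S : Finset Ω, S.offDiag.card = S.card * (S.card - 1) := fun S => by
    rw [Finset.offDiag_card, Nat.mul_sub, mul_one]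
  set S := ((Finset.univ : Finset Ω).erase a).offDiag
  have h := dvd_card_of_fibres S (fun y => Psi G a y.1 y.2)
    (((Phi G τ₀).card - 1) * ((Phi G τ₀).card - 2)) ?_
  · rw [hoff, Finset.card_erase_of_mem (Finset.mem_univ a), Finset.card_univ, O.card] at h
    rwa [show 3 * p - 1 - 1 = 3 * p - 2 by omega] at h
  · rintro ⟨b, x⟩ hy
    simp only [S, Finset.mem_offDiag, Finset.mem_erase, Finset.mem_univ, and_true] at hy
    obtain ⟨hba, hxa, hbx⟩ := hy
    obtain ⟨h1, -, -⟩ := O.mem_Psi (Ne.symm hba) (Ne.symm hxa) hbx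
    rw [Psi_def (Ne.symm hba) (Ne.symm hxa) hbx] at h1
    simp only
    rw [Psi_def (Ne.symm hba) (Ne.symm hxa) hbx]
    set τ := triple (Ne.symm hba) (Ne.symm hxa) hbx
    have heq : (S.filter fun y => Psi G a y.1 y.2 = Phi G τ) = ((Phi G τ).erase a).offDiag := by
      ext ⟨y, z⟩
      simp only [S, Finset.mem_filter, Finset.mem_offDiag, Finset.mem_erase, Finset.mem_univ,
        and_true]
      constructor
      · rintro ⟨⟨hy, hz, hyz⟩, he⟩
        obtain ⟨-, e1, e2⟩ := O.mem_Psi (Ne.symm hy) (Ne.symm hz) hyz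
        rw [he] at e1 e2
        exact ⟨⟨hy, e1⟩, ⟨hz, e2⟩, hyz⟩
      · rintro ⟨⟨hy, e1⟩, ⟨hz, e2⟩, hyz⟩
        exact ⟨⟨hy, hz, hyz⟩, O.Psi_eq h1 e1 e2 (Ne.symm hy) (Ne.symm hz) hyz⟩
    rw [heq, hoff, Finset.card_erase_of_mem h1, O.card_Phi_eq τ₀ τ, Nat.sub_sub]

theorem dvd_triples (τ₀ : Fin 3 ↪ Ω) :
    (Phi G τ₀).card * ((Phi G τ₀).card - 1) * ((Phi G τ₀).card - 2) ∣
      3 * p * (3 * p - 1) * (3 * p - 2) := by
  have hdf : ∀ n : ℕ, n.descFactorial 3 = n * (n - 1) * (n - 2) := fun n => by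
    simp [Nat.descFactorial]; ring
  have h := dvd_card_of_fibres (Finset.univ : Finset (Fin 3 ↪ Ω)) (Phi G)
    ((Phi G τ₀).card * ((Phi G τ₀).card - 1) * ((Phi G τ₀).card - 2)) ?_
  · rw [Finset.card_univ, Fintype.card_embedding_eq, Fintype.card_fin, O.card, hdf] at h
    exact h
  · intro τ _
    rw [← hdf, ← Fintype.card_subtype,
      show Fintype.card {y : Fin 3 ↪ Ω // Phi G y = Phi G τ} =
        Fintype.card (Fin 3 ↪ {δ // δ ∈ Phi G τ}) from Fintype.card_congr
          { toFun := fun y => ⟨fun i => ⟨y.1 i, (Finset.ext_iff.1 y.2 _).1 (self_mem_Phi y.1 i)⟩,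
              fun i j h => y.1.injective (congrArg Subtype.val h)⟩
            invFun := fun f => ⟨f.trans (Function.Embedding.subtype _), O.Phi_eq fun i => (f i).2⟩
            left_inv := fun y => rfl
            right_inv := fun f => rfl },
      Fintype.card_embedding_eq, Fintype.card_fin, Fintype.card_coe, O.card_Phi_eq τ₀ τ]

theorem line_bound (τ₀ : Fin 3 ↪ Ω) :
    ((Phi G τ₀).card - 1) * ((Phi G τ₀).card - 2) ≤ 3 * p - 2 := by
  obtain ⟨δ, hδ⟩ : ∃ δ, δ ∉ Phi G τ₀ := by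
    by_contra hc
    simp only [not_exists, not_not] at hc
    obtain ⟨g, hg, hgo⟩ := O.exists_order Nat.prime_three O.three_dvd_s τ₀
    have h1 : g = 1 := O.toThree.eq_one_of_mv (by
      rw [mv, Nat.cast_eq_zero, Finset.card_eq_zero, mset, Finset.filter_eq_empty_iff]
      exact fun x _ => not_not.2 (mem_Phi.1 (hc x) g hg))
    rw [h1, orderOf_one] at hgo
    omega
  set a := τ₀ 0
  have ha : a ∈ Phi G τ₀ := self_mem_Phi τ₀ 0
  have had : a ≠ δ := fun e => hδ (e ▸ ha)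
  have hU := card_eq_image_mul ((Finset.univ : Finset Ω) \ {a, δ}) (fun y => Psi G a δ y)
    ((Phi G τ₀).card - 2) (fun x hx => by convert O.fibre_one τ₀ had x hx)
  rw [Finset.card_sdiff_of_subset (Finset.subset_univ _), Finset.card_univ, O.card,
    Finset.card_pair had] at hU
  rw [hU]
  refine Nat.mul_le_mul_right _ ?_
  rw [← Finset.card_erase_of_mem ha]
  refine Finset.card_le_card_of_injOn (fun b => Psi G a δ b) ?_ ?_
  · intro b hb
    simp only [Finset.mem_coe, Finset.mem_erase] at hb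
    simp only [Finset.mem_coe, Finset.mem_image]
    have hbd : b ≠ δ := fun e => hδ (e ▸ hb.2)
    exact ⟨b, by simp [hb.1, hbd], rfl⟩
  · intro b hb b' hb' he
    simp only [Finset.mem_coe, Finset.mem_erase] at hb hb'
    simp only at he
    by_contra hne
    have hdb : δ ≠ b := fun e => hδ (e ▸ hb.2)
    have hdb' : δ ≠ b' := fun e => hδ (e ▸ hb'.2)
    obtain ⟨e1, e2, e3⟩ := O.mem_Psi had (Ne.symm hb.1) hdb
    obtain ⟨-, -, e4⟩ := O.mem_Psi had (Ne.symm hb'.1) hdb'
    rw [← he] at e4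
    rw [Psi_def had (Ne.symm hb.1) hdb] at e1 e2 e3 e4
    have h1 := O.Psi_eq e1 e3 e4 (Ne.symm hb.1) (Ne.symm hb'.1) hne
    have h2 := O.Psi_eq ha hb.2 hb'.2 (Ne.symm hb.1) (Ne.symm hb'.1) hne
    exact hδ ((h1.symm.trans h2) ▸ e2)

theorem F_eq_three (τ : Fin 3 ↪ Ω) : (Phi G τ).card = 3 := by
  set F := (Phi G τ).card with hF
  have hk : 2 * p ≤ 15 * F := by exact_mod_cast O.key_bound τ
  have hF3 := O.three_le_F τ
  obtain ⟨o, ho⟩ := O.card_Phi_odd τ
  have hline := O.line_bound τ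
  have hd1 := O.dvd_Th τ
  have hd2 := O.dvd_XTh τ
  have hd3 := O.dvd_triples τ
  rw [← hF] at hline hd1 hd2 hd3 ho hF3
  have hp7 := O.seven_le
  have hmod := O.p_mod
  by_contra hne
  have h3XT : ¬ 3 ∣ (3 * p - 1) * (3 * p - 2) := by
    intro h
    rcases Nat.prime_three.dvd_mul.1 h with h | h <;> omega
  have h31 : ¬ 3 ∣ F - 1 := fun h => h3XT ((h.mul_right _).trans hd2)
  have h32 : ¬ 3 ∣ F - 2 := fun h => h3XT ((h.mul_left _).trans hd2)
  have hF0 : F % 3 = 0 := by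
    rcases (show F % 3 = 0 ∨ F % 3 = 1 ∨ F % 3 = 2 by omega) with h | h | h
    · exact h
    · exact absurd (Nat.dvd_of_mod_eq_zero (show (F - 1) % 3 = 0 by omega)) h31
    · exact absurd (Nat.dvd_of_mod_eq_zero (show (F - 2) % 3 = 0 by omega)) h32
  have hF9 : F % 9 ≠ 0 := by
    intro h9
    have h : 3 * 3 ∣ 3 * (p * ((3 * p - 1) * (3 * p - 2))) := by
      refine dvd_trans ?_ (hd3.trans (by rw [mul_assoc, mul_assoc]))
      exact ((Nat.dvd_of_mod_eq_zero h9).mul_right _).mul_right _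
    have h' := Nat.dvd_of_mul_dvd_mul_left (by norm_num) h
    rcases Nat.prime_three.dvd_mul.1 h' with h3 | h3
    · have := (Nat.prime_dvd_prime_iff_eq Nat.prime_three hp.out).1 h3
      omega
    · exact h3XT h3
  have hcases : F = 15 ∨ F = 21 ∨ 33 ≤ F := by omega
  rcases hcases with e | e | e
  · rw [e] at hline hd1 hd2 hk
    norm_num at hline hd1 hd2
    obtain ⟨j, hj⟩ := hd1
    rcases (show p = 70 ∨ p = 83 ∨ p = 96 ∨ p = 109 by omega) with rfl | rfl | rfl | rfl
    · omega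
    · norm_num at hd2
    · omega
    · omega
  · rw [e] at hline hd1 hd2 hk
    norm_num at hline hd1 hd2
    obtain ⟨j, hj⟩ := hd1
    rcases (show p = 140 by omega) with rfl
    omega
  · have h1 : 32 * (F - 2) ≤ (F - 1) * (F - 2) := Nat.mul_le_mul_right _ (by omega)
    omega

end OddCase

end CfsgLib.DegreeThreeP
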