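import Cfsg.Agent.Lib.DegreeThreeP.OddArith
import Mathlib.Algebra.Order.Chebyshev

/-!
# The fixed points of a three-point stabiliser
-/

set_option autoImplicit false
set_option linter.style.haveILetI false
set_option linter.unusedSectionVars false

noncomputable section

namespace CfsgLib.DegreeThreeP

open Cfsg CfsgLib.Characters MulAction
open scoped Classical

universe u v

variable {p : ℕ} [hp : Fact p.Prime] {G : Type u} [Group G] [Fintype G]
  {Ω : Type v} [Fintype Ω] [MulAction G Ω] {D : Dat p G} {c s : ℕ}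

/-- The points fixed by the stabiliser of a triple. -/
def Phi (G : Type u) [Group G] {Ω : Type v} [Fintype Ω] [MulAction G Ω] (τ : Fin 3 ↪ Ω) :
    Finset Ω :=
  Finset.univ.filter fun δ : Ω => ∀ g ∈ stabilizer G τ, g • δ = δ

theorem mem_Phi {τ : Fin 3 ↪ Ω} {δ : Ω} : δ ∈ Phi G τ ↔ ∀ g ∈ stabilizer G τ, g • δ = δ := by
  simp [Phi]

theorem self_mem_Phi (τ : Fin 3 ↪ Ω) (i : Fin 3) : τ i ∈ Phi G τ :=
  mem_Phi.2 fun _ hg => DFunLike.congr_fun hg i

/-- Three distinct points. -/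
def triple {a b c : Ω} (hab : a ≠ b) (hac : a ≠ c) (hbc : b ≠ c) : Fin 3 ↪ Ω :=
  ⟨![a, b, c], fun i j h => by fin_cases i <;> fin_cases j <;> simp_all [eq_comm]⟩

/-- The orbit length of a point under the stabiliser of a triple. -/
def olen (τ : Fin 3 ↪ Ω) (δ : Ω) : ℕ := Nat.card (orbit (stabilizer G τ) δ)

theorem fix_of_coprime_pow {g : G} {δ : Ω} {n m : ℕ} (h : Nat.Coprime n m)
    (hn : g ^ n • δ = δ) (hm : g ^ m • δ = δ) : g • δ = δ := by
  have hb := Nat.gcd_eq_gcd_ab n m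
  rw [h.gcd_eq_one, Nat.cast_one] at hb
  have : g ∈ stabilizer G δ := by
    rw [← zpow_one g, hb, zpow_add, zpow_mul, zpow_mul, zpow_natCast, zpow_natCast]
    exact mul_mem (zpow_mem (show g ^ n ∈ stabilizer G δ from hn) _)
      (zpow_mem (show g ^ m ∈ stabilizer G δ from hm) _)
  exact this

theorem exists_small_period {τ : Fin 3 ↪ Ω} {g : G} (hg : g ∈ stabilizer G τ) {δ : Ω}
    (hδ : olen (G := G) τ δ ≤ 3) : ∃ d, 1 ≤ d ∧ d ≤ 3 ∧ g ^ d • δ = δ := by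
  let F : Fin 4 → orbit (stabilizer G τ) δ := fun i =>
    ⟨g ^ (i : ℕ) • δ, ⟨⟨g ^ (i : ℕ), pow_mem hg _⟩, rfl⟩⟩
  obtain ⟨i, j, hij, he⟩ := Fintype.exists_ne_map_eq_of_card_lt F (by
    rw [Fintype.card_fin, ← Nat.card_eq_fintype_card]
    exact lt_of_le_of_lt hδ (by norm_num))
  have he' : g ^ (i : ℕ) • δ = g ^ (j : ℕ) • δ := congrArg Subtype.val he
  have key : ∀ a b : ℕ, a < b → g ^ a • δ = g ^ b • δ → g ^ (b - a) • δ = δ := by
    intro a b hab h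
    refine MulAction.injective (g ^ a) ?_
    show g ^ a • g ^ (b - a) • δ = g ^ a • δ
    rw [← mul_smul, ← pow_add, Nat.add_sub_cancel' hab.le, h]
  rcases lt_or_gt_of_ne (fun e => hij (Fin.ext e) : (i : ℕ) ≠ j) with h | h
  · exact ⟨_, by omega, by omega, key _ _ h he'⟩
  · exact ⟨_, by omega, by omega, key _ _ h he'.symm⟩

namespace OddCase

variable (O : OddCase D Ω c s)
include O

theorem stab_eq {τ τ' : Fin 3 ↪ Ω} (h : ∀ i, τ' i ∈ Phi G τ) :
    stabilizer G τ' = stabilizer G τ := by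
  refine (Subgroup.eq_of_le_of_card_ge (fun g hg => ?_) ?_).symm
  · exact Function.Embedding.ext fun i => mem_Phi.1 (h i) g hg
  · rw [O.stab, O.stab]

theorem Phi_eq {τ τ' : Fin 3 ↪ Ω} (h : ∀ i, τ' i ∈ Phi G τ) : Phi G τ' = Phi G τ := by
  unfold Phi
  rw [O.stab_eq h]

theorem Phi_triple {τ : Fin 3 ↪ Ω} {a b c : Ω} (ha : a ∈ Phi G τ) (hb : b ∈ Phi G τ)
    (hc : c ∈ Phi G τ) (hab : a ≠ b) (hac : a ≠ c) (hbc : b ≠ c) :
    Phi G (triple hab hac hbc) = Phi G τ :=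
  O.Phi_eq fun i => by fin_cases i <;> assumption

theorem card_Phi_eq (τ τ' : Fin 3 ↪ Ω) : (Phi G τ').card = (Phi G τ).card := by
  haveI := O.trans
  obtain ⟨k, rfl⟩ := exists_smul_eq G τ τ'
  refine Finset.card_nbij' (fun δ => k⁻¹ • δ) (fun δ => k • δ) ?_ ?_ ?_ ?_
  · intro δ hδ
    simp only [Finset.mem_coe, mem_Phi] at hδ ⊢
    intro g hg
    have h := hδ (k * g * k⁻¹) (by
      show (k * g * k⁻¹) • k • τ = k • τ
      rw [mul_smul, inv_smul_smul, mul_smul, show g • τ = τ from hg])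
    rw [mul_smul, mul_smul] at h
    exact (eq_inv_smul_iff.2 h)
  · intro δ hδ
    simp only [Finset.mem_coe, mem_Phi] at hδ ⊢
    intro g hg
    have h := hδ (k⁻¹ * g * k) (by
      show (k⁻¹ * g * k) • τ = τ
      rw [mul_smul, mul_smul, show g • k • τ = k • τ from hg, inv_smul_smul])
    rw [mul_smul, mul_smul] at h
    exact inv_smul_eq_iff.1 h
  · intro δ _; exact smul_inv_smul k δ
  · intro δ _; exact inv_smul_smul k δ

theorem card_Phi_odd (τ : Fin 3 ↪ Ω) : Odd (Phi G τ).card := by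
  haveI := O.trans
  let τ' : Fin 3 ↪ Ω := (Equiv.swap (1 : Fin 3) 2).toEmbedding.trans τ
  obtain ⟨g, hg⟩ := exists_smul_eq G τ τ'
  have hgi : ∀ i, g • τ i = τ (Equiv.swap (1 : Fin 3) 2 i) := fun i => DFunLike.congr_fun hg i
  have hg2 : g ^ 2 ∈ stabilizer G τ := Function.Embedding.ext fun i => by
    show g ^ 2 • τ i = τ i
    rw [pow_two, mul_smul, hgi, hgi, Equiv.swap_apply_self]
  set n := orderOf (g ^ 2)
  have hn : Odd n := by
    obtain ⟨k, hk⟩ := Subgroup.orderOf_dvd_natCard _ hg2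
    have := O.s_odd
    rw [← O.stab τ, hk] at this
    exact (Nat.odd_mul.1 this).1
  set t := g ^ n with ht
  have ht2 : t ^ 2 = 1 := by rw [ht, ← pow_mul, mul_comm, pow_mul, pow_orderOf_eq_one]
  have hti : ∀ i, t • τ i = τ (Equiv.swap (1 : Fin 3) 2 i) := by
    intro i
    obtain ⟨k, hk⟩ := hn
    have hk2 : g ^ (2 * k) ∈ stabilizer G τ := by rw [pow_mul]; exact pow_mem hg2 _
    rw [ht, hk, pow_succ, mul_smul, hgi]
    exact DFunLike.congr_fun hk2 _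
  have ht1 : t ≠ 1 := fun e => by
    have h := hti 1
    rw [e, one_smul, Equiv.swap_apply_left] at h
    exact absurd (τ.injective h) (by decide)
  have hto : orderOf t = 2 := orderOf_eq_prime ht2 ht1
  have ht0 : t • τ 0 = τ 0 := by
    rw [hti, Equiv.swap_apply_of_ne_of_ne (by decide) (by decide)]
  have huniq : ∀ δ : Ω, t • δ = δ → δ = τ 0 := by
    intro δ hδ
    have h := O.invol t hto
    rw [fx_eq_card] at h
    have h' : (Finset.univ.filter fun δ : Ω => t • δ = δ).card = 1 := by exact_mod_cast h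
    exact Finset.card_le_one.1 h'.le δ
      (Finset.mem_filter.2 ⟨Finset.mem_univ _, hδ⟩) (τ 0)
      (Finset.mem_filter.2 ⟨Finset.mem_univ _, ht0⟩)
  have hinvar : ∀ δ ∈ Phi G τ, t • δ ∈ Phi G τ := by
    intro δ hδ
    refine mem_Phi.2 fun x hx => ?_
    have hconj : t * x * t ∈ stabilizer G τ := Function.Embedding.ext fun i => by
      show (t * x * t) • τ i = τ i
      rw [mul_smul, mul_smul, hti,
        show x • τ (Equiv.swap 1 2 i) = τ (Equiv.swap 1 2 i) from DFunLike.congr_fun hx _, hti,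
        Equiv.swap_apply_self]
    have h := mem_Phi.1 hδ _ hconj
    rw [mul_smul, mul_smul] at h
    have h' : t • t • x • t • δ = t • δ := congrArg (fun y => t • y) h
    rwa [← mul_smul, ← pow_two, ht2, one_smul] at h'
  let σ : Equiv.Perm {δ // δ ∈ Phi G τ} :=
    { toFun := fun δ => ⟨t • δ.1, hinvar _ δ.2⟩
      invFun := fun δ => ⟨t • δ.1, hinvar _ δ.2⟩
      left_inv := fun δ => Subtype.ext (by
        show t • t • δ.1 = δ.1
        rw [← mul_smul, ← pow_two, ht2, one_smul])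
      right_inv := fun δ => Subtype.ext (by
        show t • t • δ.1 = δ.1
        rw [← mul_smul, ← pow_two, ht2, one_smul]) }
  have hσ : σ ^ 2 ^ 1 = 1 := by
    rw [pow_one, pow_two]
    exact Equiv.ext σ.left_inv
  have h1 := Equiv.Perm.card_compl_support_modEq hσ
  have h2 : σ.supportᶜ = {(⟨τ 0, self_mem_Phi τ 0⟩ : {δ // δ ∈ Phi G τ})} := by
    ext δ
    rw [Finset.mem_compl, Equiv.Perm.mem_support, not_not, Finset.mem_singleton]
    constructor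
    · intro h
      exact Subtype.ext (huniq _ (congrArg Subtype.val h))
    · rintro rfl
      exact Subtype.ext ht0
  rw [h2, Finset.card_singleton, Fintype.card_coe] at h1
  rw [Nat.odd_iff]
  exact h1.symm

theorem olen_odd (τ : Fin 3 ↪ Ω) (δ : Ω) : Odd (olen (G := G) τ δ) := by
  obtain ⟨k, hk⟩ := Subgroup.index_dvd_card (stabilizer (stabilizer G τ) δ)
  rw [index_stabilizer, O.stab τ] at hk
  have := O.s_odd
  rw [hk] at this
  exact (Nat.odd_mul.1 this).1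

theorem olen_mem {τ : Fin 3 ↪ Ω} {δ : Ω} (hδ : δ ∈ Phi G τ) : olen (G := G) τ δ = 1 := by
  refine Nat.card_eq_one_iff_unique.2 ⟨⟨?_⟩, ⟨⟨δ, mem_orbit_self δ⟩⟩⟩
  rintro ⟨_, ⟨a, rfl⟩⟩ ⟨_, ⟨b, rfl⟩⟩
  exact Subtype.ext ((mem_Phi.1 hδ _ a.2).trans (mem_Phi.1 hδ _ b.2).symm)

theorem three_le_olen {τ : Fin 3 ↪ Ω} {δ : Ω} (hδ : δ ∉ Phi G τ) : 3 ≤ olen (G := G) τ δ := by
  obtain ⟨k, hk⟩ := O.olen_odd τ δ
  have h1 : olen (G := G) τ δ ≠ 1 := fun e => hδ (mem_Phi.2 fun g hg => by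
    haveI : Subsingleton (orbit (stabilizer G τ) δ) := (Nat.card_eq_one_iff_unique.1 e).1
    exact congrArg Subtype.val (Subsingleton.elim
      (⟨g • δ, ⟨⟨g, hg⟩, rfl⟩⟩ : orbit (stabilizer G τ) δ) ⟨δ, mem_orbit_self δ⟩))
  omega

theorem card_fixed_mul (τ : Fin 3 ↪ Ω) (δ : Ω) :
    (Finset.univ.filter fun g : G => g • τ = τ ∧ g • δ = δ).card * olen (G := G) τ δ = s := by
  rw [← O.stab τ, ← card_stab_mul_orbit (G := stabilizer G τ) δ, ← Fintype.card_subtype,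
    ← Nat.card_eq_fintype_card]
  exact congrArg (· * _) (Nat.card_congr
    ⟨fun g => ⟨⟨g.1, g.2.1⟩, g.2.2⟩, fun g => ⟨g.1.1, g.1.2, g.2⟩, fun g => rfl, fun g => rfl⟩)

/-- The number of orbits of the stabiliser of a triple. -/
theorem sum_fix (τ : Fin 3 ↪ Ω) :
    ∑ g ∈ Finset.univ.filter (fun g : G => g • τ = τ), ((fx Ω g : ℤ) : ℚ) =
      (s : ℚ) * ∑ δ : Ω, (1 : ℚ) / (olen (G := G) τ δ : ℚ) := by
  have hδ : ∀ δ : Ω, ((Finset.univ.filter fun g : G => g • τ = τ ∧ g • δ = δ).card : ℚ) =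
      (s : ℚ) * ((1 : ℚ) / (olen (G := G) τ δ : ℚ)) := fun δ => by
    have h := O.card_fixed_mul τ δ
    have hpos : (olen (G := G) τ δ : ℚ) ≠ 0 := by
      obtain ⟨k, hk⟩ := O.olen_odd τ δ
      exact Nat.cast_ne_zero.2 (by omega)
    rw [mul_one_div, eq_div_iff hpos, ← Nat.cast_mul, h]
  rw [Finset.mul_sum, ← Finset.sum_congr rfl fun δ _ => hδ δ]
  simp only [fx_eq_card, Finset.card_filter, Int.cast_natCast, Nat.cast_sum]
  rw [Finset.sum_filter, Finset.sum_comm]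
  refine Finset.sum_congr rfl fun g _ => ?_
  by_cases hg : g • τ = τ <;> simp [hg]

theorem orbit_sum_le (τ : Fin 3 ↪ Ω) :
    ∑ δ : Ω, (1 : ℚ) / (olen (G := G) τ δ : ℚ) +
        ∑ δ ∈ (Phi G τ)ᶜ, ((1 : ℚ) / 3 - 1 / (olen (G := G) τ δ : ℚ)) =
      (p : ℚ) + 2 / 3 * (Phi G τ).card := by
  rw [← Finset.sum_add_sum_compl (Phi G τ) fun δ => (1 : ℚ) / (olen (G := G) τ δ : ℚ),
    Finset.sum_sub_distrib, Finset.sum_congr rfl fun δ hδ => by rw [O.olen_mem hδ, Nat.cast_one],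
    Finset.sum_const, Finset.sum_const, nsmul_eq_mul, nsmul_eq_mul, Finset.card_compl,
    Nat.cast_sub (Finset.card_le_univ _), O.card]
  push_cast
  ring

theorem term_nonneg {τ : Fin 3 ↪ Ω} {δ : Ω} (hδ : δ ∈ (Phi G τ)ᶜ) :
    0 ≤ (1 : ℚ) / 3 - 1 / (olen (G := G) τ δ : ℚ) := by
  rw [sub_nonneg]
  exact one_div_le_one_div_of_le (by norm_num)
    (by exact_mod_cast O.three_le_olen (Finset.mem_compl.1 hδ))

theorem card_stab_filter (τ : Fin 3 ↪ Ω) :
    (Finset.univ.filter fun g : G => g • τ = τ).card = s := by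
  rw [← Fintype.card_subtype, ← Nat.card_eq_fintype_card, ← O.stab τ]
  rfl

theorem sum_triples (φ : G → ℚ) (hφ : ∀ g h : G, φ (h * g * h⁻¹) = φ g) (τ : Fin 3 ↪ Ω) :
    ∑ g : G, φ g * ((fx (Fin 3 ↪ Ω) g : ℤ) : ℚ) =
      3 * (p : ℚ) * D.X * D.Th * ∑ g ∈ Finset.univ.filter (fun g : G => g • τ = τ), φ g := by
  haveI := O.trans
  rw [sum_mul_fx φ hφ τ]
  have h := card_triples O.card O.toThree
  have h' : ((Fintype.card (Fin 3 ↪ Ω) : ℤ) : ℚ) = ((3 * (p : ℤ) * D.X * D.Th : ℤ) : ℚ) := by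
    rw [h]
  push_cast at h'
  rw [h']
  exact congrArg _ (Finset.sum_congr (by ext; simp) fun _ _ => rfl)

theorem fx_triple (g : G) : fx (Fin 3 ↪ Ω) g = fx Ω g * (D.a g ^ 2 + D.s * D.a g) := by
  rw [fx_emb, desc_three (fx_nonneg g), O.toThree.e_eq]
  ring

theorem sum_weight (ψ : G → ℚ) :
    ∑ g : G, (if g = 1 then 0 else ψ g / ((fx Ω g : ℤ) : ℚ)) * ((fx (Fin 3 ↪ Ω) g : ℤ) : ℚ) =
      ∑ g ∈ ((reg p G).erase 1).filter (fun g => fx Ω g ≠ 0),
        ψ g * ((D.a g ^ 2 + D.s * D.a g : ℤ) : ℚ) := by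
  rw [← Finset.sum_subset (Finset.subset_univ
    (((reg p G).erase 1).filter fun g => fx Ω g ≠ 0))]
  · refine Finset.sum_congr rfl fun g hg => ?_
    rw [Finset.mem_filter] at hg
    have hf : ((fx Ω g : ℤ) : ℚ) ≠ 0 := Int.cast_ne_zero.2 hg.2
    rw [if_neg (Finset.ne_of_mem_erase hg.1), O.fx_triple, Int.cast_mul, ← mul_assoc,
      div_mul_cancel₀ _ hf]
  · intro g _ hg
    by_cases hg1 : g = 1
    · rw [if_pos hg1, zero_mul]
    · by_cases hf : fx Ω g = 0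
      · rw [O.fx_triple, hf, zero_mul, Int.cast_zero, mul_zero]
      · exact absurd (Finset.mem_filter.2
          ⟨Finset.mem_erase.2 ⟨hg1, mem_reg.2 (O.toThree.not_sing_of_fix hf)⟩, hf⟩) hg

theorem fx_pos_of_mem {τ : Fin 3 ↪ Ω} {g : G}
    (hg : g ∈ (Finset.univ.filter fun g : G => g • τ = τ).erase 1) :
    (0 : ℚ) < ((fx Ω g : ℤ) : ℚ) := by
  have h : 3 ≤ fx Ω g := O.three_le_fx_of_mem (τ := τ)
    (mem_stabilizer_iff.2 (Finset.mem_filter.1 (Finset.mem_of_mem_erase hg)).2)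
  exact_mod_cast (by linarith : (0 : ℤ) < fx Ω g)

/-- The bound on the sum of inverses of the fixed point numbers over a stabiliser. -/
theorem sum_inv_le (τ : Fin 3 ↪ Ω) :
    3 * (p : ℚ) * ∑ g ∈ (Finset.univ.filter fun g : G => g • τ = τ).erase 1,
        1 / ((fx Ω g : ℤ) : ℚ) ≤ 3 * (s : ℚ) - 1 := by
  set SS := Finset.univ.filter fun g : G => g • τ = τ with hSS
  have h1S : (1 : G) ∈ SS := Finset.mem_filter.2 ⟨Finset.mem_univ _, one_smul G τ⟩
  have hmvc : ∀ g h : G, mv Ω (h * g * h⁻¹) = mv Ω g := fun g h => by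
    rw [mv_eq, mv_eq, ← O.toThree.fx_conj (isConj_iff.2 ⟨h, rfl⟩ : IsConj g (h * g * h⁻¹))]
  have h1 := O.sum_triples
    (fun g => if g = 1 then 0 else ((mv Ω g : ℤ) : ℚ) / ((fx Ω g : ℤ) : ℚ))
    (fun g h => by
      simp only [conj_eq_one_iff, hmvc,
        ← O.toThree.fx_conj (isConj_iff.2 ⟨h, rfl⟩ : IsConj g (h * g * h⁻¹))]) τ
  rw [O.sum_weight] at h1
  have h2 : ∑ g ∈ ((reg p G).erase 1).filter (fun g => fx Ω g ≠ 0),
      ((mv Ω g : ℤ) : ℚ) * ((D.a g ^ 2 + D.s * D.a g : ℤ) : ℚ) ≤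
        6 * (p : ℚ) * D.X * D.Th * s := by
    have h3 : ∑ g ∈ ((reg p G).erase 1).filter (fun g => fx Ω g ≠ 0),
        mv Ω g * (D.a g ^ 2 + D.s * D.a g) ≤ 6 * (p : ℤ) * D.X * D.Th * s := by
      calc _ ≤ ∑ g ∈ (reg p G).erase 1, mv Ω g * (D.a g ^ 2 + D.s * D.a g) :=
            Finset.sum_le_sum_of_subset_of_nonneg (Finset.filter_subset _ _)
              fun g _ _ => mul_nonneg (Int.natCast_nonneg _) (D.e_nonneg g)
        _ = 2 * (Nat.card G : ℤ) := by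
            rw [← O.sum_emv]
            exact Finset.sum_congr rfl fun g _ => mul_comm _ _
        _ = _ := by rw [O.card_G']; ring
    exact_mod_cast h3
  rw [← hSS, ← Finset.add_sum_erase _ _ h1S, if_pos rfl, zero_add,
    Finset.sum_congr (s₁ := SS.erase 1) rfl
      fun g hg => by rw [if_neg (Finset.ne_of_mem_erase hg)]] at h1
  have hX : (0 : ℚ) < D.X := by exact_mod_cast D.X_pos
  have hT : (0 : ℚ) < D.Th := by exact_mod_cast D.Th_pos
  have hpQ : (0 : ℚ) < p := by exact_mod_cast hp.out.pos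
  rw [h1] at h2
  have h4 : ∑ g ∈ SS.erase 1, ((mv Ω g : ℤ) : ℚ) / ((fx Ω g : ℤ) : ℚ) ≤ 2 * s :=
    le_of_mul_le_mul_left (le_of_le_of_eq h2 (by ring))
      (by positivity : (0 : ℚ) < 3 * (p : ℚ) * D.X * D.Th)
  have h5 : ∀ g ∈ SS.erase 1, ((mv Ω g : ℤ) : ℚ) / ((fx Ω g : ℤ) : ℚ) =
      3 * (p : ℚ) * (1 / ((fx Ω g : ℤ) : ℚ)) - 1 := fun g hg => by
    have hf := O.fx_pos_of_mem hg
    rw [mv_eq, O.card]
    push_cast
    field_simp
  rw [Finset.sum_congr rfl h5, Finset.sum_sub_distrib, ← Finset.mul_sum, Finset.sum_const,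
    nsmul_eq_mul, mul_one, Finset.card_erase_of_mem h1S, hSS, O.card_stab_filter,
    Nat.cast_sub (by have := O.s_odd.pos; omega : 1 ≤ s), ← hSS] at h4
  push_cast at h4
  linarith

/-- The Cauchy bound. -/
theorem sq_le (τ : Fin 3 ↪ Ω) :
    ((s : ℚ) - 1) ^ 2 ≤ ((s : ℚ) * (∑ δ : Ω, (1 : ℚ) / (olen (G := G) τ δ : ℚ)) - 3 * p) *
      ∑ g ∈ (Finset.univ.filter fun g : G => g • τ = τ).erase 1, 1 / ((fx Ω g : ℤ) : ℚ) := by
  set SS := Finset.univ.filter fun g : G => g • τ = τ with hSS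
  have h1S : (1 : G) ∈ SS := Finset.mem_filter.2 ⟨Finset.mem_univ _, one_smul G τ⟩
  have hV : ∑ g ∈ SS.erase 1, ((fx Ω g : ℤ) : ℚ) =
      (s : ℚ) * (∑ δ : Ω, (1 : ℚ) / (olen (G := G) τ δ : ℚ)) - 3 * p := by
    rw [← O.sum_fix τ, ← hSS, ← Finset.add_sum_erase _ _ h1S, fx_one, O.card]
    push_cast
    ring
  rw [← hV]
  have hcs := Finset.sq_sum_div_le_sum_sq_div (SS.erase 1) (fun _ => (1 : ℚ))
    (g := fun g => ((fx Ω g : ℤ) : ℚ)) (fun g hg => O.fx_pos_of_mem hg)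
  rw [Finset.sum_const, nsmul_eq_mul, mul_one, Finset.card_erase_of_mem h1S, hSS,
    O.card_stab_filter, Nat.cast_sub (by have := O.s_odd.pos; omega : 1 ≤ s), ← hSS] at hcs
  simp only [one_pow, Nat.cast_one] at hcs
  rcases (Finset.sum_nonneg fun g hg => (O.fx_pos_of_mem hg).le :
    0 ≤ ∑ g ∈ SS.erase 1, ((fx Ω g : ℤ) : ℚ)).eq_or_lt with h0 | h0
  · have he : SS.erase 1 = ∅ := by
      by_contra hne
      exact (Finset.sum_pos (fun g hg => O.fx_pos_of_mem hg)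
        (Finset.nonempty_iff_ne_empty.2 hne)).ne h0
    have : s = 1 := by
      have h := Finset.card_erase_of_mem h1S
      rw [he, Finset.card_empty, hSS, O.card_stab_filter] at h
      have := O.s_odd.pos
      omega
    rw [he]
    simp [this]
  · rw [div_le_iff₀ h0] at hcs
    rw [mul_comm]
    exact hcs

theorem fifteen_le_c : 15 ≤ c := by
  obtain ⟨q, hq, hq5, hqs, -⟩ := O.exists_q
  have h : q ∣ c * c := O.c_sq ▸ hqs.mul_left 3
  have hqc : q ∣ c := (hq.dvd_mul.1 h).elim id id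
  have hco : Nat.Coprime 3 q := (Nat.coprime_primes Nat.prime_three hq).2 (by omega)
  have h15 : 3 * q ≤ c :=
    Nat.le_of_dvd (by have := O.c_ge; omega) (hco.mul_dvd_of_dvd_of_dvd O.three_dvd_c hqc)
  omega

theorem seventy_five_le : 75 ≤ s := by
  have h := Nat.mul_le_mul O.fifteen_le_c O.fifteen_le_c
  rw [O.c_sq] at h
  omega

theorem p_le_orbits (τ : Fin 3 ↪ Ω) : (p : ℚ) - 1 < ∑ δ : Ω, (1 : ℚ) / (olen (G := G) τ δ : ℚ) := by
  by_contra hle
  have h1 := O.sum_inv_le τ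
  have h2 := O.sq_le τ
  set o := ∑ δ : Ω, (1 : ℚ) / (olen (G := G) τ δ : ℚ)
  set U := ∑ g ∈ (Finset.univ.filter fun g : G => g • τ = τ).erase 1, 1 / ((fx Ω g : ℤ) : ℚ)
  have hU : 0 ≤ U := Finset.sum_nonneg fun g hg => (one_div_pos.2 (O.fx_pos_of_mem hg)).le
  have hs : (75 : ℚ) ≤ s := by exact_mod_cast O.seventy_five_le
  have hp' : (5 : ℚ) ≤ p := by exact_mod_cast D.p5
  have hso : (s : ℚ) * o - 3 * p ≤ (s : ℚ) * ((p : ℚ) - 1) - 3 * p := by
    have := mul_le_mul_of_nonneg_left (not_lt.1 hle) (by linarith : (0 : ℚ) ≤ s)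
    linarith
  have hB : 0 ≤ (s : ℚ) * ((p : ℚ) - 1) - 3 * p := by nlinarith
  have h3 : 3 * (p : ℚ) * ((s : ℚ) - 1) ^ 2 ≤
      ((s : ℚ) * ((p : ℚ) - 1) - 3 * p) * (3 * (s : ℚ) - 1) := by
    calc 3 * (p : ℚ) * ((s : ℚ) - 1) ^ 2 ≤ 3 * (p : ℚ) * (((s : ℚ) * ((p : ℚ) - 1) - 3 * p) * U) :=
          mul_le_mul_of_nonneg_left (h2.trans (mul_le_mul_of_nonneg_right hso hU)) (by linarith)
      _ = ((s : ℚ) * ((p : ℚ) - 1) - 3 * p) * (3 * (p : ℚ) * U) := by ring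
      _ ≤ _ := mul_le_mul_of_nonneg_left h1 hB
  nlinarith

theorem orbits_mem_int (τ : Fin 3 ↪ Ω) :
    ∃ o : ℕ, ∑ δ : Ω, (1 : ℚ) / (olen (G := G) τ δ : ℚ) = o := by
  have h := PermTwo.sum_fixedBy (G := stabilizer G τ) Ω
  refine ⟨Nat.card (Quotient (orbitRel (stabilizer G τ) Ω)), ?_⟩
  set o := Nat.card (Quotient (orbitRel (stabilizer G τ) Ω))
  have h' : ∑ g : stabilizer G τ, Nat.card (fixedBy Ω g) = o * Nat.card (stabilizer G τ) := by
    exact_mod_cast h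
  have hsum : ∑ g ∈ Finset.univ.filter (fun g : G => g • τ = τ), ((fx Ω g : ℤ) : ℚ) =
      ((∑ g : stabilizer G τ, Nat.card (fixedBy Ω g) : ℕ) : ℚ) := by
    rw [Nat.cast_sum, Finset.sum_subtype (Finset.univ.filter fun g : G => g • τ = τ)
      (p := fun g => g ∈ stabilizer G τ) (fun g => by simp)]
    refine Finset.sum_congr rfl fun g _ => ?_
    rw [fx, Int.cast_natCast]
    rfl
  rw [h', O.stab τ, O.sum_fix τ] at hsum
  push_cast at hsum
  refine mul_left_cancel₀ (Nat.cast_ne_zero.2 O.s_odd.pos.ne' : (s : ℚ) ≠ 0) ?_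
  rw [hsum]
  ring

theorem p_le_orbits' (τ : Fin 3 ↪ Ω) : (p : ℚ) ≤ ∑ δ : Ω, (1 : ℚ) / (olen (G := G) τ δ : ℚ) := by
  obtain ⟨o, ho⟩ := O.orbits_mem_int τ
  have h := O.p_le_orbits τ
  rw [ho] at h ⊢
  have h' : ((p : ℤ) : ℚ) < (((o : ℤ) + 1 : ℤ) : ℚ) := by push_cast; linarith
  have h'' : (p : ℤ) < (o : ℤ) + 1 := by exact_mod_cast h'
  exact_mod_cast (by omega : p ≤ o)

theorem excess_le (τ : Fin 3 ↪ Ω) :
    ∑ δ ∈ (Phi G τ)ᶜ, ((1 : ℚ) / 3 - 1 / (olen (G := G) τ δ : ℚ)) ≤ 2 / 3 * (Phi G τ).card := by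
  have := O.orbit_sum_le τ
  have := O.p_le_orbits' τ
  linarith

theorem long_le (τ : Fin 3 ↪ Ω) :
    (Finset.univ.filter fun δ : Ω => 3 < olen (G := G) τ δ).card ≤ 5 * (Phi G τ).card := by
  set Lg := Finset.univ.filter fun δ : Ω => 3 < olen (G := G) τ δ
  have hsub : Lg ⊆ (Phi G τ)ᶜ := fun δ hδ => Finset.mem_compl.2 fun h => by
    have h2 := (Finset.mem_filter.1 hδ).2
    rw [O.olen_mem h] at h2
    omega
  have h1 : (Lg.card : ℚ) * (2 / 15) ≤ 2 / 3 * (Phi G τ).card := by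
    refine le_trans ?_ ((Finset.sum_le_sum_of_subset_of_nonneg hsub
      fun δ hδ _ => O.term_nonneg hδ).trans (O.excess_le τ))
    rw [← nsmul_eq_mul, ← Finset.sum_const]
    refine Finset.sum_le_sum fun δ hδ => ?_
    obtain ⟨k, hk⟩ := O.olen_odd τ δ
    have h2 := (Finset.mem_filter.1 hδ).2
    have h5 : (5 : ℚ) ≤ (olen (G := G) τ δ : ℚ) := by exact_mod_cast (by omega : 5 ≤ olen (G := G) τ δ)
    have := one_div_le_one_div_of_le (by norm_num : (0 : ℚ) < 5) h5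
    linarith
  have h2 : ((Lg.card : ℕ) : ℚ) ≤ ((5 * (Phi G τ).card : ℕ) : ℚ) := by push_cast; linarith
  exact_mod_cast h2

theorem mv_cube_le {τ : Fin 3 ↪ Ω} {g : G} (hg : g ∈ stabilizer G τ) :
    mv Ω (g ^ 3) ≤ 5 * ((Phi G τ).card : ℤ) := by
  unfold mv
  refine le_trans ?_ (Int.ofNat_le.2 (O.long_le τ))
  refine Int.ofNat_le.2 (Finset.card_le_card fun δ hδ => ?_)
  refine Finset.mem_filter.2 ⟨Finset.mem_univ _, ?_⟩
  by_contra hle
  obtain ⟨d, hd1, hd3, hd⟩ := exists_small_period hg (not_lt.1 hle)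
  refine (Finset.mem_filter.1 hδ).2 ?_
  have hodd : Odd (orderOf g) := by
    obtain ⟨k, hk⟩ := Subgroup.orderOf_dvd_natCard _ hg
    have := O.s_odd
    rw [← O.stab τ, hk] at this
    exact (Nat.odd_mul.1 this).1
  interval_cases d
  · rw [pow_one] at hd
    rw [pow_succ, pow_two, mul_smul, mul_smul, hd, hd, hd]
  · have h1 : g • δ = δ := fix_of_coprime_pow (n := 2) (m := orderOf g)
      (Nat.prime_two.coprime_iff_not_dvd.2 fun h =>
        (Nat.not_even_iff_odd.2 hodd) (even_iff_two_dvd.2 h)) hd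
      (by rw [pow_orderOf_eq_one, one_smul])
    rw [pow_succ, pow_two, mul_smul, mul_smul, h1, h1, h1]
  · exact hd

/-- The key inequality between the fixed points and `p`. -/
theorem key_bound (τ : Fin 3 ↪ Ω) :
    2 * (p : ℤ) ≤ 15 * ((Phi G τ).card : ℤ) := by
  haveI := O.trans
  set F := (Phi G τ).card with hF
  obtain ⟨q, hq, hq5, hqs, -⟩ := O.exists_q
  have hD := O.D_eq_one Nat.prime_three hq (by omega) O.three_dvd_s hqs
  set R := (reg p G).erase 1 with hR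
  have hpt : ∀ g ∈ R, mv Ω (g ^ 3) * (D.a g ^ 2 + D.s * D.a g) ≤
      5 * (F : ℤ) * (D.a g ^ 2 + D.s * D.a g) +
        (if fx Ω g = 0 then 3 * (p : ℤ) * (D.a g ^ 2 + D.s * D.a g) else 0) := by
    intro g _
    have he := D.e_nonneg g
    by_cases hf : fx Ω g = 0
    · rw [if_pos hf]
      have h1 : mv Ω (g ^ 3) ≤ 3 * (p : ℤ) := by
        rw [mv_eq, O.card]
        push_cast
        linarith [fx_nonneg (Ω := Ω) (g ^ 3)]
      have := mul_le_mul_of_nonneg_right h1 he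
      have : 0 ≤ 5 * (F : ℤ) * (D.a g ^ 2 + D.s * D.a g) := mul_nonneg (by positivity) he
      linarith
    · rw [if_neg hf, add_zero]
      by_cases hf3 : 3 ≤ fx Ω g
      · refine mul_le_mul_of_nonneg_right ?_ he
        have hcard : 3 ≤ (Finset.univ.filter fun δ : Ω => g • δ = δ).card := by
          rw [fx_eq_card] at hf3; exact_mod_cast hf3
        obtain ⟨τ'⟩ : Nonempty (Fin 3 ↪ {δ : Ω // g • δ = δ}) :=
          Function.Embedding.nonempty_of_card_le (by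
            rw [Fintype.card_fin, Fintype.card_subtype]; exact hcard)
        obtain ⟨k, hk⟩ := exists_smul_eq G (τ'.trans (Function.Embedding.subtype _)) τ
        have hmem : k * g * k⁻¹ ∈ stabilizer G τ := by
          show (k * g * k⁻¹) • τ = τ
          rw [← hk, mul_smul, inv_smul_smul, mul_smul]
          congr 1
          exact Function.Embedding.ext fun i => (τ' i).2
        have h := O.mv_cube_le hmem
        rw [conj_pow] at h
        rwa [mv_eq, ← O.toThree.fx_conj (isConj_iff.2 ⟨k, rfl⟩ : IsConj (g ^ 3) (k * g ^ 3 * k⁻¹)),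
          ← mv_eq] at h
      · have : fx Ω g = 1 ∨ fx Ω g = 2 := by
          have := fx_nonneg (Ω := Ω) g
          omega
        rw [O.toThree.e_eq]
        rcases this with e | e <;> rw [e] <;> norm_num
  have hsum : ∑ g ∈ R, mv Ω (g ^ 3) * (D.a g ^ 2 + D.s * D.a g) = (Nat.card G : ℤ) := by
    rw [← hD]; exact Finset.sum_congr rfl fun g _ => mul_comm _ _
  have hle := Finset.sum_le_sum hpt
  rw [hsum, Finset.sum_add_distrib, ← Finset.mul_sum, ← Finset.sum_filter, ← Finset.mul_sum,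
    hR, O.sum_e_eq, ← hR] at hle
  have hsplit : ∑ g ∈ R.filter (fun g => fx Ω g = 0), (D.a g ^ 2 + D.s * D.a g) +
      ∑ g ∈ R.filter (fun g => fx Ω g ≠ 0), (D.a g ^ 2 + D.s * D.a g) =
        D.X * D.Th * ((c : ℤ) ^ 2 - 1) := by
    rw [Finset.sum_filter_add_sum_filter_not, hR, O.sum_e_eq]
  set SS := Finset.univ.filter fun g : G => g • τ = τ with hSS
  have h1S : (1 : G) ∈ SS := Finset.mem_filter.2 ⟨Finset.mem_univ _, one_smul G τ⟩
  set U := ∑ g ∈ SS.erase 1, 1 / ((fx Ω g : ℤ) : ℚ) with hU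
  have hplus : ((∑ g ∈ R.filter (fun g => fx Ω g ≠ 0), (D.a g ^ 2 + D.s * D.a g) : ℤ) : ℚ) =
      3 * (p : ℚ) * D.X * D.Th * U := by
    have h1 := O.sum_triples (fun g => if g = 1 then 0 else (1 : ℚ) / ((fx Ω g : ℤ) : ℚ))
      (fun g h => by
        simp only [conj_eq_one_iff,
          ← O.toThree.fx_conj (isConj_iff.2 ⟨h, rfl⟩ : IsConj g (h * g * h⁻¹))]) τ
    rw [O.sum_weight, ← hSS, ← Finset.add_sum_erase _ _ h1S, if_pos rfl, zero_add,
      Finset.sum_congr (s₁ := SS.erase 1) rfl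
        fun g hg => by rw [if_neg (Finset.ne_of_mem_erase hg)]] at h1
    rw [hU, ← h1, Int.cast_sum, hR]
    exact Finset.sum_congr rfl fun g _ => (one_mul _).symm
  have hc2 : ((c * c : ℕ) : ℚ) = ((3 * s : ℕ) : ℚ) := by rw [O.c_sq]
  push_cast at hc2
  have hXT : (0 : ℚ) < (D.X : ℚ) * D.Th := by
    have : (0 : ℚ) < D.X := by exact_mod_cast D.X_pos
    have : (0 : ℚ) < D.Th := by exact_mod_cast D.Th_pos
    positivity
  have hsplitQ : ((∑ g ∈ R.filter (fun g => fx Ω g = 0), (D.a g ^ 2 + D.s * D.a g) : ℤ) : ℚ) +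
      ((∑ g ∈ R.filter (fun g => fx Ω g ≠ 0), (D.a g ^ 2 + D.s * D.a g) : ℤ) : ℚ) =
        (D.X : ℚ) * D.Th * (3 * (s : ℚ) - 1) := by
    have h1 : ((∑ g ∈ R.filter (fun g => fx Ω g = 0), (D.a g ^ 2 + D.s * D.a g) +
      ∑ g ∈ R.filter (fun g => fx Ω g ≠ 0), (D.a g ^ 2 + D.s * D.a g) : ℤ) : ℚ) =
        ((D.X * D.Th * ((c : ℤ) ^ 2 - 1) : ℤ) : ℚ) := by rw [hsplit]
    push_cast at h1 ⊢
    linear_combination h1 + (D.X : ℚ) * D.Th * hc2
  have hleQ : (3 : ℚ) * p * D.X * D.Th * s ≤ 5 * (F : ℚ) * ((D.X : ℚ) * D.Th * (3 * (s : ℚ) - 1)) +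
      3 * (p : ℚ) * ((∑ g ∈ R.filter (fun g => fx Ω g = 0),
        (D.a g ^ 2 + D.s * D.a g) : ℤ) : ℚ) := by
    have h1 : (((3 : ℤ) * p * D.X * D.Th * s : ℤ) : ℚ) ≤
        ((5 * (F : ℤ) * (D.X * D.Th * ((c : ℤ) ^ 2 - 1)) + 3 * (p : ℤ) *
          ∑ g ∈ R.filter (fun g => fx Ω g = 0), (D.a g ^ 2 + D.s * D.a g) : ℤ) : ℚ) := by
      rw [O.card_G'] at hle
      exact_mod_cast hle
    push_cast at h1 ⊢
    have e : 5 * (F : ℚ) * ((D.X : ℚ) * D.Th * ((c : ℚ) ^ 2 - 1)) =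
        5 * (F : ℚ) * ((D.X : ℚ) * D.Th * (3 * (s : ℚ) - 1)) := by
      rw [pow_two, hc2]
    linarith
  rw [show ((∑ g ∈ R.filter (fun g => fx Ω g = 0), (D.a g ^ 2 + D.s * D.a g) : ℤ) : ℚ) =
    (D.X : ℚ) * D.Th * (3 * (s : ℚ) - 1) - 3 * (p : ℚ) * D.X * D.Th * U by linarith] at hleQ
  have h3 : 3 * (p : ℚ) * s ≤ 5 * (F : ℚ) * (3 * (s : ℚ) - 1) +
      3 * (p : ℚ) * ((3 * (s : ℚ) - 1) - 3 * (p : ℚ) * U) :=
    le_of_mul_le_mul_left (by linarith) hXT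
  have hsq := O.sq_le τ
  rw [← hSS, ← hU] at hsq
  set o := ∑ δ : Ω, (1 : ℚ) / (olen (G := G) τ δ : ℚ)
  have hUo : 0 ≤ U := Finset.sum_nonneg fun g hg => (one_div_pos.2 (O.fx_pos_of_mem hg)).le
  have hs : (75 : ℚ) ≤ s := by exact_mod_cast O.seventy_five_le
  have hF0 : (0 : ℚ) ≤ F := Nat.cast_nonneg _
  have hp' : (0 : ℚ) < p := by exact_mod_cast hp.out.pos
  have ho : o ≤ (p : ℚ) + 2 / 3 * F := by
    have h1 := O.orbit_sum_le τ
    have h2 : 0 ≤ ∑ δ ∈ (Phi G τ)ᶜ, ((1 : ℚ) / 3 - 1 / (olen (G := G) τ δ : ℚ)) :=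
      Finset.sum_nonneg fun δ hδ => O.term_nonneg hδ
    rw [← hF] at h1
    linarith
  have h4 : ((s : ℚ) - 2) * 3 ≤ U * (3 * (p : ℚ) + 2 * F) := by
    have h5 : (s : ℚ) * ((s : ℚ) - 2) ≤ (s : ℚ) * (o * U) := by
      have h6 : 0 ≤ 3 * (p : ℚ) * U := by positivity
      linarith
    have h7 := le_of_mul_le_mul_left h5 (by linarith)
    have h8 := mul_le_mul_of_nonneg_right ho hUo
    linarith
  have h9 : (3 * (p : ℚ) - 2 * F) * ((s : ℚ) - 2) ≤ 3 * (p : ℚ) * p * U := by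
    have hpos : (0 : ℚ) < 3 * (p : ℚ) + 2 * F := by linarith
    refine le_of_mul_le_mul_right (?_ : _ * (3 * (p : ℚ) + 2 * F) ≤ _ * (3 * (p : ℚ) + 2 * F)) hpos
    have h10 := mul_le_mul_of_nonneg_left h4 (by positivity : (0 : ℚ) ≤ 3 * (p : ℚ) * p)
    have h11 : 0 ≤ 4 * (F : ℚ) * F * ((s : ℚ) - 2) := by
      have : (0 : ℚ) ≤ (s : ℚ) - 2 := by linarith
      positivity
    linarith
  have h12 : (s : ℚ) * ((p : ℚ) - 7 * F) ≤ 5 * p := by linarith
  by_contra hlt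
  have hlt' : (15 : ℚ) * F < 2 * p := by exact_mod_cast (not_le.1 hlt)
  have := mul_le_mul_of_nonneg_right hs (by linarith : (0 : ℚ) ≤ (p : ℚ) - 7 * F)
  linarith

end OddCase

end CfsgLib.DegreeThreeP
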