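import Cfsg.Agent.Lib.DegreeThreeP.KThreeEven
import Cfsg.Agent.Lib.DegreeThreeP.Sign

/-!
# The case where all involutions fix one point
-/

set_option autoImplicit false
set_option linter.style.haveILetI false
set_option linter.unusedSectionVars false

noncomputable section

namespace CfsgLib.DegreeThreeP

open Cfsg CfsgLib.Characters MulAction
open scoped Classical

universe u v

variable {p : ℕ} [hp : Fact p.Prime] {G : Type u} [Group G] [Fintype G]
  {Ω : Type v} [Fintype Ω] [MulAction G Ω]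

/-- The data of a triply transitive group in which all involutions fix one point. -/
structure OddCase (D : Dat p G) (Ω : Type v) [Fintype Ω] [MulAction G Ω] (c s : ℕ) : Prop
    extends Three D Ω where
  cube : ∑ g, D.a g ^ 3 = ((1 : ℕ) : ℤ) * Nat.card G
  card_G : (Nat.card G : ℤ) = (p : ℤ) * D.X * D.Th * (c : ℤ) ^ 2
  c_odd : Odd c
  c_ge : 3 ≤ c
  c_sq : c * c = 3 * s
  p_mod : p % 4 = 3
  trans : IsPretransitive G (Fin 3 ↪ Ω)
  stab : ∀ τ : Fin 3 ↪ Ω, Nat.card (stabilizer G τ) = s
  invol : ∀ t : G, orderOf t = 2 → fx Ω t = 1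
  cls : ∀ g ∈ (reg p G).erase 1, ∃ r : ℕ, 0 < r ∧
    (Nat.card (Subgroup.centralizer ({g} : Set G)) : ℤ) * r = (c : ℤ) * mv Ω g ∧
    ((ClassCount.cls g).card : ℤ) * mv Ω g = (p : ℤ) * D.X * D.Th * c * r

variable {D : Dat p G}

theorem card_triples (hn : Fintype.card Ω = 3 * p) (T : Three D Ω) :
    (Fintype.card (Fin 3 ↪ Ω) : ℤ) = 3 * (p : ℤ) * D.X * D.Th := by
  rw [Fintype.card_embedding_eq, hn, Fintype.card_fin, T.X_eq, T.Th_eq]
  have h := desc_three (z := ((3 * p : ℕ) : ℤ)) (Int.natCast_nonneg _)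
  rw [Int.toNat_natCast] at h
  rw [h]
  push_cast
  ring

theorem card_orbits_triples (T : Three D Ω) {A : ℕ}
    (hA : ∑ g, D.a g ^ 3 = (A : ℤ) * Nat.card G) :
    Nat.card (Quotient (orbitRel G (Fin 3 ↪ Ω))) = A := by
  have h := PermTwo.sum_fixedBy (G := G) (Fin 3 ↪ Ω)
  have e : ∀ g : G, (Nat.card (fixedBy (Fin 3 ↪ Ω) g) : ℤ) = D.a g ^ 3 - D.a g := by
    intro g
    have h1 := fx_emb (Ω := Ω) 3 g
    rw [fx, desc_three (fx_nonneg g), T.hf] at h1
    rw [h1]
    ring
  have h2 : ((∑ g : G, (Nat.card (fixedBy (Fin 3 ↪ Ω) g) : ℤ) : ℤ) : ℂ) =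
      (A : ℂ) * Nat.card G := by
    simp only [e, Finset.sum_sub_distrib, D.sum_a, hA, sub_zero]
    push_cast; rfl
  push_cast at h2
  rw [h] at h2
  exact_mod_cast mul_right_cancel₀ (Nat.cast_ne_zero.2 Nat.card_pos.ne') h2

theorem exists_oddCase [IsSimpleGroup G] (hG : ¬ IsMulCommutative G) (T : Three D Ω) :
    ∃ c s : ℕ, OddCase D Ω c s := by
  obtain ⟨M, hM1, hM⟩ := D.exists_M
  obtain ⟨A, hA⟩ := D.exists_cube
  have hp5 := D.p5
  have hinv : ∀ t : G, orderOf t = 2 → fx Ω t = 1 := by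
    intro t ht
    have h1 := (T.invol_facts hM ht).2.1
    have h2 := four_dvd_moved (Ω := Ω) hG (show t * t = 1 by rw [← pow_two, ← ht, pow_orderOf_eq_one])
    have h3 := T.no_fix_three ht
    have h4 := fx_nonneg (Ω := Ω) t
    obtain ⟨o, ho⟩ := hp.out.odd_of_ne_two (by omega)
    rw [T.card, ho] at h2
    obtain ⟨j, hj⟩ := h2
    push_cast at hj
    omega
  obtain ⟨t, ht⟩ := T.exists_invol
  have hat : D.a t = 0 := by
    have := hinv t ht
    rw [T.hf] at this
    linarith
  have hmod : p % 4 = 3 := by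
    have h2 := four_dvd_moved (Ω := Ω) hG (show t * t = 1 by rw [← pow_two, ← ht, pow_orderOf_eq_one])
    rw [hinv t ht, T.card] at h2
    obtain ⟨j, hj⟩ := h2
    push_cast at hj
    omega
  obtain ⟨-, -, hC⟩ := T.invol_facts hM ht
  rw [T.mv_eq', hat, sub_zero] at hC
  set C := Nat.card (Subgroup.centralizer ({t} : Set G)) with hCdef
  obtain ⟨cz, hcz⟩ := (Int.pow_dvd_pow_iff two_ne_zero).1
    (Dvd.intro_left (M : ℤ) hC.symm : D.X ^ 2 ∣ (C : ℤ) ^ 2)
  have hczpos : 0 < cz := by
    have : (0 : ℤ) < C := by exact_mod_cast (Nat.card_pos : 0 < C)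
    rw [hcz] at this
    exact pos_of_mul_pos_right this D.X_pos.le
  set c := cz.toNat
  have hc : (c : ℤ) = cz := Int.toNat_of_nonneg hczpos.le
  have hMc : (M : ℤ) = (c : ℤ) ^ 2 := by
    rw [hcz] at hC
    refine mul_right_cancel₀ (pow_ne_zero 2 D.X_pos.ne') ?_
    rw [hc]
    linear_combination -hC
  have hMc' : M = c * c := by rw [← pow_two]; exact_mod_cast hMc
  have h3c : 3 ∣ c := by
    have := T.three_dvd_M hM
    rw [hMc'] at this
    exact (Nat.prime_three.dvd_mul.1 this).elim id id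
  obtain ⟨π⟩ : Nonempty (Fin 2 ↪ Ω) := Function.Embedding.nonempty_of_card_le (by
    rw [Fintype.card_fin, T.card]; omega)
  have hL : ∀ π : Fin 2 ↪ Ω, 3 * (Nat.card (stabilizer G π) : ℤ) = D.Th * M := fun π => by
    refine mul_left_cancel₀ (mul_ne_zero (Nat.cast_ne_zero.2 hp.out.ne_zero : (p : ℤ) ≠ 0)
      D.X_pos.ne') ?_
    linear_combination (T.card_two_stab π).symm.trans hM
  have hLodd : ∀ π : Fin 2 ↪ Ω, Odd (Nat.card (stabilizer G π)) := by
    intro π
    rw [← Nat.not_even_iff_odd, even_iff_two_dvd]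
    intro h2
    obtain ⟨u, hu⟩ := exists_prime_orderOf_dvd_card' (G := stabilizer G π) 2 h2
    have hu' : orderOf (u : G) = 2 := by rw [Subgroup.orderOf_coe, hu]
    have h5 := hinv _ hu'
    have hsub : Finset.univ.map π ⊆ Finset.univ.filter (fun δ : Ω => (u : G) • δ = δ) := by
      intro δ hδ
      obtain ⟨i, -, rfl⟩ := Finset.mem_map.1 hδ
      exact Finset.mem_filter.2 ⟨Finset.mem_univ _, DFunLike.congr_fun u.2 i⟩
    have h6 := Finset.card_le_card hsub
    rw [Finset.card_map, Finset.card_univ, Fintype.card_fin] at h6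
    rw [fx_eq_card] at h5
    omega
  have hcodd : Odd c := by
    by_contra he
    rw [Nat.not_odd_iff_even] at he
    obtain ⟨j, hj⟩ := he
    obtain ⟨o, ho⟩ := hLodd π
    have h := hL π
    rw [hMc', ho, hj] at h
    push_cast at h
    have h' : (2 : ℤ) ∣ 3 * (2 * (o : ℤ) + 1) := ⟨D.Th * (2 * (j : ℤ) * j), by linear_combination h⟩
    omega
  have hc3 : 3 ≤ c := Nat.le_of_dvd (by omega) h3c
  obtain ⟨d, hd⟩ := h3c
  have hcs : c * c = 3 * (3 * d * d) := by rw [hd]; ring
  have hA1 : A = 1 := by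
    rcases T.A_cases hA with e | e
    · exact e
    · exfalso
      haveI : Fintype (Quotient (orbitRel G (Fin 3 ↪ Ω))) := Fintype.ofFinite _
      have horb := card_orbits_triples T hA
      rw [e, Nat.card_eq_fintype_card] at horb
      have htot := Fintype.card_congr (selfEquivSigmaOrbits G (Fin 3 ↪ Ω))
      rw [Fintype.card_sigma] at htot
      have hq : ∀ q : Quotient (orbitRel G (Fin 3 ↪ Ω)), ∃ m : ℕ, Odd m ∧
          (Fintype.card (orbit G q.out) : ℤ) = 3 * (p : ℤ) * D.X * m := by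
        intro q
        set τ := q.out
        set π : Fin 2 ↪ Ω := ⟨fun i => τ i.castSucc, fun i j h =>
          Fin.castSucc_injective _ (τ.injective h)⟩
        have hle : stabilizer G τ ≤ stabilizer G π := fun g hg =>
          Function.Embedding.ext fun i => DFunLike.congr_fun hg i.castSucc
        obtain ⟨m, hm⟩ := Subgroup.card_dvd_of_le hle
        refine ⟨m, ?_, ?_⟩
        · have := hLodd π
          rw [hm] at this
          exact (Nat.odd_mul.1 this).2
        · have h1 : ((Nat.card (stabilizer G τ) * Nat.card (orbit G τ) : ℕ) : ℤ) = Nat.card G := by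
            rw [card_stab_mul_orbit]
          rw [T.card_two_stab π, hm, Nat.card_eq_fintype_card (α := orbit G τ)] at h1
          push_cast at h1
          refine mul_left_cancel₀
            (Nat.cast_ne_zero.2 Nat.card_pos.ne' : (Nat.card (stabilizer G τ) : ℤ) ≠ 0) ?_
          linear_combination h1
      choose m hmodd hm using hq
      have h2 : (∑ q, m q : ℕ) = ((D.Th).toNat) := by
        have h3 : (Fintype.card (Fin 3 ↪ Ω) : ℤ) = 3 * (p : ℤ) * D.X * ((∑ q, m q : ℕ) : ℤ) := by
          rw [htot]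
          push_cast
          rw [Finset.mul_sum]
          exact Finset.sum_congr rfl fun q _ => hm q
        rw [card_triples T.card T] at h3
        have h4 := mul_left_cancel₀ (mul_ne_zero (mul_ne_zero (by norm_num)
          (Nat.cast_ne_zero.2 hp.out.ne_zero : (p : ℤ) ≠ 0)) D.X_pos.ne') h3
        omega
      have heven : Even (∑ q, m q) := by
        rw [Nat.even_iff, Finset.sum_nat_mod,
          Finset.sum_congr rfl fun q _ => Nat.odd_iff.1 (hmodd q), Finset.sum_const, Finset.card_univ,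
          horb]
        norm_num
      rw [h2, T.Th_eq] at heven
      obtain ⟨j, hj⟩ := heven
      obtain ⟨o, ho⟩ := hp.out.odd_of_ne_two (by omega)
      omega
  subst hA1
  have htrans : IsPretransitive G (Fin 3 ↪ Ω) := by
    haveI : Subsingleton (Quotient (orbitRel G (Fin 3 ↪ Ω))) :=
      (Nat.card_eq_one_iff_unique.1 (card_orbits_triples T hA)).1
    exact (pretransitive_iff_subsingleton_quotient G _).2 inferInstance
  have hcard : (Nat.card G : ℤ) = (p : ℤ) * D.X * D.Th * (c : ℤ) ^ 2 := by rw [hM, hMc]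
  have hne : t ≠ 1 := fun e => by rw [e, orderOf_one] at ht; omega
  refine ⟨c, 3 * d * d, { T with
    cube := hA
    card_G := hcard
    c_odd := hcodd
    c_ge := hc3
    c_sq := hcs
    p_mod := hmod
    trans := htrans
    stab := ?_
    invol := hinv
    cls := ?_ }⟩
  · intro τ
    have h1 : ((Nat.card (stabilizer G τ) * Fintype.card (Fin 3 ↪ Ω) : ℕ) : ℤ) = Nat.card G := by
      rw [card_stabilizer_mul]
    rw [hcard] at h1
    push_cast at h1
    rw [card_triples T.card T] at h1
    have h2 : (Nat.card (stabilizer G τ) : ℤ) * 3 = (c : ℤ) ^ 2 :=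
      mul_right_cancel₀ (mul_ne_zero (mul_ne_zero (Nat.cast_ne_zero.2 hp.out.ne_zero : (p : ℤ) ≠ 0)
        D.X_pos.ne') D.Th_pos.ne') (by linear_combination h1)
    have h3 : Nat.card (stabilizer G τ) * 3 = c * c := by rw [← pow_two]; exact_mod_cast h2
    omega
  · intro g hg
    rw [Finset.mem_erase, mem_reg] at hg
    obtain ⟨r, hr, -, heq⟩ := D.exists_pairs hg.1 hg.2 hne (T.invol_reg ht)
    rw [hat, sub_zero, ← T.mv_eq', ← hCdef, hcz, ← hc, hcard] at heq
    have hpne : (p : ℤ) ≠ 0 := Nat.cast_ne_zero.2 hp.out.ne_zero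
    have hcne : (c : ℤ) ≠ 0 := Nat.cast_ne_zero.2 (by omega)
    have h1 : (Nat.card (Subgroup.centralizer ({g} : Set G)) : ℤ) * r = (c : ℤ) * mv Ω g := by
      refine mul_left_cancel₀ (mul_ne_zero (mul_ne_zero (mul_ne_zero (mul_ne_zero hpne hcne)
        D.X_pos.ne') D.X_pos.ne') D.Th_pos.ne') ?_
      linear_combination heq
    refine ⟨r, hr, h1, ?_⟩
    refine mul_left_cancel₀ hcne ?_
    calc (c : ℤ) * (((ClassCount.cls g).card : ℤ) * mv Ω g) =
          ((ClassCount.cls g).card : ℤ) * (Nat.card (Subgroup.centralizer ({g} : Set G))) * r := by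
          rw [mul_assoc, h1]; ring
      _ = (Nat.card G : ℤ) * r := by
          rw [← Nat.cast_mul, ClassCount.card_cls_mul_centralizer]
      _ = _ := by rw [hcard]; ring

end CfsgLib.DegreeThreeP
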