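import Cfsg.Agent.Lib.BrauerReynolds.Setup
import Cfsg.Agent.Lib.Characters.Galois
import Cfsg.Agent.Lib.Small.Basic

/-!
# Simple groups with a Sylow normaliser of order twice a prime

The values of the principal block of a simple group with `|N(P)| = 2p`.
-/

set_option autoImplicit false
set_option linter.style.haveILetI false
set_option linter.unusedSectionVars false

noncomputable section

namespace CfsgLib.DegreeThreeP

open Cfsg CfsgLib.Characters CfsgLib.CyclicDefect CfsgLib.BrauerReynolds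
open scoped ComplexConjugate Classical commutatorElement

universe u

/-- The data of the principal block: the rational character `χ` with values `a` and the
exceptional characters. -/
structure Dat (p : ℕ) (G : Type u) [Group G] [Fintype G] where
  x : G
  χ : IrrCharacter G
  Y : Finset (IrrCharacter G)
  s : ℤ
  k : ℕ
  a : G → ℤ
  p5 : 5 ≤ p
  s_sign : s = 1 ∨ s = -1
  k_pos : 1 ≤ k
  x_order : orderOf x = p
  x_cent : Nat.card (Subgroup.centralizer ({x} : Set G)) = p
  card_eq : ∃ n : ℕ, Nat.card G = 2 * p * n ∧ ¬ p ∣ n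
  syl : Nat.card G = 2 * p * Nat.card (Sylow p G)
  sing_order : ∀ g : G, p ∣ orderOf g → orderOf g = p
  card_sing : 2 * p * (Finset.univ.filter fun g : G => p ∣ orderOf g).card = (p - 1) * Nat.card G
  val : ∀ g : G, (χ : G → ℂ) g = (a g : ℂ)
  a_one : a 1 = (k : ℤ) * p + s
  a_sing : ∀ g : G, p ∣ orderOf g → a g = s
  a_lt : ∀ g : G, g ≠ 1 → a g < (k : ℤ) * p + s
  χ_ne : χ ≠ principalIrr G
  χ_notMem : χ ∉ Y
  one_notMem : principalIrr G ∉ Y
  Y_card : 2 * Y.card + 1 = p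
  Y_reg : ∀ ψ ∈ Y, ∀ g : G, ¬ p ∣ orderOf g → (ψ : G → ℂ) g = ((a g + s : ℤ) : ℂ)
  Y_sing : ∀ g : G, p ∣ orderOf g → ∑ ψ ∈ Y, (ψ : G → ℂ) g = -(s : ℂ)
  outside : ∀ ψ : IrrCharacter G, ψ ≠ principalIrr G → ψ ≠ χ → ψ ∉ Y →
    (∀ g : G, p ∣ orderOf g → (ψ : G → ℂ) g = 0) ∧ p ∣ charDegree (ψ : G → ℂ)

variable {p : ℕ} [hp : Fact p.Prime] {G : Type u} [Group G] [Fintype G]

theorem sing_conj (L : Loc p G) (hC : L.C = (L.P : Subgroup G)) {g : G} (hg : p ∣ orderOf g) :
    ∃ z ∈ (L.P : Subgroup G), z ≠ 1 ∧ IsConj g z := by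
  obtain ⟨m, hm⟩ := hg
  have hm0 : 0 < m := Nat.pos_of_ne_zero fun e => by
    rw [e, mul_zero] at hm
    exact (orderOf_pos g).ne' hm
  set w := g ^ m with hw
  have hwo : orderOf w = p := by
    rw [hw, orderOf_pow' g hm0.ne', hm, Nat.gcd_mul_left_left, Nat.mul_div_cancel _ hm0]
  obtain ⟨Q, hQ⟩ := (IsPGroup.of_card (p := p) (n := 1) (G := Subgroup.zpowers w)
    (by rw [Nat.card_zpowers, hwo, pow_one])).exists_le_sylow
  obtain ⟨c, hc⟩ := MulAction.exists_smul_eq G Q L.P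
  have hwP : c * w * c⁻¹ ∈ (L.P : Subgroup G) := by
    rw [← hc, Sylow.coe_subgroup_smul]
    exact Subgroup.smul_mem_pointwise_smul _ _ _ (hQ (Subgroup.mem_zpowers w))
  have hw1 : c * w * c⁻¹ ≠ 1 := fun e => by
    rw [conj_eq_one_iff] at e
    rw [e, orderOf_one] at hwo
    exact hp.out.one_lt.ne hwo
  have hx : L.x ∈ Subgroup.zpowers (c * w * c⁻¹) :=
    Small.eq_zpowers_of_mem L.hP hwP hw1 ▸ L.hxP
  refine ⟨c * g * c⁻¹, ?_, ?_, isConj_iff.2 ⟨c, rfl⟩⟩
  · rw [← hC, L.mem_C_iff]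
    obtain ⟨j, hj⟩ := Subgroup.mem_zpowers_iff.1 hx
    rw [← hj]
    refine ((?_ : Commute (c * g * c⁻¹) (c * w * c⁻¹)).zpow_right j).eq
    have : c * w * c⁻¹ = (c * g * c⁻¹) ^ m := by rw [conj_pow]
    rw [this]
    exact Commute.self_pow _ _
  · rw [Ne, conj_eq_one_iff]
    rintro rfl
    exact hw1 (by rw [hw, one_pow, mul_one, mul_inv_cancel])

theorem C_eq_P (L : Loc p G) (hperf : commutator G = ⊤) (hN : Nat.card L.N = 2 * p) :
    L.C = (L.P : Subgroup G) ∧ eN L = 2 := by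
  have h2 := two_le_eN L hperf
  have h3 : Nat.card L.C * eN L = 2 * p := by
    rw [← hN, eN, ← Nat.card_congr (Subgroup.subgroupOfEquivOfLe L.C_le_N).toEquiv]
    exact Subgroup.card_mul_index _
  obtain ⟨m, hm⟩ := Subgroup.card_dvd_of_le L.P_le_C
  rw [L.hP] at hm
  rw [hm, mul_comm 2 p, mul_assoc] at h3
  have h4 := Nat.eq_of_mul_eq_mul_left hp.out.pos h3
  have hm1 : m = 1 := by
    rcases Nat.eq_zero_or_pos m with h0 | h0
    · rw [h0, zero_mul] at h4; omega
    · by_contra hne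
      have : 2 * 2 ≤ m * eN L := Nat.mul_le_mul (by omega) h2
      omega
  rw [hm1, one_mul] at h4
  refine ⟨(Subgroup.eq_of_le_of_card_ge L.P_le_C ?_).symm, h4⟩
  rw [hm, hm1, mul_one, L.hP]

theorem exists_dat [IsSimpleGroup G] (hG : ¬ IsMulCommutative G) (hp3 : 3 < p)
    (hdvd : p ∣ Nat.card G) (P : Sylow p G)
    (hN : Nat.card ↥(Subgroup.normalizer ((P : Subgroup G) : Set G)) = 2 * p) :
    Nonempty (Dat p G) := by
  have hperf : commutator G = ⊤ := by
    refine (Small.eq_bot_or_top (commutator G)).resolve_left fun h => hG ?_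
    exact ⟨⟨fun a b => commutatorElement_eq_one_iff_mul_comm.1 (Subgroup.mem_bot.1
      (h ▸ (Subgroup.commutator_mem_commutator (Subgroup.mem_top a) (Subgroup.mem_top b) :
        ⁅a, b⁆ ∈ commutator G)))⟩⟩
  have hpp := hp.out
  have hP : Nat.card P = p := by
    obtain ⟨j, hj⟩ := IsPGroup.iff_card.1 P.2
    have h1 : Nat.card (P : Subgroup G) ∣ 2 * p := hN ▸ Subgroup.card_dvd_of_le Subgroup.le_normalizer
    rw [hj] at h1 ⊢
    rcases j with _ | _ | j
    · exfalso
      have := P.dvd_card_of_dvd_card hdvd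
      rw [hj, pow_zero, Nat.dvd_one] at this
      exact hpp.one_lt.ne' this
    · rw [pow_one]
    · exfalso
      have h2 : p * p ∣ p * 2 := by
        rw [mul_comm p 2]
        exact dvd_trans ⟨p ^ j, by rw [pow_succ, pow_succ]; ring⟩ h1
      have := Nat.le_of_dvd (by omega) (Nat.dvd_of_mul_dvd_mul_left hpp.pos h2)
      omega
  obtain ⟨L, rfl⟩ := exists_loc P hP
  obtain ⟨hC, he⟩ := C_eq_P L hperf hN
  haveI : Fintype L.Dual := @Fintype.ofFinite _ L.finite_dual
  have hO : Nat.card L.O = 1 := by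
    have h1 := L.card_C
    rw [hC, L.hP] at h1
    exact (Nat.eq_of_mul_eq_mul_left hpp.pos ((mul_one p).trans h1)).symm
  have hq : 2 * qN L + 1 = p := by
    have h := eN_mul_qN' L
    rw [he] at h
    omega
  have hq2 : 2 ≤ qN L := by omega
  obtain ⟨εY, X, Y, s, hB⟩ := exists_block L (by omega) hperf
  set o := principalIrr G with ho
  have hoX : o ∈ X := hB.one_mem hq2
  obtain ⟨χ, hχ⟩ : ∃ χ, X.erase o = {χ} := by
    refine Finset.card_eq_one.1 ?_
    rw [Finset.card_erase_of_mem hoX, hB.cardX, he]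
  have hχm : χ ∈ X.erase o := hχ ▸ Finset.mem_singleton_self χ
  have hχX : χ ∈ X := Finset.mem_of_mem_erase hχm
  have hχne : χ ≠ o := Finset.ne_of_mem_erase hχm
  have hXmem : ∀ ψ ∈ X, ψ = o ∨ ψ = χ := fun ψ hψ => by
    by_cases h : ψ = o
    · exact Or.inl h
    · exact Or.inr (Finset.mem_singleton.1 (hχ ▸ Finset.mem_erase.2 ⟨h, hψ⟩))
  obtain ⟨hs, ⟨K, hK⟩, hval⟩ := hB.sign χ (Or.inl hχX)
  have hd : (2 : ℤ) ≤ charDegree (χ : G → ℂ) := by
    have h1 := BrauerReynolds.deg_pos χ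
    have h2 : charDegree (χ : G → ℂ) ≠ 1 := fun e => hχne (deg_one_iff hperf χ e)
    omega
  have hp5 : 5 ≤ p := by omega
  have hp5Z : (5 : ℤ) ≤ p := by exact_mod_cast hp5
  have hK1 : 1 ≤ K := by
    by_contra hc
    have : (p : ℤ) * K ≤ 0 := mul_nonpos_of_nonneg_of_nonpos (by positivity) (by omega)
    rcases hs with e | e <;> omega
  -- values at singular elements
  have hsval : ∀ g : G, p ∣ orderOf g → (χ : G → ℂ) g = (s χ : ℂ) := by
    intro g hg
    obtain ⟨z, hz, hz1, hconj⟩ := sing_conj L hC hg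
    rw [classFunction_eq_of_isConj (irr_isClassFunction χ) hconj, ← mul_one z]
    exact hval z hz hz1 1 (one_mem _) (by rw [orderOf_one]; exact hpp.not_dvd_one)
  have hsc : (s χ : ℂ) ≠ 0 := by rcases hs with e | e <;> simp [e]
  have hdegχ : (χ : G → ℂ) 1 = ((s χ + p * K : ℤ) : ℂ) := by
    rw [deg_eq, ← hK, Int.cast_natCast]
  -- the exceptional characters
  have hr1 : ¬ p ∣ orderOf (1 : G) := by rw [orderOf_one]; exact hpp.not_dvd_one
  have hXsum : ∀ f : IrrCharacter G → ℂ, ∑ ψ ∈ X, f ψ = f o + f χ := fun f => by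
    rw [← Finset.add_sum_erase X f hoX, hχ, Finset.sum_singleton]
  have hrel : ∀ ψ ∈ Y, ∀ g : G, ¬ p ∣ orderOf g →
      (εY : ℂ) * (ψ : G → ℂ) g = 1 + (s χ : ℂ) * (χ : G → ℂ) g := fun ψ hψ g hg => by
    rw [hB.rel ψ hψ g hg, hXsum, hB.s_one, Int.cast_one, one_mul, ho, principalIrr_apply]
  obtain ⟨ψ₁, hψ₁⟩ : Y.Nonempty := Finset.card_pos.1 (by rw [hB.cardY]; omega)
  have hεs : εY = s χ := by
    have h0 := hrel ψ₁ hψ₁ 1 hr1
    rw [deg_eq, deg_eq χ] at h0
    have h1 : εY * (charDegree (ψ₁ : G → ℂ) : ℤ) = 1 + s χ * (charDegree (χ : G → ℂ) : ℤ) := by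
      exact_mod_cast h0
    have h2 : (0 : ℤ) < charDegree (ψ₁ : G → ℂ) := by exact_mod_cast BrauerReynolds.deg_pos ψ₁
    rcases hB.εY_sign with e | e <;> rcases hs with e' | e' <;> subst e <;> rw [e'] at h1 ⊢
    · omega
    · omega
  have hYreg : ∀ ψ ∈ Y, ∀ g : G, ¬ p ∣ orderOf g →
      (ψ : G → ℂ) g = (χ : G → ℂ) g + (s χ : ℂ) := fun ψ hψ g hg => by
    have h0 := hrel ψ hψ g hg
    rw [hεs] at h0
    rcases hs with e | e <;> rw [e] at h0 ⊢ <;> push_cast at h0 ⊢
    · linear_combination h0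
    · linear_combination -h0
  have hχY : χ ∉ Y := Finset.disjoint_left.1 hB.disj hχX
  have hout : ∀ ψ : IrrCharacter G, ψ ≠ o → ψ ≠ χ → ψ ∉ Y →
      (∀ g : G, p ∣ orderOf g → (ψ : G → ℂ) g = 0) ∧ p ∣ charDegree (ψ : G → ℂ) := by
    intro ψ h1 h2 h3
    obtain ⟨hv, k, hk⟩ := hB.outside hO ψ (fun h => (hXmem ψ h).elim h1 h2) h3
    refine ⟨fun g hg => ?_, ⟨k, hk⟩⟩
    obtain ⟨z, hz, hz1, hconj⟩ := sing_conj L hC hg
    rw [classFunction_eq_of_isConj (irr_isClassFunction ψ) hconj, hv z hz hz1]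
  have hx : p ∣ orderOf L.x := by rw [L.hx]
  -- rationality
  have hfix : ∀ g : G, ∀ m : ℕ, m.Coprime (Nat.card G) →
      (χ : G → ℂ) (g ^ m) = (χ : G → ℂ) g := by
    intro g m hm
    let χ' : IrrCharacter G := ⟨_, CharGalois.isIrrCharacter_pow χ.2 hm⟩
    have h1 : (χ' : G → ℂ) 1 = (χ : G → ℂ) 1 := by
      show (χ : G → ℂ) (1 ^ m) = _
      rw [one_pow]
    have hxm : p ∣ orderOf (L.x ^ m) := by
      rw [Nat.Coprime.orderOf_pow]
      · exact hx
      · exact (hm.coprime_dvd_right (orderOf_dvd_natCard L.x)).symm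
    have hx' : (χ' : G → ℂ) L.x = (s χ : ℂ) := hsval _ hxm
    suffices hEq : χ' = χ from congrFun (congrArg Subtype.val hEq) g
    by_contra hne
    by_cases hY : χ' ∈ Y
    · have := hYreg χ' hY 1 hr1
      rw [h1] at this
      exact hsc (by linear_combination -this)
    · by_cases ho' : χ' = o
      · rw [ho', ho, principalIrr_apply, deg_eq] at h1
        have : charDegree (χ : G → ℂ) = 1 := by exact_mod_cast h1.symm
        omega
      · exact hsc (hx'.symm.trans ((hout χ' ho' hne hY).1 L.x hx))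
  have hint : ∀ g : G, ∃ z : ℤ, (χ : G → ℂ) g = (z : ℂ) := by
    intro g
    obtain ⟨q, hq'⟩ := CharGalois.exists_rat_char (irr_isCharacter χ) g (hfix g)
    obtain ⟨z, hz⟩ := exists_int_of_isIntegral_rat (hq' ▸ ClassCount.irr_isIntegral χ g)
    exact ⟨z, by rw [hq', ← hz, Rat.cast_intCast]⟩
  choose a ha using hint
  have haone : a 1 = (K.toNat : ℤ) * p + s χ := by
    have := (ha 1).symm.trans hdegχ
    rw [Int.cast_inj] at this
    rw [this, Int.toNat_of_nonneg (by omega)]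
    ring
  have hasing : ∀ g : G, p ∣ orderOf g → a g = s χ := fun g hg => by
    have := (ha g).symm.trans (hsval g hg)
    exact_mod_cast this
  have hlt : ∀ g : G, g ≠ 1 → a g < (K.toNat : ℤ) * p + s χ := by
    intro g hg
    have hle : a g ≤ a 1 := by
      have h1 := norm_le_degree_of_isCharacter (irr_isCharacter χ) g
      rw [ha g, ha 1, Complex.norm_intCast, Complex.norm_intCast] at h1
      have hpos : (0 : ℤ) ≤ a 1 := by
        have := (ha 1).symm.trans (deg_eq χ)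
        have h3 : a 1 = (charDegree (χ : G → ℂ) : ℤ) := by exact_mod_cast this
        omega
      have h2 : |a g| ≤ |a 1| := by exact_mod_cast h1
      rw [abs_of_nonneg hpos] at h2
      exact le_trans (le_abs_self _) h2
    refine lt_of_le_of_ne (haone ▸ hle) fun he' => ?_
    obtain ⟨d, ρ, hρ⟩ := irr_isCharacter χ
    have hd1 : (Module.finrank ℂ (Fin d → ℂ) : ℂ) = (χ : G → ℂ) 1 := by
      rw [← hρ, Representation.char_one]
    have hg' : g ∈ MonoidHom.ker ρ := by
      refine MonoidHom.mem_ker.2 ((char_eq_degree_iff ρ g).1 ?_)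
      rw [hρ, hd1, ha, ha, haone, he']
    rcases Small.eq_bot_or_top (MonoidHom.ker ρ) with h2 | h2
    · rw [h2] at hg'
      exact hg (Subgroup.mem_bot.1 hg')
    · have h3 : (χ : G → ℂ) L.x = (χ : G → ℂ) 1 := by
        rw [← hρ, Representation.character, MonoidHom.mem_ker.1 (h2 ▸ Subgroup.mem_top L.x),
          LinearMap.trace_one, hd1, hρ]
      rw [hsval L.x hx, hdegχ, Int.cast_inj] at h3
      have : (p : ℤ) * K = 0 := by linarith
      rcases mul_eq_zero.1 this with h | h <;> omega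
  -- counting
  have hsing : ∀ g : G, p ∣ orderOf g → orderOf g = p := by
    intro g hg
    obtain ⟨z, hz, hz1, hconj⟩ := sing_conj L hC hg
    obtain ⟨c, rfl⟩ := isConj_iff.1 hconj
    have h1 : orderOf (c * g * c⁻¹) = p := by
      have h2 := Subgroup.orderOf_dvd_natCard _ hz
      rw [L.hP] at h2
      exact (hpp.eq_one_or_self_of_dvd _ h2).resolve_left fun e => hz1 (orderOf_eq_one_iff.1 e)
    exact (orderOf_injective (MulAut.conj c).toMonoidHom (MulAut.conj c).injective g).symm.trans h1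
  have hnp : Nat.card G = 2 * p * Nat.card (Sylow p G) := by
    rw [L.P.card_eq_index_normalizer, ← Subgroup.card_mul_index L.N, hN]
    rfl
  have hndvd : ¬ p ∣ Nat.card (Sylow p G) := not_dvd_card_sylow p G
  have hcard : 2 * p * (Finset.univ.filter fun g : G => p ∣ orderOf g).card =
      (p - 1) * Nat.card G := by
    have h1 : (Finset.univ.filter fun g : G => p ∣ orderOf g).card =
        Nat.card {g : G // orderOf g = p} := by
      rw [Nat.card_eq_fintype_card, Fintype.card_subtype]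
      exact congrArg Finset.card (Finset.filter_congr fun g _ =>
        ⟨hsing g, fun e => e ▸ dvd_refl _⟩)
    rw [h1, Small.card_orderOf_eq_prime, hnp]
    · ring
    · intro Q
      rw [Q.card_eq_multiplicity, ← L.P.card_eq_multiplicity, L.hP]
  refine ⟨⟨L.x, χ, Y, s χ, K.toNat, a, hp5, hs, by omega, L.hx, ?_, ⟨_, hnp, hndvd⟩, hnp, hsing, hcard,
    ha, haone, hasing, hlt, hχne, hχY, Finset.disjoint_left.1 hB.disj hoX,
    by rw [hB.cardY]; omega, fun ψ hψ g hg => by rw [hYreg ψ hψ g hg, ha, Int.cast_add], ?_, hout⟩⟩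
  · have h1 : Subgroup.centralizer ({L.x} : Set G) = (L.P : Subgroup G) :=
      (Subgroup.ext fun c => Subgroup.mem_centralizer_singleton_iff.trans L.mem_C_iff.symm).trans hC
    rw [h1]
    exact L.hP
  · intro g hg
    have hg1 : g ≠ 1 := fun e => hr1 (e ▸ hg)
    have h0 := sum_degree_mul_irr g
    rw [if_neg hg1, ← Finset.sum_subset (Finset.subset_univ (X ∪ Y)) fun ψ _ hψ => by
        rw [Finset.mem_union, not_or] at hψ
        rw [(hout ψ (fun e => hψ.1 (e ▸ hoX)) (fun e => hψ.1 (e ▸ hχX)) hψ.2).1 g hg, mul_zero],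
      Finset.sum_union hB.disj, hXsum, ho, principalIrr_apply, principalIrr_apply, hsval g hg,
      Finset.sum_congr rfl fun ψ hψ => by rw [hYreg ψ hψ 1 hr1], ← Finset.mul_sum] at h0
    have hne : (χ : G → ℂ) 1 + (s χ : ℂ) ≠ 0 := by
      rw [← hYreg ψ₁ hψ₁ 1 hr1]
      exact irr_one_ne_zero ψ₁
    refine mul_left_cancel₀ hne ?_
    have hs2 : (s χ : ℂ) * (s χ : ℂ) = 1 := by rcases hs with e | e <;> simp [e]
    linear_combination h0 + hs2

end CfsgLib.DegreeThreeP
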