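import Cfsg.Agent.Lib.DegreeThreeP.Action
import Mathlib.GroupTheory.GroupAction.MultipleTransitivity

/-!
# Counting tuples in permutation groups
-/

set_option autoImplicit false
set_option linter.style.haveILetI false
set_option linter.unusedSectionVars false

noncomputable section

namespace CfsgLib.DegreeThreeP

open MulAction
open scoped Classical

universe u v

variable {G : Type u} [Group G] [Fintype G] {Ω : Type v} [Fintype Ω] [MulAction G Ω]

theorem card_stab_mul_orbit {U : Type v} [Fintype U] [MulAction G U] (x : U) :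
    Nat.card (stabilizer G x) * Nat.card (orbit G x) = Nat.card G := by
  rw [Nat.card_congr (orbitEquivQuotientStabilizer G x), ← Subgroup.index,
    Subgroup.card_mul_index]

/-- Over an invariant set the stabiliser orders sum to a multiple of the group order. -/
theorem dvd_sum_stabilizer {U : Type v} [Fintype U] [MulAction G U] (S : Finset U)
    (hS : ∀ (g : G), ∀ x ∈ S, g • x ∈ S) :
    Nat.card G ∣ ∑ x ∈ S, Nat.card (stabilizer G x) := by
  rw [← Finset.sum_fiberwise_of_maps_to (t := S.image (Quotient.mk (orbitRel G U)))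
    (g := Quotient.mk (orbitRel G U)) (fun x hx => Finset.mem_image_of_mem _ hx)]
  refine Finset.dvd_sum fun q hq => ?_
  obtain ⟨x, hx, rfl⟩ := Finset.mem_image.1 hq
  have hfib : S.filter (fun y => Quotient.mk (orbitRel G U) y = Quotient.mk _ x) =
      Finset.univ.filter (fun y => y ∈ orbit G x) := by
    ext y
    simp only [Finset.mem_filter, Finset.mem_univ, true_and]
    refine ⟨fun h => orbitRel_apply.1 (Quotient.exact h.2), fun h => ?_⟩
    refine ⟨?_, Quotient.sound (orbitRel_apply.2 h)⟩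
    obtain ⟨g, rfl⟩ := h
    exact hS g x hx
  rw [hfib, Finset.sum_congr rfl (g := fun _ => Nat.card (stabilizer G x)), Finset.sum_const,
    smul_eq_mul, ← Fintype.card_subtype, ← Nat.card_eq_fintype_card]
  · rw [mul_comm]
    exact (card_stab_mul_orbit x).symm.dvd
  · intro y hy
    obtain ⟨g, rfl⟩ := (Finset.mem_filter.1 hy).2
    have h1 := card_stab_mul_orbit (G := G) x
    have h2 := card_stab_mul_orbit (G := G) (g • x)
    rw [show orbit G (g • x) = orbit G x from orbit_smul g x, ← h1] at h2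
    haveI : Nonempty (orbit G x) := ⟨⟨x, mem_orbit_self x⟩⟩
    exact Nat.eq_of_mul_eq_mul_right Nat.card_pos h2

theorem pow_smul_mod {g : G} {n : ℕ} {δ : Ω} (h : g ^ n • δ = δ) (k : ℕ) :
    g ^ k • δ = g ^ (k % n) • δ := by
  conv_lhs => rw [← Nat.mod_add_div k n, pow_add, mul_smul]
  have : ∀ i : ℕ, (g ^ n) ^ i • δ = δ := fun i => by
    induction i with
    | zero => rw [pow_zero, one_smul]
    | succ i ih => rw [pow_succ, mul_smul, h, ih]
  rw [pow_mul, this]

/-- The sum of `f (g ^ n) f (g) ^ j` is a multiple of the group order. -/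
theorem dvd_sum_fx (n : ℕ) [NeZero n] (j : ℕ) :
    (Nat.card G : ℤ) ∣ ∑ g : G, fx Ω (g ^ n) * fx Ω g ^ j := by
  let R : G → (Fin j → Ω) × (ZMod n → Ω) → Prop := fun g τ =>
    (∀ i, g • τ.1 i = τ.1 i) ∧ ∀ i, g • τ.2 i = τ.2 (i + 1)
  have hcount : ∀ g : G, fx Ω (g ^ n) * fx Ω g ^ j =
      ((Finset.univ.filter fun τ => R g τ).card : ℤ) := by
    intro g
    have hiter : ∀ τ, R g τ → ∀ k : ℕ, g ^ k • τ.2 0 = τ.2 (k : ZMod n) := by
      intro τ hτ k
      induction k with
      | zero => simp
      | succ k ih => rw [pow_succ', mul_smul, ih, hτ.2, Nat.cast_succ]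
    let e : {τ // R g τ} ≃ fixedBy Ω (g ^ n) × (Fin j → fixedBy Ω g) :=
      { toFun := fun τ => (⟨τ.1.2 0, by
            show g ^ n • τ.1.2 0 = τ.1.2 0
            rw [hiter τ.1 τ.2, ZMod.natCast_self]⟩, fun i => ⟨τ.1.1 i, τ.2.1 i⟩)
        invFun := fun z => ⟨(fun i => (z.2 i).1, fun i => g ^ i.val • z.1.1), fun i => (z.2 i).2,
          fun i => by
            have hz : g ^ n • z.1.1 = z.1.1 := z.1.2
            show g • g ^ i.val • z.1.1 = g ^ (i + 1).val • z.1.1
            rw [← mul_smul, ← pow_succ', pow_smul_mod hz (i.val + 1),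
              show (i + 1).val = (i.val + 1) % n by
                conv_lhs => rw [← ZMod.natCast_zmod_val i, ← Nat.cast_succ]
                rw [ZMod.val_natCast]]⟩
        left_inv := fun τ => Subtype.ext (Prod.ext rfl (funext fun i => by
          show g ^ i.val • τ.1.2 0 = τ.1.2 i
          rw [hiter τ.1 τ.2, ZMod.natCast_zmod_val]))
        right_inv := fun z => Prod.ext (Subtype.ext (by
          show g ^ (0 : ZMod n).val • z.1.1 = z.1.1
          rw [ZMod.val_zero, pow_zero, one_smul])) rfl }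
    rw [← Fintype.card_subtype, ← Nat.card_eq_fintype_card, Nat.card_congr e, Nat.card_prod,
      Nat.card_fun, Nat.card_fin]
    simp [fx]
  set S : Finset ((Fin j → Ω) × (ZMod n → Ω)) := Finset.univ.filter fun τ => ∃ g, R g τ
  have hS : ∀ g : G, ∀ τ ∈ S, g • τ ∈ S := by
    intro h τ hτ
    rw [Finset.mem_filter] at hτ ⊢
    obtain ⟨g, h1, h2⟩ := hτ.2
    refine ⟨Finset.mem_univ _, h * g * h⁻¹, fun i => ?_, fun i => ?_⟩
    · show (h * g * h⁻¹) • h • τ.1 i = h • τ.1 i
      rw [mul_smul, inv_smul_smul, mul_smul, h1]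
    · show (h * g * h⁻¹) • h • τ.2 i = h • τ.2 (i + 1)
      rw [mul_smul, inv_smul_smul, mul_smul, h2]
  simp only [hcount, ← Nat.cast_sum]
  refine Int.natCast_dvd_natCast.2 ?_
  simp only [Finset.card_filter]
  rw [Finset.sum_comm, ← Finset.sum_subset (Finset.subset_univ S)]
  · convert dvd_sum_stabilizer S hS using 1
    refine Finset.sum_congr rfl fun τ hτ => ?_
    obtain ⟨g₀, h1, h2⟩ := (Finset.mem_filter.1 hτ).2
    rw [← Finset.card_filter, ← Fintype.card_subtype, ← Nat.card_eq_fintype_card]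
    refine Nat.card_congr ⟨fun g => ⟨g₀⁻¹ * g.1, ?_⟩, fun h => ⟨g₀ * h.1, ?_⟩,
      fun g => Subtype.ext (mul_inv_cancel_left _ _), fun h => Subtype.ext (inv_mul_cancel_left _ _)⟩
    · refine Prod.ext (funext fun i => ?_) (funext fun i => ?_)
      · show (g₀⁻¹ * g.1) • τ.1 i = τ.1 i
        rw [mul_smul, g.2.1, inv_smul_eq_iff, h1]
      · show (g₀⁻¹ * g.1) • τ.2 i = τ.2 i
        rw [mul_smul, g.2.2, inv_smul_eq_iff, h2]
    · have hh : h.1 • τ = τ := h.2
      refine ⟨fun i => ?_, fun i => ?_⟩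
      · rw [mul_smul, show h.1 • τ.1 i = τ.1 i from congrFun (congrArg Prod.fst hh) i, h1]
      · rw [mul_smul, show h.1 • τ.2 i = τ.2 i from congrFun (congrArg Prod.snd hh) i, h2]
  · intro τ _ hτ
    refine Finset.sum_eq_zero fun g _ => if_neg fun h => hτ ?_
    exact Finset.mem_filter.2 ⟨Finset.mem_univ _, g, h⟩

/-- Fixed points on tuples of distinct points. -/
theorem fx_emb (n : ℕ) (g : G) :
    fx (Fin n ↪ Ω) g = (((fx Ω g).toNat.descFactorial n : ℕ) : ℤ) := by
  let e : fixedBy (Fin n ↪ Ω) g ≃ (Fin n ↪ fixedBy Ω g) :=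
    { toFun := fun f => ⟨fun i => ⟨f.1 i, DFunLike.congr_fun f.2 i⟩,
        fun a b h => f.1.injective (congrArg Subtype.val h)⟩
      invFun := fun f => ⟨f.trans (Function.Embedding.subtype _),
        Function.Embedding.ext fun i => (f i).2⟩
      left_inv := fun f => rfl
      right_inv := fun f => rfl }
  rw [fx, Nat.card_congr e, Nat.card_eq_fintype_card, Fintype.card_embedding_eq,
    Fintype.card_fin, fx, Int.toNat_natCast, Nat.card_eq_fintype_card]

theorem desc_three {z : ℤ} (h : 0 ≤ z) :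
    (((z.toNat).descFactorial 3 : ℕ) : ℤ) = z * (z - 1) * (z - 2) := by
  obtain ⟨n, rfl⟩ := Int.eq_ofNat_of_zero_le h
  rw [Int.toNat_natCast]
  rcases n with _ | _ | n
  · simp [Nat.descFactorial]
  · simp [Nat.descFactorial]
  · simp [Nat.descFactorial]
    ring

theorem desc_two {z : ℤ} (h : 0 ≤ z) :
    (((z.toNat).descFactorial 2 : ℕ) : ℤ) = z * (z - 1) := by
  obtain ⟨n, rfl⟩ := Int.eq_ofNat_of_zero_le h
  rw [Int.toNat_natCast]
  rcases n with _ | n
  · simp [Nat.descFactorial]
  · simp [Nat.descFactorial]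
    ring

/-- A class function weighted by fixed points, as a sum over a stabiliser. -/
theorem sum_mul_fx {R : Type*} [CommRing R] {U : Type v} [Fintype U] [MulAction G U]
    [IsPretransitive G U] (φ : G → R) (hφ : ∀ g h : G, φ (h * g * h⁻¹) = φ g) (x : U) :
    ∑ g : G, φ g * ((fx U g : ℤ) : R) =
      (Fintype.card U : R) * ∑ g ∈ Finset.univ.filter (fun g : G => g • x = x), φ g := by
  have hy : ∀ y : U, ∑ g ∈ Finset.univ.filter (fun g : G => g • y = y), φ g =
      ∑ g ∈ Finset.univ.filter (fun g : G => g • x = x), φ g := by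
    intro y
    obtain ⟨c, rfl⟩ := exists_smul_eq G x y
    refine Finset.sum_nbij' (fun g => c⁻¹ * g * c) (fun g => c * g * c⁻¹) ?_ ?_ ?_ ?_ ?_
    · intro g hg
      simp only [Finset.mem_filter, Finset.mem_univ, true_and, Finset.coe_filter, Set.mem_setOf_eq] at hg ⊢
      rw [mul_smul, mul_smul, hg, inv_smul_smul]
    · intro g hg
      simp only [Finset.mem_filter, Finset.mem_univ, true_and, Finset.coe_filter, Set.mem_setOf_eq] at hg ⊢
      rw [mul_smul, mul_smul, inv_smul_smul, hg]
    · intro g _; simp [mul_assoc]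
    · intro g _; simp [mul_assoc]
    · intro g _
      simpa [mul_assoc] using (hφ g c⁻¹).symm
  have e : ∀ g : G, φ g * ((fx U g : ℤ) : R) = ∑ y : U, if g • y = y then φ g else 0 := fun g => by
    rw [← Finset.sum_filter, Finset.sum_const, fx_eq_card, Int.cast_natCast, nsmul_eq_mul, mul_comm]
  simp only [e]
  rw [Finset.sum_comm]
  simp only [← Finset.sum_filter, hy, Finset.sum_const, Finset.card_univ, nsmul_eq_mul]

end CfsgLib.DegreeThreeP
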